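import Cfsg.Agent.Lib.Characterizations.HallJanko.Complement
import Cfsg.Agent.Lib.Involution.OrderFormula
import Cfsg.Agent.Lib.Components.GenFitting
import Cfsg.Agent.Lib.Solvable.Cores
import Cfsg.Prelude.Def_Classical
import Cfsg.Agent.S0824
import Mathlib.GroupTheory.SpecificGroups.Alternating.Centralizer

/-!
# The two classes of involutions of a group of Hall–Janko type
-/

set_option autoImplicit false
set_option linter.style.haveILetI false
set_option linter.unusedSectionVars false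

namespace CfsgLib.Characterizations.HallJanko

open CfsgLib.Characterizations.HallJankoCount
open CfsgLib.Involution.Dihedral

variable {G : Type*} [Group G] [Finite G]

/-- Groups of Hall–Janko type: `C(z) = QK` with the configuration `2^{1+4}·A₅`, `z` fused into `Q`, two classes. -/
structure HJ (z : G) (Q K : Subgroup G) : Prop where
  hz : orderOf z = 2
  setting : Setting Q K z
  sup : K ⊔ Q = Subgroup.centralizer ({z} : Set G)
  fused : ∃ u ∈ invs Q z, IsConj z u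
  cent_le : ∀ c ∈ Subgroup.centralizer ({z} : Set G), (∀ q ∈ Q, c * q * c⁻¹ = q) → c ∈ Q
  two : ∃ x y : G, orderOf x = 2 ∧ orderOf y = 2 ∧ ¬ IsConj x y

set_option maxRecDepth 100000 in
theorem five_cycle_transitive : ∀ σ : Equiv.Perm (Fin 5), σ ^ 5 = 1 → σ ≠ 1 → ∀ i j, ∃ n : Fin 5, (σ ^ (n : ℕ)) i = j := by
  decide +kernel

/-- The non-central involutions of `Q` are conjugate in `Q ⟨g⟩`. -/
theorem invs_conj {Q C : Subgroup G} {z : G} (h : Pre Q C z) {u w : G} (hu : u ∈ invs Q z)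
    (hw : w ∈ invs Q z) : ∃ c ∈ C ⊔ Q, c * u * c⁻¹ = w := by
  obtain ⟨g, hgC, hg⟩ := h.has_five
  obtain ⟨t, φ, h5, ht, hall, hdist, heq⟩ := exists_frame_pre h
  have hflip : ∀ x ∈ invs Q z, ∀ y, Near z x y → ∃ c ∈ C ⊔ Q, c * x * c⁻¹ = y := by
    rintro x hx y (rfl | rfl)
    · exact ⟨1, one_mem _, by simp⟩
    · obtain ⟨q, hq, he⟩ := h.extra.exists_conj_eq hx.1 hx.2.2.1 hx.2.2.2
      exact ⟨q, le_sup_right (a := C) hq, he⟩
  obtain ⟨i, hi⟩ := hall u hu
  obtain ⟨j, hj⟩ := hall w hw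
  have hg5 : (⟨g, hgC⟩ : ↥C) ^ 5 = 1 := Subtype.ext (by
    rw [Subgroup.coe_pow, Subgroup.coe_one]
    exact hg ▸ pow_orderOf_eq_one g)
  obtain ⟨n, hn⟩ := five_cycle_transitive (φ ⟨g, hgC⟩) (by rw [← map_pow, hg5, map_one]) (h5 _ hg) i j
  have hn' : φ ((⟨g, hgC⟩ : ↥C) ^ (n : ℕ)) i = j := by rw [map_pow]; exact hn
  have h1 := heq ((⟨g, hgC⟩ : ↥C) ^ (n : ℕ)) i
  rw [hn'] at h1
  obtain ⟨a, haC, ha⟩ := hflip u hu (t i) (near_symm h hi)
  have hx : g ^ (n : ℕ) * t i * (g ^ (n : ℕ))⁻¹ ∈ invs Q z := by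
    refine ⟨h.norm _ (pow_mem hgC _) _ (ht i).1, by rw [conj_mul, (ht i).2.1]; group,
      fun e => (ht i).2.2.1 (conj_eq_one_iff.1 e), fun e => (ht i).2.2.2 ?_⟩
    exact mul_left_cancel (mul_right_cancel (e.trans (conj_z h (pow_mem hgC _)).symm))
  obtain ⟨b, hbC, hb⟩ := hflip _ hx w (near_trans h (near_symm h h1) hj)
  refine ⟨b * g ^ (n : ℕ) * a, mul_mem (mul_mem hbC (le_sup_left (b := Q) (pow_mem hgC _))) haC, ?_⟩
  rw [← hb, ← ha]
  group

theorem omega_equiv : Nonempty (↥(Cfsg.Omega (ZMod 2) (Cfsg.quadFormMinus 1 (ZMod 2) 1 1)) ≃* alternatingGroup (Fin 5)) := by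
  obtain ⟨e⟩ := Cfsg.Agent.S0824.result (F := ZMod 2) (ZMod.card 2)
  have h := alternatingGroup.commutator_perm_eq (α := Fin 5) (by simp)
  have hmap : (commutator ↥(Cfsg.isometryGroup (ZMod 2) (Cfsg.quadFormMinus 1 (ZMod 2) 1 1))).map e.toMonoidHom =
      alternatingGroup (Fin 5) := by
    rw [← h, _root_.commutator_def, _root_.commutator_def, Subgroup.map_commutator,
      Subgroup.map_top_of_surjective _ e.surjective]
  exact ⟨(Subgroup.equivMapOfInjective _ _ e.injective).trans (MulEquiv.subgroupCongr hmap)⟩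

/-- The hypotheses of the Hall–Janko type rows. -/
theorem exists_hj (z : G) (hz : orderOf z = 2) (Q : Subgroup (Subgroup.centralizer ({z} : Set G))) [Q.Normal]
    (hF : Cfsg.generalizedFittingSubgroup (Subgroup.centralizer ({z} : Set G)) = Q) (hQ : Cfsg.IsExtraspecial 2 Q)
    (hcard : Nat.card Q = 2 ^ 5)
    (e : (Subgroup.centralizer ({z} : Set G)) ⧸ Q ≃* Cfsg.Omega (ZMod 2) (Cfsg.quadFormMinus 1 (ZMod 2) 1 1))
    (hnwc : ∃ g : G, (∃ hq : g * z * g⁻¹ ∈ Subgroup.centralizer ({z} : Set G),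
      (⟨g * z * g⁻¹, hq⟩ : Subgroup.centralizer ({z} : Set G)) ∈ Q) ∧ g * z * g⁻¹ ≠ z)
    (hcl : ∃ x y : G, orderOf x = 2 ∧ orderOf y = 2 ∧ ¬ IsConj x y) :
    ∃ Q' K : Subgroup G, HJ z Q' K := by
  classical
  haveI : Fact (Nat.Prime 2) := ⟨Nat.prime_two⟩
  generalize hC : Subgroup.centralizer ({z} : Set G) = C at *
  have hzC : z ∈ C := by rw [← hC]; exact Subgroup.mem_centralizer_singleton_iff.2 rfl
  let zc : ↥C := ⟨z, hzC⟩
  have hcent : Subgroup.centralizer (Q : Set ↥C) ≤ Q := hF ▸ CfsgLib.Components.centralizer_generalizedFitting_le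
  have hzQ : zc ∈ Q := by
    have hn : (Subgroup.zpowers zc).Normal := ⟨fun x hx c => by
      obtain ⟨j, rfl⟩ := hx
      have hc : Commute c zc := Subtype.ext (Subgroup.mem_centralizer_singleton_iff.1 (hC ▸ c.2 : (c : G) ∈ _))
      show c * zc ^ j * c⁻¹ ∈ _
      rw [(hc.zpow_right j).eq, mul_inv_cancel_right]
      exact ⟨j, rfl⟩⟩
    have h1 : Subgroup.zpowers zc ≤ Cfsg.pCore 2 ↥C := CfsgLib.Solvable.Cores.le_pCore (IsPGroup.of_card (n := 1) (by
      rw [Nat.card_zpowers, ← Subgroup.orderOf_coe, hz, pow_one]))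
    rw [← hF]
    exact (h1.trans ((CfsgLib.Solvable.Cores.pCore_le_fittingSubgroup 2).trans le_sup_right)) (Subgroup.mem_zpowers zc)
  let Q' : Subgroup G := Q.map C.subtype
  have eQ : ↥Q ≃* ↥Q' := Subgroup.equivMapOfInjective _ _ C.subtype_injective
  have hQC : Q' ≤ C := Subgroup.map_subtype_le _
  have hzQ' : z ∈ Q' := ⟨zc, hzQ, rfl⟩
  have hcentz : ∀ c ∈ C, c * z = z * c := fun c hc =>
    Subgroup.mem_centralizer_singleton_iff.1 (by rw [hC]; exact hc)
  have hextra : CfsgLib.ThreeTransp.Extraspecial.Extra Q' z := by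
    obtain ⟨z', hz'⟩ := CfsgLib.ThreeTransp.Extraspecial.exists_extra (isExtraspecial_congr eQ hQ)
    rcases hz'.mem_center_cases hzQ' (fun q hq => (hcentz q (hQC hq)).symm) with h | h
    · exact absurd h (ne_one hz)
    · exact h ▸ hz'
  have hnorm : ∀ c ∈ C, ∀ q ∈ Q', c * q * c⁻¹ ∈ Q' := by
    rintro c hc _ ⟨q, hq, rfl⟩
    exact ⟨⟨c, hc⟩ * q * ⟨c, hc⟩⁻¹, Subgroup.Normal.conj_mem inferInstance q hq _, rfl⟩
  -- every involution is conjugate into `C`
  obtain ⟨S, hS⟩ := (hextra.isPGroup).exists_le_sylow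
  have hSC : (S : Subgroup G) ≤ C := by
    haveI : Nontrivial (S : Subgroup G) := ⟨⟨⟨z, hS hzQ'⟩, 1, fun e => ne_one hz (congrArg Subtype.val e)⟩⟩
    haveI := S.2.center_nontrivial
    obtain ⟨w, hw⟩ := exists_ne (1 : Subgroup.center (S : Subgroup G))
    have hwc : ∀ s ∈ (S : Subgroup G), s * ((w : (S : Subgroup G)) : G) = ((w : (S : Subgroup G)) : G) * s :=
      fun s hs => congrArg Subtype.val (Subgroup.mem_center_iff.1 w.2 ⟨s, hs⟩)
    set w' := ((w : (S : Subgroup G)) : G)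
    have hwC : w' ∈ C := by rw [← hC]; exact Subgroup.mem_centralizer_singleton_iff.2 (hwc z (hS hzQ')).symm
    have hwQ : (⟨w', hwC⟩ : ↥C) ∈ Q := hcent fun q hq => Subtype.ext (hwc q (hS ⟨q, hq, rfl⟩))
    rcases hextra.mem_center_cases (x := w') ⟨_, hwQ, rfl⟩ (fun q hq => (hwc q (hS hq)).symm) with h | h
    · exact absurd (Subtype.ext (Subtype.ext h)) hw
    · intro s hs
      rw [← hC]; exact Subgroup.mem_centralizer_singleton_iff.2 (h ▸ hwc s hs)
  have hinto : ∀ x : G, orderOf x = 2 → ∃ g : G, g * x * g⁻¹ ∈ C := by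
    intro x hx
    obtain ⟨T, hT⟩ := (IsPGroup.of_card (G := Subgroup.zpowers x) (p := 2) (n := 1)
      (by rw [Nat.card_zpowers, hx, pow_one])).exists_le_sylow
    obtain ⟨g, hg⟩ := MulAction.exists_smul_eq G T S
    refine ⟨g, hSC ?_⟩
    rw [← hg]
    exact ⟨x, hT (Subgroup.mem_zpowers x), rfl⟩
  -- the quotient
  obtain ⟨eO⟩ := omega_equiv
  let π : ↥C →* alternatingGroup (Fin 5) := (e.trans eO).toMonoidHom.comp (QuotientGroup.mk' Q)
  have hπ : Function.Surjective π := (e.trans eO).surjective.comp (QuotientGroup.mk'_surjective Q)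
  have hπk : π.ker = Q'.subgroupOf C := by
    have hk : π.ker = Q := by
      ext c
      rw [MonoidHom.mem_ker]
      exact (map_eq_one_iff _ (e.trans eO).injective).trans (QuotientGroup.eq_one_iff c)
    rw [hk]
    ext c
    exact ⟨fun hc => ⟨c, hc, rfl⟩, fun ⟨c', hc', he⟩ => (Subtype.ext he : c' = c) ▸ hc'⟩
  have hfused : ∃ u ∈ invs Q' z, IsConj z u := by
    obtain ⟨g, ⟨hq, hq'⟩, hne⟩ := hnwc
    have ho : orderOf (g * z * g⁻¹) = 2 := by rw [CfsgLib.Involution.Dihedral.orderOf_conj, hz]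
    exact ⟨g * z * g⁻¹, ⟨⟨_, hq', rfl⟩, mul_self ho, ne_one ho, hne⟩, isConj_iff.2 ⟨g, rfl⟩⟩
  have hQ32 : Nat.card Q' = 32 := by rw [← Nat.card_congr eQ.toEquiv, hcard]; norm_num
  have hcentle : ∀ c ∈ C, (∀ q ∈ Q', c * q * c⁻¹ = q) → c ∈ Q' := fun c hc hfix =>
    ⟨⟨c, hc⟩, hcent fun q hq => Subtype.ext (mul_inv_eq_iff_eq_mul.1 (hfix q ⟨q, hq, rfl⟩)).symm, rfl⟩
  have houter : ∃ v ∈ C, v ∉ Q' ∧ v * v = 1 := by
    by_contra hne
    push Not at hne
    have hpre : Pre Q' C z :=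
      { extra := hextra
        card_Q := hQ32
        norm := hnorm
        cent := hcentz
        five := fun g hg ho => by
          by_contra hn
          push Not at hn
          obtain ⟨k, hk⟩ := IsPGroup.iff_orderOf.1 hextra.isPGroup ⟨g, hcentle g hg hn⟩
          rw [Subgroup.orderOf_mk, ho] at hk
          rcases k with _ | _ | _ | k
          · norm_num at hk
          · norm_num at hk
          · norm_num at hk
          · have : 2 ^ 3 ≤ 2 ^ (k + 1 + 1 + 1) := Nat.pow_le_pow_right (by norm_num) (by omega)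
            rw [← hk] at this
            norm_num at this
        has_five := by
          haveI : Fact (Nat.Prime 5) := ⟨by norm_num⟩
          have h5 : (5 : ℕ) ∣ Nat.card ↥C :=
            (show 5 ∣ Nat.card (alternatingGroup (Fin 5)) by rw [Nat.card_eq_fintype_card]; decide).trans
              (Subgroup.card_dvd_of_surjective π hπ)
          obtain ⟨g, hg⟩ := exists_prime_orderOf_dvd_card' (G := ↥C) 5 h5
          exact ⟨g, g.2, by rw [Subgroup.orderOf_coe, hg]⟩ }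
    obtain ⟨u, hu, huz⟩ := hfused
    have hall : ∀ x : G, orderOf x = 2 → IsConj z x := by
      intro x hx
      obtain ⟨g, hg⟩ := hinto x hx
      have ho : orderOf (g * x * g⁻¹) = 2 := by rw [CfsgLib.Involution.Dihedral.orderOf_conj, hx]
      have hQx : g * x * g⁻¹ ∈ Q' := by
        by_contra h
        exact hne _ hg h (mul_self ho)
      refine IsConj.trans ?_ (isConj_iff.2 ⟨g, rfl⟩).symm
      by_cases hgz : g * x * g⁻¹ = z
      · rw [hgz]
      · obtain ⟨c, -, hc⟩ := invs_conj hpre hu ⟨hQx, mul_self ho, ne_one ho, hgz⟩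
        exact huz.trans (isConj_iff.2 ⟨c, hc⟩)
    obtain ⟨x, y, hx, hy, hxy⟩ := hcl
    exact hxy ((hall x hx).symm.trans (hall y hy))
  obtain ⟨K, hset, -, hsup⟩ := exists_setting (Q := Q') (C := C) (z := z)
    ⟨hextra, hQ32, hQC, hnorm, hcentz, hcentle, ⟨π, hπ, hπk⟩, houter⟩
  exact ⟨Q', K, hz, hset, hsup.trans hC.symm, hfused, hC.symm ▸ hcentle, hcl⟩

namespace HJ

variable {z : G} {Q K : Subgroup G}

theorem Q_le (h : HJ z Q K) : Q ≤ Subgroup.centralizer ({z} : Set G) := h.sup ▸ le_sup_right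

theorem K_le (h : HJ z Q K) : K ≤ Subgroup.centralizer ({z} : Set G) := h.sup ▸ le_sup_left

theorem norm (h : HJ z Q K) {c q : G} (hc : c ∈ Subgroup.centralizer ({z} : Set G)) (hq : q ∈ Q) :
    c * q * c⁻¹ ∈ Q := by
  have hK : K ≤ Subgroup.normalizer (Q : Set G) := fun k hk => Subgroup.mem_normalizer_iff_map_conj_eq.2
    (Subgroup.eq_of_le_of_card_ge (by rintro _ ⟨x, hx, rfl⟩; exact h.setting.norm k hk x hx)
      (by rw [Subgroup.card_map_of_injective (MulAut.conj k).injective]))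
  rw [← h.sup] at hc
  exact (Subgroup.mem_normalizer_iff.1 ((sup_le hK Subgroup.le_normalizer : K ⊔ Q ≤ _) hc) q).1 hq

theorem dec (h : HJ z Q K) {c : G} (hc : c ∈ Subgroup.centralizer ({z} : Set G)) :
    ∃ q ∈ Q, ∃ k ∈ K, c = q * k := by
  have hK : K ≤ Subgroup.normalizer (Q : Set G) := fun k hk => Subgroup.mem_normalizer_iff_map_conj_eq.2
    (Subgroup.eq_of_le_of_card_ge (by rintro _ ⟨x, hx, rfl⟩; exact h.setting.norm k hk x hx)
      (by rw [Subgroup.card_map_of_injective (MulAut.conj k).injective]))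
  have h1 : c ∈ ((Q ⊔ K : Subgroup G) : Set G) := by rw [sup_comm, h.sup]; exact hc
  rw [Subgroup.coe_mul_of_right_le_normalizer_left Q K hK] at h1
  obtain ⟨q, hq, k, hk, rfl⟩ := h1
  exact ⟨q, hq, k, hk, rfl⟩

theorem card_C (h : HJ z Q K) : Nat.card (Subgroup.centralizer ({z} : Set G)) = 1920 := by
  have e : Nat.card (Subgroup.centralizer ({z} : Set G)) = Nat.card (↥Q × ↥K) := by
    refine (Nat.card_congr (Equiv.ofBijective (fun p : ↥Q × ↥K => (⟨p.1 * p.2, mul_mem (h.Q_le p.1.2)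
      (h.K_le p.2.2)⟩ : Subgroup.centralizer ({z} : Set G))) ⟨?_, ?_⟩)).symm
    · rintro ⟨q, k⟩ ⟨q', k'⟩ he
      have e' : (q : G) * k = q' * k' := congrArg Subtype.val he
      have hm : (q' : G)⁻¹ * q ∈ Q ⊓ K := Subgroup.mem_inf.2 ⟨mul_mem (inv_mem q'.2) q.2, by
        rw [show (q' : G)⁻¹ * q = (k' : G) * (k : G)⁻¹ by
          rw [eq_mul_inv_iff_mul_eq, mul_assoc, e', inv_mul_cancel_left]]
        exact mul_mem k'.2 (inv_mem k.2)⟩
      rw [h.setting.disj, Subgroup.mem_bot, inv_mul_eq_one] at hm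
      rw [hm] at e'
      exact Prod.ext (Subtype.ext hm.symm) (Subtype.ext (mul_left_cancel e'))
    · rintro ⟨c, hc⟩
      obtain ⟨q, hq, k, hk, rfl⟩ := h.dec hc
      exact ⟨(⟨q, hq⟩, ⟨k, hk⟩), rfl⟩
  obtain ⟨eK⟩ := h.setting.alt
  rw [e, Nat.card_prod, h.setting.card_Q, Nat.card_congr eK.toEquiv, Nat.card_eq_fintype_card]
  rfl

theorem mem_outer (h : HJ z Q K) {v : G} :
    v ∈ outer Q K ↔ v ∈ Subgroup.centralizer ({z} : Set G) ∧ v ∉ Q ∧ v * v = 1 := by
  constructor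
  · rintro ⟨q, hq, k, hk, hk1, rfl, hv⟩
    refine ⟨mul_mem (h.Q_le hq) (h.K_le hk), fun hm => hk1 ?_, hv⟩
    have : k ∈ Q ⊓ K := Subgroup.mem_inf.2 ⟨by simpa using mul_mem (inv_mem hq) hm, hk⟩
    rwa [h.setting.disj, Subgroup.mem_bot] at this
  · rintro ⟨hc, hvQ, hv⟩
    obtain ⟨q, hq, k, hk, rfl⟩ := h.dec hc
    exact ⟨q, hq, k, hk, fun e => hvQ (by simpa [e] using hq), rfl, hv⟩

theorem conj_z_of_mem (h : HJ z Q K) {x : G} (hx : x ∈ Q) (ho : orderOf x = 2) : IsConj z x := by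
  by_cases hxz : x = z
  · rw [hxz]
  · obtain ⟨u, hu, huz⟩ := h.fused
    obtain ⟨c, -, hc⟩ := invs_conj h.setting.pre hu ⟨hx, mul_self ho, ne_one ho, hxz⟩
    exact huz.trans (isConj_iff.2 ⟨c, hc⟩)

end HJ

end CfsgLib.Characterizations.HallJanko
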