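import Mathlib

/-!
# Facts about `A₅` and fixed points used for groups of Hall–Janko type
-/

set_option autoImplicit false
set_option linter.style.haveILetI false

namespace CfsgLib.Characterizations.HallJanko

open Equiv Equiv.Perm

set_option maxRecDepth 100000 in
theorem perm_odd_facts : ∀ σ : Perm (Fin 5), sign σ = 1 → σ ≠ 1 → (σ ^ 3 = 1 ∨ σ ^ 5 = 1) →
    (∀ τ : Perm (Fin 5), sign τ = 1 → σ * τ = τ * σ → ∃ j : Fin 5, τ = σ ^ (j : ℕ)) ∧
      ∃ τ : Perm (Fin 5), sign τ = 1 ∧ τ * τ = 1 ∧ τ ≠ 1 ∧ τ * σ * τ = σ⁻¹ := by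
  decide +kernel

set_option maxRecDepth 100000 in
theorem perm_involution_facts : ∀ σ : Perm (Fin 5), sign σ = 1 → σ * σ = 1 → σ ≠ 1 →
    ((Finset.univ : Finset (Perm (Fin 5))).filter fun τ => sign τ = 1 ∧ σ * τ = τ * σ).card = 4 ∧
      ∀ τ : Perm (Fin 5), sign τ = 1 → σ * τ = τ * σ → τ * τ = 1 := by
  decide +kernel

set_option maxRecDepth 100000 in
theorem perm_involution_conj : ∀ σ τ : Perm (Fin 5), sign σ = 1 → σ * σ = 1 → σ ≠ 1 → sign τ = 1 → τ * τ = 1 →
    τ ≠ 1 → ∃ ρ : Perm (Fin 5), sign ρ = 1 ∧ ρ * σ * ρ⁻¹ = τ := by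
  decide +kernel

variable {H : Type*} [Group H]

/-- The embedding of a copy of `A₅` into the symmetric group. -/
noncomputable def toPerm (e : H ≃* alternatingGroup (Fin 5)) : H →* Perm (Fin 5) :=
  (alternatingGroup (Fin 5)).subtype.comp e.toMonoidHom

theorem toPerm_injective (e : H ≃* alternatingGroup (Fin 5)) : Function.Injective (toPerm e) :=
  (alternatingGroup (Fin 5)).subtype_injective.comp e.injective

theorem sign_toPerm (e : H ≃* alternatingGroup (Fin 5)) (h : H) : sign (toPerm e h) = 1 :=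
  mem_alternatingGroup.1 (e h).2

theorem exists_toPerm (e : H ≃* alternatingGroup (Fin 5)) {τ : Perm (Fin 5)} (h : sign τ = 1) :
    ∃ y : H, toPerm e y = τ :=
  ⟨e.symm ⟨τ, mem_alternatingGroup.2 h⟩, by simp [toPerm]⟩

theorem toPerm_ne_one (e : H ≃* alternatingGroup (Fin 5)) {h : H} (h1 : h ≠ 1) : toPerm e h ≠ 1 := fun he =>
  h1 (toPerm_injective e (he.trans (map_one _).symm))

theorem card_alt5 (e : H ≃* alternatingGroup (Fin 5)) : Nat.card H = 60 := by
  rw [Nat.card_congr e.toEquiv, Nat.card_eq_fintype_card]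
  rfl

/-- Elements of order three or five of `A₅` are self-centralising and inverted by involutions. -/
theorem alt5_odd (e : H ≃* alternatingGroup (Fin 5)) {x : H} (hx : orderOf x = 3 ∨ orderOf x = 5) :
    (∀ y : H, x * y = y * x → y ∈ Subgroup.zpowers x) ∧
      ∃ i : H, orderOf i = 2 ∧ i * x * i⁻¹ = x⁻¹ := by
  have hx1 : x ≠ 1 := fun h => by rw [h, orderOf_one] at hx; omega
  have hpow : toPerm e x ^ 3 = 1 ∨ toPerm e x ^ 5 = 1 := by
    rcases hx with h | h
    · left; rw [← map_pow, show x ^ 3 = 1 from h ▸ pow_orderOf_eq_one x, map_one]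
    · right; rw [← map_pow, show x ^ 5 = 1 from h ▸ pow_orderOf_eq_one x, map_one]
  obtain ⟨hc, τ, hτs, hτ2, hτ1, hτ⟩ := perm_odd_facts _ (sign_toPerm e x) (toPerm_ne_one e hx1) hpow
  refine ⟨fun y hy => ?_, ?_⟩
  · obtain ⟨j, hj⟩ := hc (toPerm e y) (sign_toPerm e y) (by rw [← map_mul, hy, map_mul])
    rw [← map_pow] at hj
    exact ⟨(j : ℕ), by simp [toPerm_injective e hj]⟩
  · obtain ⟨i, hi⟩ := exists_toPerm e hτs
    have hii : i * i = 1 := toPerm_injective e (by rw [map_mul, hi, hτ2, map_one])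
    refine ⟨i, ?_, ?_⟩
    · exact orderOf_eq_prime (by rw [pow_two, hii]) fun h => hτ1 (by rw [← hi, h, map_one])
    · rw [inv_eq_of_mul_eq_one_right hii]
      exact toPerm_injective e (by rw [map_mul, map_mul, hi, hτ, map_inv])

/-- The centraliser of an involution of `A₅` is a four-group. -/
theorem alt5_involution [Finite H] (e : H ≃* alternatingGroup (Fin 5)) {x : H} (hx : orderOf x = 2) :
    Nat.card (Subgroup.centralizer ({x} : Set H)) = 4 ∧ ∀ y : H, x * y = y * x → y * y = 1 := by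
  have hx1 : x ≠ 1 := fun h => by rw [h, orderOf_one] at hx; omega
  have hxx : x * x = 1 := by rw [← pow_two, ← hx, pow_orderOf_eq_one]
  obtain ⟨hcard, hsq⟩ := perm_involution_facts _ (sign_toPerm e x) (by rw [← map_mul, hxx, map_one]) (toPerm_ne_one e hx1)
  refine ⟨?_, fun y hy => toPerm_injective e (by
    rw [map_mul, hsq _ (sign_toPerm e y) (by rw [← map_mul, hy, map_mul]), map_one])⟩
  rw [← hcard, ← Nat.card_eq_finsetCard]
  refine Nat.card_congr (Equiv.ofBijective (fun y => ⟨toPerm e y.1, Finset.mem_filter.2 ⟨Finset.mem_univ _,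
    sign_toPerm e _, by rw [← map_mul, ← map_mul, Subgroup.mem_centralizer_singleton_iff.1 y.2]⟩⟩) ⟨?_, ?_⟩)
  · exact fun y y' h => Subtype.ext (toPerm_injective e (congrArg (fun a => a.1) h : toPerm e y.1 = toPerm e y'.1))
  · rintro ⟨τ, hτ⟩
    obtain ⟨-, hs, hc⟩ := Finset.mem_filter.1 hτ
    obtain ⟨y, rfl⟩ := exists_toPerm e hs
    refine ⟨⟨y, Subgroup.mem_centralizer_singleton_iff.2 (toPerm_injective e ?_)⟩, rfl⟩
    rw [map_mul, map_mul, hc]

/-- The involutions of `A₅` are conjugate. -/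
theorem alt5_conj (e : H ≃* alternatingGroup (Fin 5)) {x y : H} (hx : orderOf x = 2) (hy : orderOf y = 2) :
    ∃ g : H, g * x * g⁻¹ = y := by
  have h : ∀ {w : H}, orderOf w = 2 → toPerm e w * toPerm e w = 1 ∧ toPerm e w ≠ 1 := fun {w} hw => by
    refine ⟨?_, toPerm_ne_one e fun h => ?_⟩
    · rw [← map_mul, ← pow_two, ← hw, pow_orderOf_eq_one, map_one]
    · rw [h, orderOf_one] at hw; omega
  obtain ⟨ρ, hρs, hρ⟩ := perm_involution_conj _ _ (sign_toPerm e x) (h hx).1 (h hx).2 (sign_toPerm e y) (h hy).1 (h hy).2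
  obtain ⟨g, rfl⟩ := exists_toPerm e hρs
  exact ⟨g, toPerm_injective e (by rw [map_mul, map_mul, map_inv, hρ])⟩

/-- Versions inside a group for a subgroup isomorphic to `A₅`. -/
theorem alt5_odd_mem {G : Type*} [Group G] {B : Subgroup G} (e : ↥B ≃* alternatingGroup (Fin 5)) {x : G}
    (hxB : x ∈ B) (hx : orderOf x = 3 ∨ orderOf x = 5) :
    (∀ y ∈ B, x * y = y * x → y ∈ Subgroup.zpowers x) ∧
      ∃ i ∈ B, orderOf i = 2 ∧ i * x * i⁻¹ = x⁻¹ := by
  obtain ⟨hc, i, hi, hix⟩ := alt5_odd e (x := ⟨x, hxB⟩) (by simpa [← Subgroup.orderOf_coe] using hx)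
  refine ⟨fun y hy hxy => ?_, i, i.2, by rw [Subgroup.orderOf_coe, hi], congrArg Subtype.val hix⟩
  obtain ⟨k, hk⟩ := hc ⟨y, hy⟩ (Subtype.ext hxy)
  exact ⟨k, by simpa using congrArg Subtype.val hk⟩

theorem alt5_conj_mem {G : Type*} [Group G] {B : Subgroup G} (e : ↥B ≃* alternatingGroup (Fin 5)) {x y : G}
    (hxB : x ∈ B) (hyB : y ∈ B) (hx : orderOf x = 2) (hy : orderOf y = 2) : ∃ g ∈ B, g * x * g⁻¹ = y := by
  obtain ⟨g, hg⟩ := alt5_conj e (x := ⟨x, hxB⟩) (y := ⟨y, hyB⟩) (by rwa [← Subgroup.orderOf_coe])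
    (by rwa [← Subgroup.orderOf_coe])
  exact ⟨g, g.2, congrArg Subtype.val hg⟩

theorem alt5_exists_orderOf {G : Type*} [Group G] [Finite G] {B : Subgroup G} (e : ↥B ≃* alternatingGroup (Fin 5))
    {p : ℕ} [Fact p.Prime] (hp : p ∣ 60) : ∃ x ∈ B, orderOf x = p := by
  obtain ⟨x, hx⟩ := exists_prime_orderOf_dvd_card' (G := ↥B) p (by rw [card_alt5 e]; exact hp)
  exact ⟨x, x.2, by rw [Subgroup.orderOf_coe, hx]⟩

variable {G : Type*} [Group G] [Finite G]

/-- An element of `p`-power order normalising a subgroup fixes a congruent number of its elements modulo `p`. -/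
theorem card_fixed_modEq {p k : ℕ} [Fact p.Prime] {g : G} (hg : orderOf g = p ^ k) {A : Subgroup G}
    (hinv : ∀ a ∈ A, g * a * g⁻¹ ∈ A) :
    Nat.card A ≡ Nat.card ↥(A ⊓ Subgroup.centralizer ({g} : Set G)) [MOD p] := by
  have hN : Subgroup.zpowers g ≤ Subgroup.normalizer (A : Set G) := by
    refine Subgroup.zpowers_le.2 (Subgroup.mem_normalizer_iff_map_conj_eq.2 (Subgroup.eq_of_le_of_card_ge ?_ ?_))
    · rintro _ ⟨y, hy, rfl⟩; exact hinv y hy
    · rw [Subgroup.card_map_of_injective (MulAut.conj g).injective]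
  have hn : ∀ x : Subgroup.zpowers g, ∀ a ∈ A, (x : G) * a * (x : G)⁻¹ ∈ A := fun x a ha =>
    (Subgroup.mem_normalizer_iff.1 (hN x.2) a).1 ha
  letI : MulAction (Subgroup.zpowers g) ↥A :=
    { smul := fun x y => ⟨(x : G) * y * (x : G)⁻¹, hn x y y.2⟩
      one_smul := fun y => Subtype.ext (show ((1 : Subgroup.zpowers g) : G) * y * _ = _ by simp)
      mul_smul := fun x x' y => Subtype.ext (show ((x * x' : Subgroup.zpowers g) : G) * y * _ = _ by
        show _ = (x : G) * ((x' : G) * y * (x' : G)⁻¹) * (x : G)⁻¹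
        simp [mul_assoc]) }
  have hp : IsPGroup p (Subgroup.zpowers g) := IsPGroup.of_card (n := k) (by rw [Nat.card_zpowers, hg])
  refine (hp.card_modEq_card_fixedPoints ↥A).trans ?_
  refine congrArg (· % p) (Nat.card_congr
    { toFun := fun y => ⟨(y.1 : G), Subgroup.mem_inf.2 ⟨y.1.2, Subgroup.mem_centralizer_singleton_iff.2 ?_⟩⟩
      invFun := fun y => ⟨⟨y.1, (Subgroup.mem_inf.1 y.2).1⟩, fun x => Subtype.ext ?_⟩
      left_inv := fun y => rfl
      right_inv := fun y => rfl })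
  · have := congrArg Subtype.val (y.2 ⟨g, Subgroup.mem_zpowers g⟩)
    exact (mul_inv_eq_iff_eq_mul.1 this).symm
  · show (x : G) * y.1 * (x : G)⁻¹ = y.1
    obtain ⟨j, hj⟩ := x.2
    have hcm : Commute g y.1 := (Subgroup.mem_centralizer_singleton_iff.1 (Subgroup.mem_inf.1 y.2).2).symm
    rw [← hj]
    exact mul_inv_eq_iff_eq_mul.2 (hcm.zpow_left j).eq

end CfsgLib.Characterizations.HallJanko
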