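import Cfsg.Agent.Lib.Characterizations.HallJanko.Basic
import Cfsg.Agent.Lib.Characterizations.HallJanko.Facts

/-!
# The two classes of involutions of a group of Hall–Janko type and their common centraliser
-/

set_option autoImplicit false
set_option linter.style.haveILetI false
set_option linter.unusedSectionVars false

namespace CfsgLib.Characterizations.HallJanko

open CfsgLib.Characterizations.HallJankoCount
open CfsgLib.Involution.Dihedral

variable {G : Type*} [Group G] [Finite G]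

/-- A group of Hall–Janko type with a chosen involution of the second class. -/
structure Marked (z t : G) (Q K : Subgroup G) : Prop where
  hj : HJ z Q K
  tK : t ∈ K
  ht : orderOf t = 2

theorem mem_cz {z x : G} : x ∈ Subgroup.centralizer ({z} : Set G) ↔ x * z = z * x :=
  Subgroup.mem_centralizer_singleton_iff

theorem orderOf_of_isConj {a w : G} (h : IsConj a w) : orderOf w = orderOf a := by
  obtain ⟨c, rfl⟩ := isConj_iff.1 h
  rw [CfsgLib.Involution.Dihedral.orderOf_conj]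

/-- The four-group centralised by `t` in `Q`. -/
abbrev wGrp (t : G) (Q : Subgroup G) : Subgroup G := Q ⊓ Subgroup.centralizer ({t} : Set G)

/-- The common centraliser of `z` and `t`. -/
abbrev tGrp (z t : G) : Subgroup G := Subgroup.centralizer ({z} : Set G) ⊓ Subgroup.centralizer ({t} : Set G)

theorem HJ.exists_marked {z : G} {Q K : Subgroup G} (h : HJ z Q K) : ∃ t, Marked z t Q K := by
  obtain ⟨e⟩ := h.setting.alt
  haveI : Fact (Nat.Prime 2) := ⟨Nat.prime_two⟩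
  obtain ⟨t, ht, ho⟩ := alt5_exists_orderOf e (p := 2) (by norm_num)
  exact ⟨t, h, ht, ho⟩

theorem HJ.dec_unique {z : G} {Q K : Subgroup G} (h : HJ z Q K) {q k q' k' : G} (hq : q ∈ Q) (hk : k ∈ K)
    (hq' : q' ∈ Q) (hk' : k' ∈ K) (e : q * k = q' * k') : q = q' ∧ k = k' := by
  have hm : q'⁻¹ * q ∈ Q ⊓ K := Subgroup.mem_inf.2 ⟨mul_mem (inv_mem hq') hq, by
    rw [show q'⁻¹ * q = k' * k⁻¹ by rw [eq_mul_inv_iff_mul_eq, mul_assoc, e, inv_mul_cancel_left]]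
    exact mul_mem hk' (inv_mem hk)⟩
  rw [h.setting.disj, Subgroup.mem_bot, inv_mul_eq_one] at hm
  subst hm
  exact ⟨rfl, mul_left_cancel e⟩

namespace Marked

variable {z t : G} {Q K : Subgroup G}

theorem t_sq (h : Marked z t Q K) : t * t = 1 := mul_self h.ht

theorem t_mem (h : Marked z t Q K) : t ∈ Subgroup.centralizer ({z} : Set G) := h.hj.K_le h.tK

theorem not_mem_Q (h : Marked z t Q K) : t ∉ Q := fun hQ => ne_one h.ht (by
  have : t ∈ Q ⊓ K := Subgroup.mem_inf.2 ⟨hQ, h.tK⟩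
  rwa [h.hj.setting.disj, Subgroup.mem_bot] at this)

theorem z_mem_W (h : Marked z t Q K) : z ∈ wGrp t Q :=
  Subgroup.mem_inf.2 ⟨h.hj.setting.extra.z_mem, mem_cz.2 (mem_cz.1 h.t_mem).symm⟩

theorem t_mem_T (h : Marked z t Q K) : t ∈ tGrp z t :=
  Subgroup.mem_inf.2 ⟨h.t_mem, mem_cz.2 rfl⟩

theorem W_le_T (h : Marked z t Q K) : wGrp t Q ≤ tGrp z t := fun _ hw =>
  Subgroup.mem_inf.2 ⟨h.hj.Q_le (Subgroup.mem_inf.1 hw).1, (Subgroup.mem_inf.1 hw).2⟩

theorem W_sq (h : Marked z t Q K) {w : G} (hw : w ∈ wGrp t Q) : w * w = 1 :=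
  (coset_facts h.hj.setting h.tK (ne_one h.ht) h.t_sq).2 w (Subgroup.mem_inf.1 hw).1
    (mem_cz.1 (Subgroup.mem_inf.1 hw).2)

theorem t_outer (h : Marked z t Q K) : t ∈ outer Q K :=
  ⟨1, one_mem _, t, h.tK, ne_one h.ht, (one_mul t).symm, h.t_sq⟩

theorem card_W (h : Marked z t Q K) : Nat.card (wGrp t Q) = 4 := by
  have hm : moved Q t ⊆ invs Q z := fun u hu => ⟨hu.1, mul_self hu.2.1, ne_one hu.2.1, fun e =>
    hu.2.2 (e ▸ (mem_cz.1 h.t_mem).symm)⟩
  have he : ((wGrp t Q : Subgroup G) : Set G) = {1, z} ∪ (invs Q z \ moved Q t) := by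
    ext w
    constructor
    · intro hw
      by_cases h1 : w = 1
      · exact Or.inl (Or.inl h1)
      by_cases h2 : w = z
      · exact Or.inl (Or.inr h2)
      exact Or.inr ⟨⟨(Subgroup.mem_inf.1 hw).1, h.W_sq hw, h1, h2⟩, fun hmv =>
        hmv.2.2 (mem_cz.1 (Subgroup.mem_inf.1 hw).2)⟩
    · rintro ((rfl | rfl) | ⟨hw, hnm⟩)
      · exact one_mem _
      · exact h.z_mem_W
      · refine Subgroup.mem_inf.2 ⟨hw.1, mem_cz.2 ?_⟩
        by_contra hne
        exact hnm ⟨hw.1, orderOf_eq_two hw.2.1 hw.2.2.1, hne⟩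
  rw [← SetLike.coe_sort_coe, Nat.card_coe_set_eq, he, Set.ncard_union_eq, Set.ncard_sdiff hm,
    ((HallJankoCount.main h.hj.setting).2 t h.t_outer).1, card_invs h.hj.setting.pre,
    Set.ncard_pair (Ne.symm h.hj.setting.extra.z_ne)]
  rw [Set.disjoint_left]
  rintro w (rfl | rfl) hw
  · exact hw.1.2.2.1 rfl
  · exact hw.1.2.2.2 rfl

theorem conj_z_of_W (h : Marked z t Q K) {w : G} (hw : w ∈ wGrp t Q) (hw1 : w ≠ 1) : IsConj z w :=
  h.hj.conj_z_of_mem (Subgroup.mem_inf.1 hw).1 (orderOf_eq_two (h.W_sq hw) hw1)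

/-- The involutions of `C(z)` outside `Q` are conjugate in `C(z)`. -/
theorem conj_outer (h : Marked z t Q K) {v : G} (hv : v ∈ Subgroup.centralizer ({z} : Set G)) (hvQ : v ∉ Q)
    (hvv : v * v = 1) : ∃ c ∈ Subgroup.centralizer ({z} : Set G), c * v * c⁻¹ = t := by
  classical
  have hS := h.hj.setting
  obtain ⟨q, hq, k, hk, rfl⟩ := h.hj.dec hv
  have hkk := (conj_mul_self hS hq hk hvv).1
  have hk1 : k ≠ 1 := fun e => hvQ (by rw [e, mul_one]; exact hq)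
  obtain ⟨eK⟩ := hS.alt
  obtain ⟨ρ, hρ, hρk⟩ := alt5_conj_mem eK hk h.tK (orderOf_eq_two hkk hk1) h.ht
  set q' := ρ * q * ρ⁻¹ with hq'
  have hq'Q : q' ∈ Q := hS.norm ρ hρ q hq
  have hv' : ρ * (q * k) * ρ⁻¹ = q' * t := by rw [hq', ← hρk]; group
  have hinv' : q' * t * (q' * t) = 1 := by rw [← hv', conj_mul, hvv, mul_one, mul_inv_cancel]
  -- the orbit of `t` under `Q` fills its coset
  haveI := Fintype.ofFinite ↥Q
  let f : ↥Q → G := fun a => (a : G) * t * (a : G)⁻¹ * t⁻¹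
  let S := {a : G | a ∈ Q ∧ a * t * (a * t) = 1}
  have hfS : ∀ a, f a ∈ S := fun a => by
    refine ⟨?_, ?_⟩
    · rw [show f a = (a : G) * (t * (a : G)⁻¹ * t⁻¹) by simp only [f]; group]
      exact mul_mem a.2 (hS.norm t h.tK _ (inv_mem a.2))
    · simp only [f, inv_mul_cancel_right]
      rw [conj_mul, h.t_sq, mul_one, mul_inv_cancel]
  have hfib : ∀ b ∈ Finset.univ.image f, (Finset.univ.filter fun a : ↥Q => f a = b).card ≤ 4 := by
    intro b hb
    obtain ⟨a₀, -, rfl⟩ := Finset.mem_image.1 hb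
    rw [← h.card_W, ← Nat.card_eq_finsetCard]
    refine Nat.card_le_card_of_injective (fun a => ⟨(a₀ : G)⁻¹ * (a.1 : G), Subgroup.mem_inf.2
      ⟨mul_mem (inv_mem a₀.2) a.1.2, mem_cz.2 ?_⟩⟩) fun a a' e => ?_
    · have e : (a.1 : G) * t * (a.1 : G)⁻¹ = a₀ * t * (a₀ : G)⁻¹ :=
        mul_right_cancel (Finset.mem_filter.1 a.2).2
      calc (a₀ : G)⁻¹ * a.1 * t = (a₀ : G)⁻¹ * ((a.1 : G) * t * (a.1 : G)⁻¹) * a.1 := by group
        _ = _ := by rw [e]; group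
    · exact Subtype.ext (Subtype.ext (mul_left_cancel (congrArg Subtype.val e)))
  have h32 := Finset.card_le_mul_card_image Finset.univ 4 hfib
  rw [Finset.card_univ, ← Nat.card_eq_fintype_card, hS.card_Q] at h32
  have himg : ((Finset.univ.image f : Finset G) : Set G) = S := by
    refine Set.eq_of_subset_of_ncard_le (fun b hb => ?_) ?_
    · obtain ⟨a, -, rfl⟩ := Finset.mem_image.1 (Finset.mem_coe.1 hb)
      exact hfS a
    · rw [(coset_facts hS h.tK (ne_one h.ht) h.t_sq).1, Set.ncard_coe_finset]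
      omega
  have hqS : q' ∈ ((Finset.univ.image f : Finset G) : Set G) := by rw [himg]; exact ⟨hq'Q, hinv'⟩
  obtain ⟨a, -, ha⟩ := Finset.mem_image.1 (Finset.mem_coe.1 hqS)
  refine ⟨(a : G)⁻¹ * ρ, mul_mem (inv_mem (h.hj.Q_le a.2)) (h.hj.K_le hρ), ?_⟩
  rw [show (a : G)⁻¹ * ρ * (q * k) * ((a : G)⁻¹ * ρ)⁻¹ = (a : G)⁻¹ * (ρ * (q * k) * ρ⁻¹) * a by group, hv', ← ha]
  simp only [f]
  group

/-- Every involution is conjugate into `C(z)`. -/
theorem conj_into (h : Marked z t Q K) {x : G} (hx : orderOf x = 2) :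
    ∃ g : G, g * x * g⁻¹ ∈ Subgroup.centralizer ({z} : Set G) := by
  haveI : Fact (Nat.Prime 2) := ⟨Nat.prime_two⟩
  have hextra := h.hj.setting.extra
  obtain ⟨S, hS⟩ := hextra.isPGroup.exists_le_sylow
  have hSC : (S : Subgroup G) ≤ Subgroup.centralizer ({z} : Set G) := by
    haveI : Nontrivial (S : Subgroup G) :=
      ⟨⟨⟨z, hS hextra.z_mem⟩, 1, fun e => hextra.z_ne (congrArg Subtype.val e)⟩⟩
    haveI := S.2.center_nontrivial
    obtain ⟨w, hw⟩ := exists_ne (1 : Subgroup.center (S : Subgroup G))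
    have hwc : ∀ s ∈ (S : Subgroup G), s * ((w : (S : Subgroup G)) : G) = ((w : (S : Subgroup G)) : G) * s :=
      fun s hs => congrArg Subtype.val (Subgroup.mem_center_iff.1 w.2 ⟨s, hs⟩)
    set w' := ((w : (S : Subgroup G)) : G)
    have hwC : w' ∈ Subgroup.centralizer ({z} : Set G) := mem_cz.2 (hwc z (hS hextra.z_mem)).symm
    have hwQ : w' ∈ Q := h.hj.cent_le w' hwC fun q hq => by rw [← hwc q (hS hq), mul_inv_cancel_right]
    rcases hextra.mem_center_cases hwQ (fun q hq => (hwc q (hS hq)).symm) with e | e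
    · exact absurd (Subtype.ext (Subtype.ext e)) hw
    · exact fun s hs => mem_cz.2 (e ▸ hwc s hs)
  obtain ⟨T, hT⟩ := (IsPGroup.of_card (G := Subgroup.zpowers x) (p := 2) (n := 1)
    (by rw [Nat.card_zpowers, hx, pow_one])).exists_le_sylow
  obtain ⟨g, hg⟩ := MulAction.exists_smul_eq G T S
  refine ⟨g, hSC ?_⟩
  rw [← hg]
  exact ⟨x, hT (Subgroup.mem_zpowers x), rfl⟩

/-- There are two classes of involutions. -/
theorem classes (h : Marked z t Q K) {x : G} (hx : orderOf x = 2) : IsConj z x ∨ IsConj t x := by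
  obtain ⟨g, hg⟩ := h.conj_into hx
  have ho : orderOf (g * x * g⁻¹) = 2 := by rw [CfsgLib.Involution.Dihedral.orderOf_conj, hx]
  by_cases hQ : g * x * g⁻¹ ∈ Q
  · exact Or.inl ((h.hj.conj_z_of_mem hQ ho).trans (isConj_iff.2 ⟨g, rfl⟩).symm)
  · obtain ⟨c, -, hc⟩ := h.conj_outer hg hQ (mul_self ho)
    exact Or.inr ((isConj_iff.2 ⟨c, hc⟩).symm.trans (isConj_iff.2 ⟨g, rfl⟩).symm)

theorem not_isConj (h : Marked z t Q K) : ¬ IsConj z t := by
  intro hzt
  obtain ⟨x, y, hx, hy, hxy⟩ := h.hj.two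
  have : ∀ x, orderOf x = 2 → IsConj z x := fun x hx => (h.classes hx).elim id hzt.trans
  exact hxy ((this x hx).symm.trans (this y hy))

theorem mem_Q_of_conj (h : Marked z t Q K) {x : G} (hxC : x ∈ Subgroup.centralizer ({z} : Set G))
    (hx : IsConj z x) : x ∈ Q := by
  by_contra hQ
  obtain ⟨c, -, hc⟩ := h.conj_outer hxC hQ (mul_self (by rw [orderOf_of_isConj hx, h.hj.hz]))
  exact h.not_isConj (hx.trans (isConj_iff.2 ⟨c, hc⟩))

theorem conj_t_of_not_mem (h : Marked z t Q K) {x : G} (hxC : x ∈ Subgroup.centralizer ({z} : Set G))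
    (hxQ : x ∉ Q) (hx : orderOf x = 2) : IsConj t x := by
  obtain ⟨c, -, hc⟩ := h.conj_outer hxC hxQ (mul_self hx)
  exact (isConj_iff.2 ⟨c, hc⟩).symm

/-- Commuting pairs of involutions from the two classes are conjugate. -/
theorem pair_conj (h : Marked z t Q K) {w v : G} (hw : IsConj z w) (hv : IsConj t v) (hc : w * v = v * w) :
    ∃ g : G, g * w * g⁻¹ = z ∧ g * v * g⁻¹ = t := by
  obtain ⟨g, hg⟩ := isConj_iff.1 hw.symm
  have hvC : g * v * g⁻¹ ∈ Subgroup.centralizer ({z} : Set G) :=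
    mem_cz.2 (by rw [← hg, conj_mul, conj_mul, hc])
  have hconj : IsConj t (g * v * g⁻¹) := hv.trans (isConj_iff.2 ⟨g, rfl⟩)
  have ho : orderOf (g * v * g⁻¹) = 2 := by rw [orderOf_of_isConj hconj, h.ht]
  obtain ⟨c, hcC, hc'⟩ := h.conj_outer hvC (fun hQ => h.not_isConj ((h.hj.conj_z_of_mem hQ ho).trans hconj.symm))
    (mul_self ho)
  refine ⟨c * g, ?_, ?_⟩
  · rw [show c * g * w * (c * g)⁻¹ = c * (g * w * g⁻¹) * c⁻¹ by group, hg, mem_cz.1 hcC, mul_inv_cancel_right]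
  · rw [← hc']; group

theorem conj_in_D (h : Marked z t Q K) {w : G} (hwD : w ∈ Subgroup.centralizer ({t} : Set G)) (hw : IsConj z w) :
    ∃ g ∈ Subgroup.centralizer ({t} : Set G), g * w * g⁻¹ = z := by
  obtain ⟨g, h1, h2⟩ := h.pair_conj hw (IsConj.refl t) (mem_cz.1 hwD)
  exact ⟨g, mem_cz.2 (mul_inv_eq_iff_eq_mul.1 h2), h1⟩

theorem T_spec (h : Marked z t Q K) {x : G} (hx : x ∈ tGrp z t) :
    ∃ w ∈ wGrp t Q, ∃ k ∈ K, k * t = t * k ∧ x = w * k := by
  obtain ⟨hxC, hxt⟩ := Subgroup.mem_inf.1 hx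
  obtain ⟨q, hq, k, hk, rfl⟩ := h.hj.dec hxC
  have e1 : t * (q * k) * t⁻¹ = q * k := by rw [← mem_cz.1 hxt, mul_inv_cancel_right]
  rw [← conj_mul] at e1
  obtain ⟨e2, e3⟩ := h.hj.dec_unique (h.hj.setting.norm t h.tK q hq) (mul_mem (mul_mem h.tK hk) (inv_mem h.tK))
    hq hk e1
  exact ⟨q, Subgroup.mem_inf.2 ⟨hq, mem_cz.2 (mul_inv_eq_iff_eq_mul.1 e2).symm⟩, k, hk,
    (mul_inv_eq_iff_eq_mul.1 e3).symm, rfl⟩

theorem W_comm_cent (h : Marked z t Q K) {w k : G} (hw : w ∈ wGrp t Q) (hk : k ∈ K) (hkt : k * t = t * k) :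
    Commute w k := by
  by_contra hne
  obtain ⟨eK⟩ := h.hj.setting.alt
  have hkk : k * k = 1 := congrArg Subtype.val ((alt5_involution eK (x := ⟨t, h.tK⟩)
    (by rw [← Subgroup.orderOf_coe]; exact h.ht)).2 ⟨k, hk⟩ (Subtype.ext hkt.symm))
  have hk1 : k ≠ 1 := fun e => hne (e ▸ Commute.one_right w)
  have hw1 : w ≠ 1 := fun e => hne (e ▸ Commute.one_left k)
  have hwQ := (Subgroup.mem_inf.1 hw).1
  have h4 := ((HallJankoCount.main h.hj.setting).2 k ⟨1, one_mem _, k, hk, hk1, (one_mul k).symm, hkk⟩).2 w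
    ⟨hwQ, orderOf_eq_two (h.W_sq hw) hw1, hne⟩
  have hkinv : k⁻¹ = k := inv_eq_of_mul_eq_one_right hkk
  have hx : k * w * k ∈ wGrp t Q := by
    refine Subgroup.mem_inf.2 ⟨?_, ?_⟩
    · have := h.hj.setting.norm k hk w hwQ
      rwa [hkinv] at this
    · exact mul_mem (mul_mem (mem_cz.2 hkt) (Subgroup.mem_inf.1 hw).2) (mem_cz.2 hkt)
  apply h.hj.setting.extra.z_ne
  rw [← h4, show (w * k) ^ 4 = (w * (k * w * k)) * (w * (k * w * k)) by
    simp only [pow_succ, pow_zero, one_mul, mul_assoc]]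
  exact h.W_sq (mul_mem hw hx)

theorem T_sq (h : Marked z t Q K) {x : G} (hx : x ∈ tGrp z t) : x * x = 1 := by
  obtain ⟨w, hw, k, hk, hkt, rfl⟩ := h.T_spec hx
  obtain ⟨eK⟩ := h.hj.setting.alt
  have hkk : k * k = 1 := congrArg Subtype.val ((alt5_involution eK (x := ⟨t, h.tK⟩)
    (by rw [← Subgroup.orderOf_coe]; exact h.ht)).2 ⟨k, hk⟩ (Subtype.ext hkt.symm))
  rw [(h.W_comm_cent hw hk hkt).symm.mul_mul_mul_comm, h.W_sq hw, hkk, one_mul]

theorem T_comm (h : Marked z t Q K) {x y : G} (hx : x ∈ tGrp z t) (hy : y ∈ tGrp z t) : x * y = y * x := by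
  have e := h.T_sq (mul_mem hx hy)
  rw [← inv_eq_of_mul_eq_one_right e, mul_inv_rev, inv_eq_of_mul_eq_one_right (h.T_sq hy),
    inv_eq_of_mul_eq_one_right (h.T_sq hx)]

theorem card_T (h : Marked z t Q K) : Nat.card (tGrp z t) = 16 := by
  obtain ⟨eK⟩ := h.hj.setting.alt
  let V : Subgroup G := K ⊓ Subgroup.centralizer ({t} : Set G)
  have hV : Nat.card V = 4 := by
    rw [← (alt5_involution eK (x := ⟨t, h.tK⟩) (by rw [← Subgroup.orderOf_coe]; exact h.ht)).1]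
    exact Nat.card_congr
      { toFun := fun v => ⟨⟨v.1, (Subgroup.mem_inf.1 v.2).1⟩, Subgroup.mem_centralizer_singleton_iff.2
          (Subtype.ext (mem_cz.1 (Subgroup.mem_inf.1 v.2).2))⟩
        invFun := fun v => ⟨(v.1 : G), Subgroup.mem_inf.2 ⟨v.1.2,
          mem_cz.2 (congrArg Subtype.val (Subgroup.mem_centralizer_singleton_iff.1 v.2))⟩⟩
        left_inv := fun v => rfl
        right_inv := fun v => rfl }
  have hmem : ∀ p : ↥(wGrp t Q) × ↥V, (p.1 : G) * p.2 ∈ tGrp z t := fun p => mul_mem (h.W_le_T p.1.2)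
    (Subgroup.mem_inf.2 ⟨h.hj.K_le (Subgroup.mem_inf.1 p.2.2).1, (Subgroup.mem_inf.1 p.2.2).2⟩)
  rw [← Nat.card_eq_of_bijective (fun p : ↥(wGrp t Q) × ↥V => (⟨_, hmem p⟩ : ↥(tGrp z t))) ⟨?_, ?_⟩,
    Nat.card_prod, h.card_W, hV]
  · rintro ⟨w, v⟩ ⟨w', v'⟩ e
    obtain ⟨e1, e2⟩ := h.hj.dec_unique (Subgroup.mem_inf.1 w.2).1 (Subgroup.mem_inf.1 v.2).1
      (Subgroup.mem_inf.1 w'.2).1 (Subgroup.mem_inf.1 v'.2).1 (congrArg Subtype.val e)
    exact Prod.ext (Subtype.ext e1) (Subtype.ext e2)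
  · rintro ⟨x, hx⟩
    obtain ⟨w, hw, k, hk, hkt, rfl⟩ := h.T_spec hx
    exact ⟨(⟨w, hw⟩, ⟨k, Subgroup.mem_inf.2 ⟨hk, mem_cz.2 hkt⟩⟩), rfl⟩

theorem mem_W_of_T (h : Marked z t Q K) {x : G} (hx : x ∈ tGrp z t) (hz : IsConj z x) : x ∈ wGrp t Q :=
  Subgroup.mem_inf.2 ⟨h.mem_Q_of_conj (Subgroup.mem_inf.1 hx).1 hz, (Subgroup.mem_inf.1 hx).2⟩

end Marked

end CfsgLib.Characterizations.HallJanko
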