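import Cfsg.Agent.Lib.Characterizations.HallJankoCount
import Cfsg.Agent.Lib.Solvable.Gaschutz

/-!
# Splitting of `2^{1+4}·A₅` when it has an involution outside the normal subgroup

`C` permutes the five pairs of non-central involutions of `Q`; every element flips an even number of pairs,
so the stabiliser of a transversal of the pairs covers `C/Q` and meets `Q` in `⟨z⟩`; Gaschütz splits it.
-/

set_option autoImplicit false
set_option linter.style.haveILetI false
set_option linter.unusedSectionVars false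

namespace CfsgLib.Characterizations.HallJanko

open CfsgLib.Characterizations.HallJankoCount
open CfsgLib.ThreeTransp.Extraspecial (Extra mem_zpowers_involution)
open Equiv Equiv.Perm

variable {G : Type*} [Group G] [Finite G]

/-- The hypothesis on the centraliser `C` of `z`. -/
structure Base (Q C : Subgroup G) (z : G) : Prop where
  extra : Extra Q z
  card_Q : Nat.card Q = 32
  le : Q ≤ C
  norm : ∀ c ∈ C, ∀ q ∈ Q, c * q * c⁻¹ ∈ Q
  cent : ∀ c ∈ C, c * z = z * c
  cent_le : ∀ c ∈ C, (∀ q ∈ Q, c * q * c⁻¹ = q) → c ∈ Q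
  quot : ∃ π : ↥C →* alternatingGroup (Fin 5), Function.Surjective π ∧ π.ker = Q.subgroupOf C
  outer : ∃ v ∈ C, v ∉ Q ∧ v * v = 1

variable {Q C : Subgroup G} {z : G}

theorem Base.not_mem_of_five (h : Base Q C z) {g : G} (hg : orderOf g = 5) : g ∉ Q := fun hgQ => by
  obtain ⟨k, hk⟩ := IsPGroup.iff_orderOf.1 h.extra.isPGroup ⟨g, hgQ⟩
  rw [Subgroup.orderOf_mk, hg] at hk
  rcases k with _ | _ | _ | k
  · norm_num at hk
  · norm_num at hk
  · norm_num at hk
  · have : 2 ^ 3 ≤ 2 ^ (k + 1 + 1 + 1) := Nat.pow_le_pow_right (by norm_num) (by omega)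
    rw [← hk] at this
    norm_num at this

theorem Base.pre (h : Base Q C z) : Pre Q C z where
  extra := h.extra
  card_Q := h.card_Q
  norm := h.norm
  cent := h.cent
  five := fun g hg ho => by
    by_contra hn
    push Not at hn
    exact h.not_mem_of_five ho (h.cent_le g hg hn)
  has_five := by
    obtain ⟨π, hπ, -⟩ := h.quot
    haveI : Fact (Nat.Prime 5) := ⟨by norm_num⟩
    have h5 : (5 : ℕ) ∣ Nat.card ↥C :=
      (show 5 ∣ Nat.card (alternatingGroup (Fin 5)) by rw [Nat.card_eq_fintype_card]; decide).trans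
        (Subgroup.card_dvd_of_surjective π hπ)
    obtain ⟨g, hg⟩ := exists_prime_orderOf_dvd_card' (G := ↥C) 5 h5
    exact ⟨g, g.2, by rw [Subgroup.orderOf_coe, hg]⟩

/-- A subgroup of `Q` invariant under an element of order five and containing `z` is `⟨z⟩` or `Q`. -/
theorem card_invariant (h : Pre Q C z) {g : G} (hg : g ∈ C) (ho : orderOf g = 5) {A : Subgroup G} (hA : A ≤ Q)
    (hzA : z ∈ A) (hinv : ∀ a ∈ A, g * a * g⁻¹ ∈ A) : Nat.card A = 2 ∨ A = Q := by
  classical
  haveI : Fact (Nat.Prime 5) := ⟨by norm_num⟩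
  have hn : ∀ x : Subgroup.zpowers g, ∀ a ∈ A, (x : G) * a * (x : G)⁻¹ ∈ A := by
    intro x a ha
    have hN : g ∈ Subgroup.normalizer (A : Set G) := by
      refine Subgroup.mem_normalizer_iff_map_conj_eq.2 (Subgroup.eq_of_le_of_card_ge ?_ ?_)
      · rintro _ ⟨y, hy, rfl⟩; exact hinv y hy
      · rw [Subgroup.card_map_of_injective (MulAut.conj g).injective]
    exact (Subgroup.mem_normalizer_iff.1 ((Subgroup.zpowers_le.2 hN) x.2) a).1 ha
  letI : MulAction (Subgroup.zpowers g) ↥A :=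
    { smul := fun x y => ⟨(x : G) * y * (x : G)⁻¹, hn x y y.2⟩
      one_smul := fun y => Subtype.ext (show ((1 : Subgroup.zpowers g) : G) * y * _ = _ by simp)
      mul_smul := fun x x' y => Subtype.ext (show ((x * x' : Subgroup.zpowers g) : G) * y * _ = _ by
        show _ = (x : G) * ((x' : G) * y * (x' : G)⁻¹) * (x : G)⁻¹
        simp [mul_assoc]) }
  have hp : IsPGroup 5 (Subgroup.zpowers g) := IsPGroup.of_card (n := 1) (by rw [Nat.card_zpowers, ho, pow_one])
  have hF : Nat.card (MulAction.fixedPoints (Subgroup.zpowers g) ↥A) = 2 := by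
    have hfix : ∀ a : ↥A, a ∈ MulAction.fixedPoints (Subgroup.zpowers g) ↥A ↔ (a : G) = 1 ∨ (a : G) = z := by
      intro a
      constructor
      · intro ha
        exact fixed_five h hg ho (hA a.2) (congrArg Subtype.val (ha ⟨g, Subgroup.mem_zpowers g⟩))
      · intro ha x
        apply Subtype.ext
        show (x : G) * a * (x : G)⁻¹ = a
        rcases ha with ha | ha <;> rw [ha]
        · simp
        · exact conj_z h ((Subgroup.zpowers_le.2 hg) x.2)
    have hset : (MulAction.fixedPoints (Subgroup.zpowers g) ↥A) = ({1, ⟨z, hzA⟩} : Set ↥A) := by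
      ext a; rw [hfix a]; simp only [Set.mem_insert_iff, Set.mem_singleton_iff, Subtype.ext_iff, Subgroup.coe_one]
    rw [hset, Nat.card_coe_set_eq, Set.ncard_pair]
    exact fun e => h.extra.z_ne (congrArg Subtype.val e).symm
  have hmod := hp.card_modEq_card_fixedPoints ↥A
  rw [hF] at hmod
  obtain ⟨j, hj, hj'⟩ := (Nat.dvd_prime_pow Nat.prime_two).1 ((h.card_Q.symm ▸ Subgroup.card_dvd_of_le hA :
    Nat.card A ∣ 32).trans (dvd_of_eq (by norm_num : (32 : ℕ) = 2 ^ 5)))
  rw [hj'] at hmod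
  have hj15 : j = 1 ∨ j = 5 := by interval_cases j <;> simp_all [Nat.ModEq]
  rcases hj15 with rfl | rfl
  · exact Or.inl (by rw [hj', pow_one])
  · exact Or.inr (Subgroup.eq_of_le_of_card_ge hA (by rw [hj', h.card_Q]; norm_num))

/-- An element of `Q` commuting with every non-central involution is central. -/
theorem central_of_commute (h : Pre Q C z) {q : G} (hq : q ∈ Q) (hc : ∀ u ∈ invs Q z, q * u = u * q) :
    q = 1 ∨ q = z := by
  obtain ⟨g, hgC, hg⟩ := h.has_five
  let A := Q ⊓ Subgroup.centralizer ({q} : Set G)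
  have hsub : ∀ u ∈ invs Q z, u ∈ A := fun u hu =>
    Subgroup.mem_inf.2 ⟨hu.1, Subgroup.mem_centralizer_singleton_iff.2 (hc u hu).symm⟩
  let B := Subgroup.closure (invs Q z)
  have hBA : B ≤ A := (Subgroup.closure_le _).2 hsub
  obtain ⟨u, hu⟩ : (invs Q z).Nonempty := Set.nonempty_of_ncard_ne_zero (by rw [card_invs h]; norm_num)
  have huz : u * z ∈ invs Q z := by
    refine ⟨mul_mem hu.1 h.extra.z_mem, ?_, fun e => hu.2.2.2 ?_, fun e => hu.2.2.1 (mul_eq_right.1 e)⟩
    · rw [Commute.mul_mul_mul_comm (show Commute z u from h.extra.z_comm hu.1), hu.2.1, h.extra.z_sq, one_mul]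
    · rw [mul_eq_one_iff_eq_inv, h.extra.inv_z] at e; exact e
  have hzB : z ∈ B := by
    have hm : u * (u * z) ∈ B := mul_mem (Subgroup.subset_closure hu) (Subgroup.subset_closure huz)
    rwa [← mul_assoc, hu.2.1, one_mul] at hm
  have hinv : ∀ a ∈ B, g * a * g⁻¹ ∈ B := by
    intro a ha
    have : B.map (MulAut.conj g).toMonoidHom ≤ B := by
      rw [MonoidHom.map_closure]
      refine (Subgroup.closure_le _).2 ?_
      rintro _ ⟨w, hw, rfl⟩
      refine Subgroup.subset_closure ⟨h.norm g hgC w hw.1, ?_, fun e => hw.2.2.1 (conj_eq_one_iff.1 e), fun e => hw.2.2.2 ?_⟩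
      · simp only [MulEquiv.coe_toMonoidHom, MulAut.conj_apply]
        rw [conj_mul, hw.2.1]; group
      · exact mul_left_cancel (mul_right_cancel (e.trans (conj_z h hgC).symm))
    exact this ⟨a, ha, rfl⟩
  rcases card_invariant h hgC hg ((Subgroup.closure_le _).2 fun w hw => hw.1) hzB hinv with e | e
  · exfalso
    have h1 : (insert (1 : G) (insert z {u}) : Set G).ncard ≤ (B : Set G).ncard := by
      refine Set.ncard_le_ncard ?_
      rintro w (rfl | rfl | rfl)
      · exact one_mem _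
      · exact hzB
      · exact Subgroup.subset_closure hu
    rw [← Nat.card_coe_set_eq (B : Set G), SetLike.coe_sort_coe, e, Set.ncard_insert_of_notMem
      (by simp [Ne.symm h.extra.z_ne, Ne.symm hu.2.2.1]), Set.ncard_pair (Ne.symm hu.2.2.2)] at h1
    omega
  · refine h.extra.mem_center_cases hq fun w hw => ?_
    have hwB : w ∈ B := by rw [show B = Q from e]; exact hw
    exact (Subgroup.mem_centralizer_singleton_iff.1 (hBA hwB).2).symm

/-- An even vector of flips. -/
def EvenFlip (f : Fin 5 → Bool) : Prop := (∏ i, if f i then (-1 : ℤˣ) else 1) = 1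

theorem card_evenFlip :
    ((Finset.univ : Finset (Fin 5 → Bool)).filter fun f => (∏ i, if f i then (-1 : ℤˣ) else 1) = 1).card = 16 := by
  decide +kernel

set_option maxRecDepth 100000 in
theorem conj_involution : ∀ σ τ : Perm (Fin 5), sign σ = 1 → σ * σ = 1 → σ ≠ 1 → sign τ = 1 → τ * τ = 1 → τ ≠ 1 →
    ∃ ρ : Perm (Fin 5), sign ρ = 1 ∧ ρ * σ * ρ⁻¹ = τ := by
  decide +kernel

set_option maxRecDepth 100000 in
/-- Flips of an involution can be removed by an even vector of flips. -/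
theorem flip_involution : ∀ σ : Perm (Fin 5), sign σ = 1 → σ * σ = 1 → σ ≠ 1 → ∀ f : Fin 5 → Bool,
    (∏ i, if f i then (-1 : ℤˣ) else 1) = 1 → (∀ i, f i = f (σ i)) → ∃ d : Fin 5 → Bool,
      (∏ i, if d i then (-1 : ℤˣ) else 1) = 1 ∧ ∀ i, xor (xor (d i) (f i)) (d (σ i)) = false := by
  decide +kernel

/-- The standard four-group. -/
def klein : Subgroup (Perm (Fin 5)) where
  carrier := {σ | σ = 1 ∨ σ = swap 0 1 * swap 2 3 ∨ σ = swap 0 2 * swap 1 3 ∨ σ = swap 0 3 * swap 1 2}
  one_mem' := Or.inl rfl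
  mul_mem' := by
    rintro a b (rfl | rfl | rfl | rfl) (rfl | rfl | rfl | rfl) <;> simp only [Set.mem_ofPred_eq] <;> decide
  inv_mem' := by
    rintro a (rfl | rfl | rfl | rfl) <;> simp only [Set.mem_ofPred_eq] <;> decide

theorem mem_klein {σ : Perm (Fin 5)} : σ ∈ klein ↔
    σ = 1 ∨ σ = swap 0 1 * swap 2 3 ∨ σ = swap 0 2 * swap 1 3 ∨ σ = swap 0 3 * swap 1 2 := Iff.rfl

set_option maxHeartbeats 1000000 in
/-- `C` splits over `Q`. -/
theorem exists_setting (h : Base Q C z) : ∃ K : Subgroup G, Setting Q K z ∧ K ≤ C ∧ K ⊔ Q = C := by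
  classical
  have hp := h.pre
  obtain ⟨π, hπ, hπker⟩ := h.quot
  obtain ⟨g, hgC, hg⟩ := hp.has_five
  obtain ⟨t, φ, h5, ht, hall, hdist, heq⟩ := exists_frame_pre hp
  haveI : IsSimpleGroup (alternatingGroup (Fin 5)) := alternatingGroup.isSimpleGroup_five
  have hz2 := h.extra.z_sq
  -- the kernel of the action on the pairs is `Q`
  have hQφ : ∀ c : ↥C, (c : G) ∈ Q → φ c = 1 := by
    intro c hc
    ext i
    have h1 : Near z (t i) ((c : G) * t i * (c : G)⁻¹) := near_conj_Q hp (ht i).1 hc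
    rw [hdist _ _ (near_trans hp (heq c i) (near_symm hp h1))]
    rfl
  have hker : ∀ c : ↥C, φ c = 1 → (c : G) ∈ Q := by
    intro c hc
    have hn : (φ.ker.map π).Normal := Subgroup.Normal.map (MonoidHom.normal_ker φ) π hπ
    rcases hn.eq_bot_or_eq_top with e | e
    · have hm : π c ∈ φ.ker.map π := ⟨c, hc, rfl⟩
      rw [e, Subgroup.mem_bot] at hm
      have : c ∈ Q.subgroupOf C := by rw [← hπker]; exact hm
      exact this
    · exfalso
      have hm : π ⟨g, hgC⟩ ∈ φ.ker.map π := by rw [e]; trivial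
      obtain ⟨c', hc', he⟩ := hm
      have hd : c'⁻¹ * ⟨g, hgC⟩ ∈ Q.subgroupOf C := by
        rw [← hπker, MonoidHom.mem_ker, map_mul, map_inv, he, inv_mul_cancel]
      have h1 := hQφ (c'⁻¹ * (⟨g, hgC⟩ : ↥C)) hd
      rw [map_mul, map_inv, MonoidHom.mem_ker.1 hc', inv_one, one_mul] at h1
      exact h5 ⟨g, hgC⟩ hg h1
  have hrange : φ.range = alternatingGroup (Fin 5) := by
    refine Perm.eq_alternatingGroup_of_index_eq_two ?_
    have hk : φ.ker = π.ker := by
      rw [hπker]; ext c; exact ⟨hker c, hQφ c⟩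
    have hc : Nat.card φ.range = 60 := by
      rw [← Subgroup.index_ker, hk, Subgroup.index_ker, MonoidHom.range_eq_top.2 hπ, Subgroup.card_top,
        Nat.card_eq_fintype_card]
      decide
    have := φ.range.card_mul_index
    rw [hc, Nat.card_eq_fintype_card (α := Perm (Fin 5)), Fintype.card_perm, Fintype.card_fin] at this
    norm_num [Nat.factorial] at this
    omega
  -- flips
  let fl : Bool → G := fun b => if b then z else 1
  have hflm : ∀ a b, fl a * fl b = fl (xor a b) := by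
    rintro (_ | _) (_ | _) <;> simp [fl, hz2]
  have hflc : ∀ b, ∀ c ∈ C, c * fl b * c⁻¹ = fl b := by
    rintro (_ | _) c hc
    · simp [fl]
    · exact conj_z hp hc
  have hflinj : ∀ a b, fl a = fl b → a = b := by
    rintro (_ | _) (_ | _) e <;> first | rfl | exact absurd e.symm h.extra.z_ne | exact absurd e h.extra.z_ne
  let ε : ↥C → Fin 5 → Bool := fun c i => decide ((c : G) * t i * (c : G)⁻¹ ≠ t (φ c i))
  have hε : ∀ (c : ↥C) i, (c : G) * t i * (c : G)⁻¹ = t (φ c i) * fl (ε c i) := by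
    intro c i
    rcases heq c i with e | e
    · simp [ε, fl, e]
    · simp [ε, fl, e, h.extra.z_ne]
  -- the sign of the action on the ten involutions
  have hzmul : ∀ i b, t i * fl b ∈ invs Q z := by
    rintro i (_ | _)
    · simpa [fl] using ht i
    · refine ⟨mul_mem (ht i).1 h.extra.z_mem, ?_, fun e => (ht i).2.2.2 ?_, fun e => (ht i).2.2.1 (mul_eq_right.1 e)⟩
      · show t i * z * (t i * z) = 1
        rw [Commute.mul_mul_mul_comm (show Commute z (t i) from h.extra.z_comm (ht i).1), (ht i).2.1, hz2, one_mul]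
      · rw [show fl true = z from rfl, mul_eq_one_iff_eq_inv, h.extra.inv_z] at e; exact e
  haveI := Fintype.ofFinite (invs Q z)
  let E : Fin 5 × Bool ≃ invs Q z := Equiv.ofBijective (fun p => ⟨t p.1 * fl p.2, hzmul p.1 p.2⟩) (by
    constructor
    · rintro ⟨i, a⟩ ⟨j, b⟩ e
      have e' : t i * fl a = t j * fl b := congrArg Subtype.val e
      have hij : i = j := hdist i j (by
        rcases a <;> rcases b <;> simp [fl] at e'
        · exact Or.inl e'.symm
        · exact Or.inr (by rw [e', mul_assoc, hz2, mul_one])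
        · exact Or.inr e'.symm
        · exact Or.inl e'.symm)
      subst hij
      rw [hflinj a b (mul_left_cancel e')]
    · rintro ⟨u, hu⟩
      obtain ⟨i, hi⟩ := hall u hu
      rcases hi with e | e
      · exact ⟨(i, false), Subtype.ext (by simp [fl, e])⟩
      · exact ⟨(i, true), Subtype.ext (by simp [fl, e])⟩)
  have hmem : ∀ (c : ↥C), ∀ u ∈ invs Q z, (c : G) * u * (c : G)⁻¹ ∈ invs Q z := fun c u hu => by
    refine ⟨h.norm _ c.2 _ hu.1, by rw [conj_mul, hu.2.1]; group, fun e => hu.2.2.1 (conj_eq_one_iff.1 e),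
      fun e => hu.2.2.2 (mul_left_cancel (mul_right_cancel (e.trans (conj_z hp c.2).symm)))⟩
  letI : MulAction ↥C (invs Q z) :=
    { smul := fun c u => ⟨(c : G) * u * (c : G)⁻¹, hmem c u u.2⟩
      one_smul := fun u => Subtype.ext (show ((1 : ↥C) : G) * u * _ = _ by simp)
      mul_smul := fun c c' u => Subtype.ext (show ((c * c' : ↥C) : G) * u * _ = _ by
        show _ = (c : G) * ((c' : G) * u * (c' : G)⁻¹) * (c : G)⁻¹
        simp [mul_assoc]) }
  let χ : ↥C →* ℤˣ := Perm.sign.comp (MulAction.toPermHom ↥C (invs Q z))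
  have hχ : ∀ c, χ c = ∏ i, if ε c i then (-1 : ℤˣ) else 1 := by
    intro c
    have he : MulAction.toPermHom ↥C (invs Q z) c = E.permCongr
        (Equiv.prodCongrLeft (fun _ : Bool => φ c) * Equiv.prodCongrRight fun i => if ε c i then swap false true else 1) := by
      ext x
      obtain ⟨⟨i, b⟩, rfl⟩ := E.surjective x
      rw [Equiv.permCongr_apply, Equiv.symm_apply_apply]
      show (c : G) * (t i * fl b) * (c : G)⁻¹ = _
      rw [← conj_mul, hε, hflc b _ c.2, mul_assoc, hflm]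
      show _ = t _ * fl _
      congr 2
      rcases hh : ε c i <;> rcases b <;> simp [hh]
    show Perm.sign _ = _
    rw [he, Perm.sign_permCongr, map_mul, Perm.sign_prodCongrLeft, Perm.sign_prodCongrRight, Fintype.prod_bool,
      Int.units_mul_self, one_mul]
    exact Finset.prod_congr rfl fun i _ => by split_ifs <;> simp
  have hχQ : ∀ c : ↥C, (c : G) ∈ Q → χ c = 1 := by
    let A : Subgroup G := (χ.ker ⊓ Q.subgroupOf C).map C.subtype
    have hA : A ≤ Q := by rintro _ ⟨c, hc, rfl⟩; exact hc.2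
    have hzA : z ∈ A := by
      refine ⟨⟨z, h.le h.extra.z_mem⟩, ⟨?_, h.extra.z_mem⟩, rfl⟩
      show Perm.sign _ = 1
      rw [show MulAction.toPermHom ↥C (invs Q z) ⟨z, h.le h.extra.z_mem⟩ = 1 from Equiv.ext fun u => Subtype.ext
        (show z * (u : G) * z⁻¹ = u by rw [h.extra.z_comm u.2.1, mul_inv_cancel_right]), map_one]
    rcases card_invariant hp hgC hg hA hzA (by
      rintro _ ⟨c, hc, rfl⟩
      refine ⟨⟨g, hgC⟩ * c * ⟨g, hgC⟩⁻¹, ⟨?_, h.norm g hgC _ hc.2⟩, rfl⟩
      exact Subgroup.Normal.conj_mem (MonoidHom.normal_ker χ) _ hc.1 _) with e | e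
    · exfalso
      rw [Subgroup.card_map_of_injective C.subtype_injective] at e
      let χQ : ↥Q →* ℤˣ := χ.comp (Subgroup.inclusion h.le)
      have h1 := χQ.ker.card_mul_index
      rw [h.card_Q, Subgroup.index_ker] at h1
      have h2 : Nat.card χQ.range ≤ 2 := (Subgroup.card_le_card_group _).trans (by simp)
      have h3 : Nat.card χQ.ker ≤ 2 := e ▸ Nat.card_le_card_of_injective
        (fun q : χQ.ker => (⟨Subgroup.inclusion h.le q.1, q.2, q.1.2⟩ : ↥(χ.ker ⊓ Q.subgroupOf C)))
        fun a b hab => Subtype.ext (Subgroup.inclusion_injective h.le (congrArg Subtype.val hab))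
      nlinarith
    · intro c hc
      rw [← e] at hc
      obtain ⟨c', hc', he⟩ := hc
      rw [← show c' = c from Subtype.ext he]
      exact hc'.1
  have hχ1 : ∀ c, χ c = 1 := by
    intro c
    have hn : (χ.ker.map π).Normal := Subgroup.Normal.map (MonoidHom.normal_ker χ) π hπ
    rcases hn.eq_bot_or_eq_top with e | e
    · exfalso
      have hcomm : ∀ a b : ↥C, π a * π b = π b * π a := by
        intro a b
        have hm : π (a * b * a⁻¹ * b⁻¹) ∈ χ.ker.map π := ⟨_, by
          rw [SetLike.mem_coe, MonoidHom.mem_ker, map_mul, map_mul, map_mul, map_inv, map_inv, mul_comm (χ a) (χ b)]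
          group, rfl⟩
        rw [e, Subgroup.mem_bot, map_mul, map_mul, map_mul, map_inv, map_inv, mul_inv_eq_one, mul_inv_eq_iff_eq_mul] at hm
        exact hm
      have : ∀ a b : alternatingGroup (Fin 5), a * b = b * a := fun a b => by
        obtain ⟨a', rfl⟩ := hπ a; obtain ⟨b', rfl⟩ := hπ b; exact hcomm a' b'
      revert this; decide +kernel
    · have hm : π c ∈ χ.ker.map π := by rw [e]; trivial
      obtain ⟨c', hc', he⟩ := hm
      have hd : c'⁻¹ * c ∈ Q.subgroupOf C := by rw [← hπker, MonoidHom.mem_ker, map_mul, map_inv, he, inv_mul_cancel]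
      have h1 := hχQ (c'⁻¹ * c) hd
      rwa [map_mul, map_inv, MonoidHom.mem_ker.1 hc', inv_one, one_mul] at h1
  have heven : ∀ c, EvenFlip (ε c) := fun c => (hχ c).symm.trans (hχ1 c)
  -- every even vector of flips comes from `Q`
  have hsurj : ∀ f, EvenFlip f → ∃ q : ↥C, (q : G) ∈ Q ∧ ε q = f := by
    haveI := Fintype.ofFinite ↥Q
    let δ : ↥Q → Fin 5 → Bool := fun q => ε ⟨q, h.le q.2⟩
    have hsub : (Finset.univ.image δ) ⊆
        (Finset.univ : Finset (Fin 5 → Bool)).filter fun f => (∏ i, if f i then (-1 : ℤˣ) else 1) = 1 := fun f hf => by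
      obtain ⟨q, -, rfl⟩ := Finset.mem_image.1 hf
      exact Finset.mem_filter.2 ⟨Finset.mem_univ _, heven _⟩
    have hfib : ∀ f ∈ Finset.univ.image δ, (Finset.univ.filter fun q => δ q = f).card ≤ 2 := by
      intro f hf
      obtain ⟨q, -, rfl⟩ := Finset.mem_image.1 hf
      refine (Finset.card_le_card (t := {q, q * ⟨z, h.extra.z_mem⟩}) fun q' hq' => ?_).trans Finset.card_le_two
      have heq' : δ q' = δ q := (Finset.mem_filter.1 hq').2
      have hc : ∀ i, ((q : G)⁻¹ * q') * t i = t i * ((q : G)⁻¹ * q') := fun i => by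
        have h1 := hε ⟨q', h.le q'.2⟩ i
        have h2 := hε ⟨q, h.le q.2⟩ i
        rw [hQφ _ q'.2, show ε ⟨q', h.le q'.2⟩ = δ q from heq'] at h1
        rw [hQφ _ q.2] at h2
        have h3 : (q' : G) * t i * (q' : G)⁻¹ = (q : G) * t i * (q : G)⁻¹ := h1.trans h2.symm
        rw [mul_inv_eq_iff_eq_mul] at h3
        rw [mul_assoc, h3]; group
      rcases central_of_commute hp (mul_mem (inv_mem q.2) q'.2) (fun u hu => by
        obtain ⟨i, hi⟩ := hall u hu
        exact ((comm_near hp (mul_mem (inv_mem q.2) q'.2) hi).2 (hc i).symm).eq.symm) with e | e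
      · exact Finset.mem_insert.2 (Or.inl (Subtype.ext (inv_mul_eq_one.1 e).symm))
      · exact Finset.mem_insert.2 (Or.inr (Finset.mem_singleton.2 (Subtype.ext (inv_mul_eq_iff_eq_mul.1 e))))
    have h32 := Finset.card_le_mul_card_image Finset.univ 2 hfib
    rw [Finset.card_univ, ← Nat.card_eq_fintype_card, h.card_Q] at h32
    have heq16 := Finset.eq_of_subset_of_card_le hsub (by rw [card_evenFlip]; omega)
    intro f hf
    have hm : f ∈ Finset.univ.image δ := by rw [heq16]; exact Finset.mem_filter.2 ⟨Finset.mem_univ _, hf⟩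
    obtain ⟨q, -, rfl⟩ := Finset.mem_image.1 hm
    exact ⟨⟨q, h.le q.2⟩, q.2, rfl⟩
  have hεmul : ∀ a b : ↥C, ∀ i, ε (a * b) i = xor (ε a (φ b i)) (ε b i) := by
    intro a b i
    apply hflinj
    have h1 := hε (a * b) i
    rw [Subgroup.coe_mul, show (a : G) * b * t i * ((a : G) * b)⁻¹ = (a : G) * ((b : G) * t i * (b : G)⁻¹) * (a : G)⁻¹
      by group, hε b i, ← conj_mul, hε a, hflc _ _ a.2, map_mul, mul_assoc, hflm] at h1
    exact (mul_left_cancel h1).symm
  -- the stabiliser of the transversal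
  let K1 : Subgroup ↥C :=
    { carrier := {c | ∀ i, ε c i = false}
      one_mem' := fun i => by simp [ε]
      mul_mem' := fun {a b} ha hb i => by rw [hεmul, ha, hb]; rfl
      inv_mem' := fun {a} ha i => by
        have h1 := hεmul a⁻¹ a ((φ a)⁻¹ i)
        rw [inv_mul_cancel, ha, Equiv.Perm.inv_def, Equiv.apply_symm_apply, Bool.xor_false] at h1
        rw [← h1]
        simp [ε] }
  have hK1 : ∀ c : ↥C, ∃ q : ↥C, (q : G) ∈ Q ∧ q * c ∈ K1 := by
    intro c
    have hf : EvenFlip (fun j => ε c ((φ c)⁻¹ j)) :=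
      (Equiv.prod_comp (φ c)⁻¹ fun i => if ε c i then (-1 : ℤˣ) else 1).trans (heven c)
    obtain ⟨q, hq, hqf⟩ := hsurj _ hf
    refine ⟨q, hq, fun i => ?_⟩
    rw [hεmul, hqf]
    simp
  -- an involution in the stabiliser outside `Q`
  obtain ⟨v, hvC, hvQ, hv2⟩ := h.outer
  let v' : ↥C := ⟨v, hvC⟩
  have hσ1 : φ v' ≠ 1 := fun e => hvQ (hker v' e)
  have hσs : ∀ c : ↥C, Perm.sign (φ c) = 1 := fun c => mem_alternatingGroup.1 (hrange ▸ ⟨c, rfl⟩)
  have hv'2 : v' * v' = 1 := Subtype.ext hv2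
  have hσ2 : φ v' * φ v' = 1 := by rw [← map_mul, hv'2, map_one]
  obtain ⟨d, hd, hd'⟩ := flip_involution (φ v') (hσs v') hσ2 hσ1 (ε v') (heven v') (fun i => by
    have h1 := hεmul v' v' i
    rw [hv'2] at h1
    have h2 : ε (1 : ↥C) i = false := by simp [ε]
    rw [h2] at h1
    revert h1
    rcases ε v' (φ v' i) <;> rcases ε v' i <;> simp)
  obtain ⟨q, hqQ, hqd⟩ := hsurj d hd
  let w : ↥C := q * v' * q⁻¹
  have hw2 : w * w = 1 := by
    simp only [w]; rw [conj_mul, hv'2, mul_one, mul_inv_cancel]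
  have hwφ : φ w = φ v' := by
    simp only [w]; rw [map_mul, map_mul, map_inv, hQφ q hqQ, inv_one, one_mul, mul_one]
  have hwK1 : w ∈ K1 := fun i => by
    have hqinv : ∀ j, ε q⁻¹ j = ε q j := fun j => by
      have h1 := hεmul q⁻¹ q j
      rw [inv_mul_cancel, show ε (1 : ↥C) j = false by simp [ε], hQφ q hqQ, Equiv.Perm.one_apply] at h1
      revert h1
      rcases ε q⁻¹ j <;> rcases ε q j <;> simp
    rw [show w = q * v' * q⁻¹ from rfl, hεmul, hεmul, hqinv, hqd, map_inv, hQφ q hqQ, inv_one,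
      Equiv.Perm.one_apply]
    have := hd' i
    revert this
    rcases d i <;> rcases ε v' i <;> rcases d (φ v' i) <;> simp
  -- split the stabiliser
  let ψ : ↥K1 →* Perm (Fin 5) := φ.comp K1.subtype
  have hψs : ∀ σ : Perm (Fin 5), Perm.sign σ = 1 → ∃ c : ↥K1, ψ c = σ := by
    intro σ hσ
    obtain ⟨c, hc⟩ : σ ∈ φ.range := by rw [hrange]; exact mem_alternatingGroup.2 hσ
    obtain ⟨q', hq', hqc⟩ := hK1 c
    exact ⟨⟨q' * c, hqc⟩, by show φ (q' * c) = σ; rw [map_mul, hQφ q' hq', one_mul, hc]⟩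
  have hkerψ : ∀ c : ↥K1, ψ c = 1 → ((c : ↥C) : G) = 1 ∨ ((c : ↥C) : G) = z := by
    intro c hc
    have hcQ : ((c : ↥C) : G) ∈ Q := hker _ hc
    refine central_of_commute hp hcQ fun u hu => ?_
    obtain ⟨i, hi⟩ := hall u hu
    refine ((comm_near hp hcQ hi).2 ?_).eq.symm
    have h1 := hε c i
    rw [c.2 i, show φ (c : ↥C) = 1 from hc] at h1
    exact (mul_inv_eq_iff_eq_mul.1 (by simpa [fl] using h1)).symm
  have hψinv : ∀ c : ↥K1, ψ c * ψ c = 1 → c * c = 1 := by
    intro c hc
    apply Subtype.ext; apply Subtype.ext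
    show ((c : ↥C) : G) * ((c : ↥C) : G) = 1
    by_cases hc1 : ψ c = 1
    · rcases hkerψ c hc1 with e | e <;> rw [e]
      · exact one_mul 1
      · exact hz2
    · obtain ⟨ρ, hρ, hρe⟩ := conj_involution (ψ ⟨w, hwK1⟩) (ψ c) (hσs _) (by
        show φ w * φ w = 1; rw [hwφ, hσ2]) (by show φ w ≠ 1; rw [hwφ]; exact hσ1) (hσs _) hc hc1
      obtain ⟨r, rfl⟩ := hψs ρ hρ
      have h1 : ψ (c⁻¹ * (r * ⟨w, hwK1⟩ * r⁻¹)) = 1 := by
        rw [map_mul, map_inv, map_mul, map_mul, map_inv, hρe, inv_mul_cancel]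
      have hcz : ((c : ↥C) : G) * z = z * ((c : ↥C) : G) := h.cent _ (c : ↥C).2
      have hrw : ((r : ↥C) : G) * (w : G) * ((r : ↥C) : G)⁻¹ * (((r : ↥C) : G) * (w : G) * ((r : ↥C) : G)⁻¹) = 1 := by
        rw [conj_mul, ← Subgroup.coe_mul, hw2, Subgroup.coe_one]; group
      rcases hkerψ _ h1 with e | e
      · have e' : ((c : ↥C) : G) = ((r : ↥C) : G) * (w : G) * ((r : ↥C) : G)⁻¹ := inv_mul_eq_one.1 e
        rw [e']; exact hrw
      · have e' : ((r : ↥C) : G) * (w : G) * ((r : ↥C) : G)⁻¹ = ((c : ↥C) : G) * z := inv_mul_eq_iff_eq_mul.1 e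
        rw [e', Commute.mul_mul_mul_comm (show Commute z ((c : ↥C) : G) from hcz.symm), hz2, mul_one] at hrw
        exact hrw
  let U : Subgroup ↥K1 := klein.comap ψ
  have hkab : IsMulCommutative ψ.ker := ⟨⟨fun a b => by
    apply Subtype.ext; apply Subtype.ext; apply Subtype.ext
    show (((a : ↥K1) : ↥C) : G) * (((b : ↥K1) : ↥C) : G) = (((b : ↥K1) : ↥C) : G) * (((a : ↥K1) : ↥C) : G)
    rcases hkerψ a a.2 with e | e <;> rcases hkerψ b b.2 with e' | e' <;> rw [e, e'] <;> simp⟩⟩
  haveI := hkab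
  obtain ⟨x, hx⟩ := hψs (swap 0 1 * swap 2 3) (by decide)
  obtain ⟨y, hy⟩ := hψs (swap 0 2 * swap 1 3) (by decide)
  have hUsq : ∀ u ∈ U, u * u = 1 := fun u hu => hψinv u (by
    rcases mem_klein.1 hu with e | e | e | e <;> rw [e] <;> decide)
  have hxU : x ∈ U := mem_klein.2 (Or.inr (Or.inl hx))
  have hyU : y ∈ U := mem_klein.2 (Or.inr (Or.inr (Or.inl hy)))
  have hxx := hUsq x hxU
  have hyy := hUsq y hyU
  have hxy : x * y = y * x := by
    rw [← inv_eq_of_mul_eq_one_right (hUsq (x * y) (mul_mem hxU hyU)), mul_inv_rev, inv_eq_of_mul_eq_one_right hxx,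
      inv_eq_of_mul_eq_one_right hyy]
  let A : Subgroup ↥K1 :=
    { carrier := {a | a = 1 ∨ a = x ∨ a = y ∨ a = x * y}
      one_mem' := Or.inl rfl
      mul_mem' := fun {a b} ha hb => by
        have e1 : x * (x * y) = y := by rw [← mul_assoc, hxx, one_mul]
        have e2 : y * (x * y) = x := by rw [← mul_assoc, ← hxy, mul_assoc, hyy, mul_one]
        have e3 : x * y * x = y := by rw [mul_assoc, ← hxy, e1]
        have e4 : x * y * y = x := by rw [mul_assoc, hyy, mul_one]
        have e5 : x * y * (x * y) = 1 := by rw [mul_assoc, e2, hxx]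
        show a * b = 1 ∨ a * b = x ∨ a * b = y ∨ a * b = x * y
        rcases ha with ha | ha | ha | ha <;> rcases hb with hb | hb | hb | hb <;> rw [ha, hb] <;>
          simp only [one_mul, mul_one, hxx, hyy, ← hxy, e1, e2, e3, e4, e5, true_or, or_true]
      inv_mem' := fun {a} ha => by
        show a⁻¹ = 1 ∨ a⁻¹ = x ∨ a⁻¹ = y ∨ a⁻¹ = x * y
        rcases ha with ha | ha | ha | ha <;> rw [ha]
        · left; simp
        · right; left; exact inv_eq_of_mul_eq_one_right hxx
        · right; right; left; exact inv_eq_of_mul_eq_one_right hyy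
        · right; right; right
          rw [mul_inv_rev, inv_eq_of_mul_eq_one_right hxx, inv_eq_of_mul_eq_one_right hyy, hxy] }
  have hAK : A ⊓ ψ.ker = ⊥ := by
    rw [eq_bot_iff]
    rintro a ⟨ha, hak⟩
    rcases ha with e | e | e | e
    · rw [e]; exact one_mem _
    all_goals
      exfalso
      have := MonoidHom.mem_ker.1 hak
      rw [e] at this
      simp only [map_mul, hx, hy] at this
      revert this; decide
  have hKA : ψ.ker ⊔ A = U := by
    refine le_antisymm (sup_le (fun a ha => ?_) ?_) fun u hu => ?_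
    · show ψ a ∈ klein
      rw [MonoidHom.mem_ker.1 ha]; exact one_mem _
    · rintro a (e | e | e | e) <;> rw [e]
      · exact one_mem _
      · exact hxU
      · exact hyU
      · exact mul_mem hxU hyU
    · obtain ⟨a, ha, he⟩ : ∃ a ∈ A, ψ a = ψ u := by
        rcases mem_klein.1 hu with e | e | e | e
        · exact ⟨1, one_mem _, by rw [map_one, e]⟩
        · exact ⟨x, Or.inr (Or.inl rfl), by rw [hx, e]⟩
        · exact ⟨y, Or.inr (Or.inr (Or.inl rfl)), by rw [hy, e]⟩
        · exact ⟨x * y, Or.inr (Or.inr (Or.inr rfl)), by rw [map_mul, hx, hy, e]; decide⟩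
      rw [show u = u * a⁻¹ * a by group]
      exact mul_mem (Subgroup.mem_sup_left (MonoidHom.mem_ker.2 (by rw [map_mul, map_inv, he, mul_inv_cancel])))
        (Subgroup.mem_sup_right ha)
  have hψrange : ψ.range = alternatingGroup (Fin 5) := by
    refine le_antisymm (fun σ ⟨c, hc⟩ => mem_alternatingGroup.2 (hc ▸ hσs _)) fun σ hσ => ?_
    exact hψs σ (mem_alternatingGroup.1 hσ)
  have hcop : (Nat.card ψ.ker).Coprime U.index := by
    have hUi : U.index = 15 := by
      rw [Subgroup.index_comap, hψrange]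
      have h1 : klein ≤ alternatingGroup (Fin 5) := by
        intro σ hσ
        rcases mem_klein.1 hσ with e | e | e | e <;> rw [mem_alternatingGroup, e] <;> decide
      have h2 := (klein.subgroupOf (alternatingGroup (Fin 5))).card_mul_index
      rw [Nat.card_congr (Subgroup.subgroupOfEquivOfLe h1).toEquiv] at h2
      have h3 : Nat.card klein = 4 := by
        show Nat.card {σ : Perm (Fin 5) // σ ∈ klein} = 4
        rw [Nat.card_congr (Equiv.subtypeEquivRight fun σ => mem_klein), Nat.card_eq_fintype_card]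
        decide
      rw [h3, show Nat.card (alternatingGroup (Fin 5)) = 60 by rw [Nat.card_eq_fintype_card]; decide] at h2
      rw [Subgroup.relIndex]
      omega
    have hk : Nat.card ψ.ker ≤ 2 := by
      refine (Nat.card_le_card_of_injective
        (fun a : ψ.ker => (⟨(((a : ↥K1) : ↥C) : G), hkerψ a a.2⟩ : ({1, z} : Set G))) fun a b hab => ?_).trans ?_
      · exact Subtype.ext (Subtype.ext (Subtype.ext (congrArg Subtype.val hab : _)))
      · rw [Nat.card_coe_set_eq, Set.ncard_pair (Ne.symm h.extra.z_ne)]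
    rw [hUi]
    have : 0 < Nat.card ψ.ker := Nat.card_pos
    interval_cases Nat.card ψ.ker <;> decide
  obtain ⟨H, hH⟩ := CfsgLib.Solvable.Gaschutz.exists_complement ψ.ker U (fun a ha => show ψ a ∈ klein by
    rw [MonoidHom.mem_ker.1 ha]; exact one_mem _) hcop A hAK hKA
  have hHinj : ∀ a ∈ H, ψ a = 1 → a = 1 := fun a ha h1 =>
    Subgroup.mem_bot.1 (hH.disjoint.le_bot ⟨MonoidHom.mem_ker.2 h1, ha⟩)
  have hHsurj : ∀ σ : Perm (Fin 5), Perm.sign σ = 1 → ∃ a ∈ H, ψ a = σ := fun σ hσ => by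
    obtain ⟨c, rfl⟩ := hψs σ hσ
    obtain ⟨⟨a, b⟩, he⟩ := (hH.existsUnique c).exists
    exact ⟨b, b.2, by rw [← he, map_mul, show ψ (a : ↥K1) = 1 from a.2, one_mul]⟩
  let K : Subgroup G := (H.map K1.subtype).map C.subtype
  have hKmem : ∀ k, k ∈ K ↔ ∃ a ∈ H, ((a : ↥C) : G) = k := by
    intro k
    constructor
    · rintro ⟨_, ⟨a, ha, rfl⟩, rfl⟩; exact ⟨a, ha, rfl⟩
    · rintro ⟨a, ha, rfl⟩; exact ⟨_, ⟨a, ha, rfl⟩, rfl⟩
  have hdisj : Q ⊓ K = ⊥ := by
    rw [eq_bot_iff]
    rintro k ⟨hk, hk'⟩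
    obtain ⟨a, ha, rfl⟩ := (hKmem k).1 hk'
    rw [hHinj a ha (hQφ _ hk)]
    exact one_mem _
  refine ⟨K, ?_, Subgroup.map_subtype_le _, ?_⟩
  · refine ⟨h.extra, h.card_Q, fun k hk => h.norm k (Subgroup.map_subtype_le _ hk), fun k hk =>
      h.cent k (Subgroup.map_subtype_le _ hk), hdisj, fun k hk hfix => ?_, ?_⟩
    · have h1 : k ∈ Q ⊓ K := ⟨h.cent_le k (Subgroup.map_subtype_le _ hk) hfix, hk⟩
      rwa [hdisj, Subgroup.mem_bot] at h1
    · let f : ↥H →* alternatingGroup (Fin 5) := MonoidHom.codRestrict (ψ.comp H.subtype) _ fun a =>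
        mem_alternatingGroup.2 (hσs _)
      have hf : Function.Bijective f := by
        constructor
        · rw [← f.ker_eq_bot_iff, eq_bot_iff]
          exact fun a ha => Subtype.ext (hHinj a a.2 (congrArg Subtype.val ha))
        · intro σ
          obtain ⟨a, ha, he⟩ := hHsurj σ (mem_alternatingGroup.1 σ.2)
          exact ⟨⟨a, ha⟩, Subtype.ext he⟩
      exact ⟨((Subgroup.equivMapOfInjective _ _ C.subtype_injective).symm.trans
        (Subgroup.equivMapOfInjective H _ K1.subtype_injective).symm).trans (MulEquiv.ofBijective f hf)⟩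
  · refine le_antisymm (sup_le (Subgroup.map_subtype_le _) h.le) fun c hc => ?_
    obtain ⟨a, ha, he⟩ := hHsurj (φ ⟨c, hc⟩) (hσs _)
    have h1 : ((a : ↥C) : G)⁻¹ * c ∈ Q := hker ((a : ↥C)⁻¹ * ⟨c, hc⟩) (by
      rw [map_mul, map_inv, show φ (a : ↥C) = φ ⟨c, hc⟩ from he, inv_mul_cancel])
    rw [show c = ((a : ↥C) : G) * (((a : ↥C) : G)⁻¹ * c) by group]
    exact mul_mem (Subgroup.mem_sup_left ((hKmem _).2 ⟨a, ha, rfl⟩)) (Subgroup.mem_sup_right h1)

end CfsgLib.Characterizations.HallJanko
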