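import Cfsg.Agent.Lib.Characterizations.HallJanko.OddCent

/-!
# The Sylow five-subgroups of a group of Hall–Janko type
-/

set_option autoImplicit false
set_option linter.style.haveILetI false
set_option linter.unusedSectionVars false

namespace CfsgLib.Characterizations.HallJanko

open CfsgLib.Characterizations.HallJankoCount
open CfsgLib.Involution.Dihedral

variable {G : Type*} [Group G] [Finite G] {z t : G} {Q K P B : Subgroup G}

/-- An element of order five commuting with an involution of the second class. -/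
def RType (t y : G) : Prop := orderOf y = 5 ∧ ∃ v, IsConj t v ∧ v * y = y * v

theorem RType.conj {y : G} (hy : RType t y) (g : G) : RType t (g * y * g⁻¹) := by
  obtain ⟨ho, v, hv, hc⟩ := hy
  exact ⟨by rw [CfsgLib.Involution.Dihedral.orderOf_conj, ho], g * v * g⁻¹, hv.trans (isConj_iff.2 ⟨g, rfl⟩),
    by rw [conj_mul, conj_mul, hc]⟩

theorem RType.of_mem_zpowers {y w : G} (hy : RType t y) (hw : w ∈ Subgroup.zpowers y) (ho : orderOf w = 5) :
    RType t w := by
  obtain ⟨i, rfl⟩ := hw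
  obtain ⟨-, v, hv, hc⟩ := hy
  exact ⟨ho, v, hv, ((show Commute v y from hc).zpow_right i).eq⟩

/-- Nontrivial members of a subgroup of prime order generate it. -/
theorem zpowers_eq_of_mem {p : ℕ} [Fact p.Prime] {y w : G} (hy : orderOf y = p) (hw : w ∈ Subgroup.zpowers y)
    (hw1 : w ≠ 1) : orderOf w = p ∧ Subgroup.zpowers w = Subgroup.zpowers y := by
  have hd : orderOf w ∣ p := by rw [← hy, ← Nat.card_zpowers y]; exact Subgroup.orderOf_dvd_natCard _ hw
  have ho : orderOf w = p := ((Nat.dvd_prime Fact.out).1 hd).resolve_left fun e => hw1 (orderOf_eq_one_iff.1 e)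
  exact ⟨ho, Subgroup.eq_of_le_of_card_ge (Subgroup.zpowers_le.2 hw) (by rw [Nat.card_zpowers, Nat.card_zpowers, ho, hy])⟩

namespace JData

theorem RType_exists_B (h : JData z t Q K P B) {y : G} (hy : RType t y) : ∃ g : G, g * y * g⁻¹ ∈ B := by
  obtain ⟨ho, v, hv, hc⟩ := hy
  obtain ⟨g, hg⟩ := isConj_iff.1 hv.symm
  exact ⟨g, h.mem_B_of_odd (Or.inr rfl) (mem_cz.2 (by rw [← hg, conj_mul, conj_mul, hc]))
    (by rw [CfsgLib.Involution.Dihedral.orderOf_conj, ho])⟩

theorem RType_of_B (h : JData z t Q K P B) {r : G} (hrB : r ∈ B) (hr : orderOf r = 5) : RType t r :=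
  ⟨hr, t, IsConj.refl t, h.split.comm t h.split.tP r hrB⟩

theorem exists_five_B (h : JData z t Q K P B) : ∃ r ∈ B, orderOf r = 5 := by
  obtain ⟨eB⟩ := h.altB
  haveI : Fact (Nat.Prime 5) := ⟨by norm_num⟩
  exact alt5_exists_orderOf eB (by norm_num)

/-- An element of order five centralising an involution of the class of `z` is not of `R`-type. -/
theorem not_RType (h : JData z t Q K P B) {g : G} (hg : g ∈ Subgroup.centralizer ({z} : Set G)) : ¬ RType t g := by
  intro hR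
  obtain ⟨c, hc⟩ := h.RType_exists_B hR
  have ho : orderOf (c * g * c⁻¹) = 5 := by rw [CfsgLib.Involution.Dihedral.orderOf_conj, hR.1]
  have hzz := h.m.hj.setting.extra.z_sq
  have hcl := (h.odd_centraliser (Or.inr rfl) hc ho).1 (c * z * c⁻¹) (by rw [conj_mul, hzz, mul_one, mul_inv_cancel])
    (fun e => h.m.hj.setting.extra.z_ne (conj_eq_one_iff.1 e))
    (by rw [conj_mul, conj_mul, (mem_cz.1 hg)])
  exact h.m.not_isConj ((hcl.trans (isConj_iff.2 ⟨c, rfl⟩).symm).symm)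

theorem card_sylow_five (h : JData z t Q K P B) (S : Sylow 5 G) [Fact (Nat.Prime 5)] :
    Nat.card (S : Subgroup G) = 25 := by
  obtain ⟨k, hk⟩ := S.2.exists_card_eq
  have h1 : 5 ^ k ∣ 604800 := hk ▸ h.card ▸ Subgroup.card_subgroup_dvd_card _
  have h2 : 5 ^ 2 ∣ Nat.card (S : Subgroup G) :=
    S.pow_dvd_card_of_pow_dvd_card (by rw [h.card]; norm_num)
  rw [hk] at h2 ⊢
  have hk2 : 2 ≤ k := (Nat.pow_dvd_pow_iff_le_right (by norm_num : 1 < 5)).1 h2
  have hk3 : k < 3 := by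
    by_contra hge
    push Not at hge
    exact absurd ((pow_dvd_pow 5 hge).trans h1) (by norm_num)
  interval_cases k
  norm_num

theorem sylow_five_comm (h : JData z t Q K P B) (S : Sylow 5 G) [Fact (Nat.Prime 5)] :
    ∀ a ∈ (S : Subgroup G), ∀ b ∈ (S : Subgroup G), a * b = b * a := by
  intro a ha b hb
  exact congrArg Subtype.val ((IsPGroup.isMulCommutative_of_card_eq_prime_sq (p := 5)
    (G := ↥(S : Subgroup G)) (by rw [h.card_sylow_five S]; norm_num)).is_comm.comm ⟨a, ha⟩ ⟨b, hb⟩)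

set_option maxHeartbeats 1000000 in
/-- The Sylow five-subgroups containing an element of `B`. -/
theorem five_main (h : JData z t Q K P B) [Fact (Nat.Prime 5)] {r : G} (hrB : r ∈ B) (hr : orderOf r = 5)
    (S : Sylow 5 G) (hrS : r ∈ (S : Subgroup G)) :
    Nat.card (Subgroup.centralizer ({r} : Set G)) = 300 ∧
    (∀ g : G, g * r * g⁻¹ ∈ Subgroup.zpowers r → g * r * g⁻¹ = r ∨ g * r * g⁻¹ = r⁻¹) ∧
    Subgroup.centralizer ((S : Subgroup G) : Set G) = S ∧
    Nat.card (Subgroup.normalizer ((S : Subgroup G) : Set G)) = 300 ∧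
    ∀ g₀ ∈ K, orderOf g₀ = 5 → ∀ y ∈ (S : Subgroup G), y ≠ 1 →
      ∃ g : G, g * y * g⁻¹ ∈ Subgroup.zpowers r ∨ g * y * g⁻¹ ∈ Subgroup.zpowers g₀ := by
  classical
  obtain ⟨eB⟩ := h.altB
  have hS25 := h.card_sylow_five S
  have hab := h.sylow_five_comm S
  have hSH : (S : Subgroup G) ≤ Subgroup.centralizer ({r} : Set G) := fun a ha => mem_cz.2 (hab a ha r hrS)
  obtain ⟨-, hcases⟩ := h.odd_centraliser (Or.inr rfl) hrB hr
  have h25 : 25 ∣ Nat.card (Subgroup.centralizer ({r} : Set G)) := hS25 ▸ Subgroup.card_dvd_of_le hSH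
  obtain ⟨hH, π, hπs, hπ⟩ : Nat.card (Subgroup.centralizer ({r} : Set G)) = 300 ∧
      ∃ π : ↥(Subgroup.centralizer ({r} : Set G)) →* alternatingGroup (Fin 5), Function.Surjective π ∧
        ∀ c, π c = 1 ↔ (c : G) ∈ Subgroup.zpowers r := by
    rcases hcases with ⟨hc | hc, -⟩ | hc
    · rw [hc] at h25; norm_num at h25
    · rw [hc] at h25; norm_num at h25
    · exact hc
  let A5 := alternatingGroup (Fin 5)
  -- the image of the Sylow subgroup
  have hR : Subgroup.zpowers r ≤ (S : Subgroup G) := Subgroup.zpowers_le.2 hrS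
  obtain ⟨a, haS, haR⟩ : ∃ a ∈ (S : Subgroup G), a ∉ Subgroup.zpowers r := by
    by_contra hne
    push Not at hne
    have := Subgroup.card_le_of_le (show (S : Subgroup G) ≤ Subgroup.zpowers r from hne)
    rw [hS25, Nat.card_zpowers, hr] at this
    norm_num at this
  let σ : A5 := π ⟨a, hSH haS⟩
  have hσ : orderOf σ = 5 := by
    have h1 : orderOf σ ∣ 25 := by
      refine (orderOf_map_dvd π _).trans ?_
      rw [← Subgroup.orderOf_coe, ← hS25]
      exact Subgroup.orderOf_dvd_natCard _ haS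
    have h2 : orderOf σ ∣ 60 := card_alt5 (MulEquiv.refl A5) ▸ orderOf_dvd_natCard σ
    have h5 : orderOf σ ∣ 5 := (Nat.dvd_gcd h1 h2).trans (by norm_num)
    exact ((Nat.dvd_prime (by norm_num)).1 h5).resolve_left fun e => haR ((hπ _).1 (orderOf_eq_one_iff.1 e))
  have hmem : ∀ c : ↥(Subgroup.centralizer ({r} : Set G)), π c ∈ Subgroup.zpowers σ ↔ (c : G) ∈ (S : Subgroup G) := by
    intro c
    constructor
    · rintro ⟨i, hi⟩
      have hi' : σ ^ i = π c := hi
      have h1 : π ((⟨a, hSH haS⟩ : ↥(Subgroup.centralizer ({r} : Set G))) ^ (-i) * c) = 1 := by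
        rw [map_mul, map_zpow, ← hi', zpow_neg, inv_mul_cancel]
      have h2 := hR ((hπ _).1 h1)
      simp only [Subgroup.coe_mul, Subgroup.coe_zpow] at h2
      have := mul_mem (zpow_mem haS i) h2
      rwa [← mul_assoc, ← zpow_add, add_neg_cancel, zpow_zero, one_mul] at this
    · intro hc
      refine (alt5_odd (MulEquiv.refl A5) (Or.inr hσ)).1 _ ?_
      rw [← map_mul, ← map_mul]
      exact congrArg π (Subtype.ext (hab a haS c hc))
  -- self-centralising
  have hcent : Subgroup.centralizer ((S : Subgroup G) : Set G) = S := by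
    refine le_antisymm (fun c hc => ?_) (fun c hc => Subgroup.mem_centralizer_iff.2 fun b hb => hab b hb c hc)
    have hcH : c ∈ Subgroup.centralizer ({r} : Set G) := mem_cz.2 (Subgroup.mem_centralizer_iff.1 hc r hrS).symm
    refine (hmem ⟨c, hcH⟩).1 ((alt5_odd (MulEquiv.refl A5) (Or.inr hσ)).1 _ ?_)
    rw [← map_mul, ← map_mul]
    exact congrArg π (Subtype.ext (Subgroup.mem_centralizer_iff.1 hc a haS))
  -- fusion in the cyclic subgroup
  have hnorm : ∀ g : G, g * r * g⁻¹ ∈ Subgroup.zpowers r → g * r * g⁻¹ = r ∨ g * r * g⁻¹ = r⁻¹ := by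
    intro g hg
    have hg1 : g * r * g⁻¹ ≠ 1 := fun e => by
      rw [conj_eq_one_iff] at e; rw [e, orderOf_one] at hr; norm_num at hr
    have hzp := (zpowers_eq_of_mem hr hg hg1).2
    have htr : Commute t r := h.split.comm t h.split.tP r hrB
    have htH : t ∈ Subgroup.centralizer ({r} : Set G) := mem_cz.2 htr.eq
    have hc1 : Commute (g * t * g⁻¹) (g * r * g⁻¹) := by
      show _ * _ = _ * _
      rw [conj_mul, conj_mul, htr.eq]
    obtain ⟨i, hi⟩ := (hzp.symm ▸ Subgroup.mem_zpowers r : r ∈ Subgroup.zpowers (g * r * g⁻¹))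
    have hc2 : g * t * g⁻¹ ∈ Subgroup.centralizer ({r} : Set G) := mem_cz.2 (by
      have hci := (hc1.zpow_right i).eq
      simp only at hi
      rwa [hi] at hci)
    have htt : (⟨t, htH⟩ : ↥(Subgroup.centralizer ({r} : Set G))) * ⟨t, htH⟩ = 1 := Subtype.ext h.m.t_sq
    have hkey : ∀ v : ↥(Subgroup.centralizer ({r} : Set G)), v * v = 1 → v ≠ 1 → orderOf (π v) = 2 := by
      intro v hv hv1
      refine orderOf_eq_two (by rw [← map_mul, hv, map_one]) fun e => hv1 ?_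
      have h2 : orderOf (v : G) ∣ 2 := orderOf_dvd_of_pow_eq_one (by
        rw [pow_two, ← Subgroup.coe_mul, hv, Subgroup.coe_one])
      have h3 : orderOf (v : G) ∣ 5 := by
        rw [← hr, ← Nat.card_zpowers r]; exact Subgroup.orderOf_dvd_natCard _ ((hπ v).1 e)
      exact Subtype.ext (orderOf_eq_one_iff.1 (Nat.eq_one_of_dvd_coprimes (by norm_num) h2 h3))
    have hvv : (⟨_, hc2⟩ : ↥(Subgroup.centralizer ({r} : Set G))) * ⟨_, hc2⟩ = 1 :=
      Subtype.ext (by show g * t * g⁻¹ * (g * t * g⁻¹) = 1; rw [conj_mul, h.m.t_sq, mul_one, mul_inv_cancel])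
    obtain ⟨ρ, hρ⟩ := alt5_conj (MulEquiv.refl A5)
      (hkey _ hvv fun e => ne_one h.m.ht (conj_eq_one_iff.1 (congrArg Subtype.val e)))
      (hkey _ htt fun e => ne_one h.m.ht (congrArg Subtype.val e))
    obtain ⟨d, rfl⟩ := hπs ρ
    set v' := d * ⟨_, hc2⟩ * d⁻¹ with hv'
    have hd : (v' : G) = t := by
      have h1 : π (⟨t, htH⟩ * v') = 1 := by
        rw [hv', map_mul, map_mul, map_mul, map_inv, hρ, ← map_mul, htt, map_one]
      obtain ⟨j, hj⟩ := (hπ _).1 h1
      have hv't : (v' : G) = t * r ^ j := by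
        rw [show r ^ j = _ from hj]
        show (v' : G) = t * (t * v')
        rw [← mul_assoc, h.m.t_sq, one_mul]
      have hsq : (v' : G) * v' = 1 := by
        rw [← Subgroup.coe_mul, hv', conj_mul, hvv, mul_one, mul_inv_cancel]; rfl
      rw [hv't, (htr.zpow_right j).symm.mul_mul_mul_comm, h.m.t_sq, one_mul] at hsq
      have h2 : orderOf (r ^ j) ∣ 2 := orderOf_dvd_of_pow_eq_one (by rw [pow_two, hsq])
      have h3 : orderOf (r ^ j) ∣ 5 := by
        rw [← hr, ← Nat.card_zpowers r]; exact Subgroup.orderOf_dvd_natCard _ ⟨j, rfl⟩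
      rw [hv't, orderOf_eq_one_iff.1 (Nat.eq_one_of_dvd_coprimes (by norm_num) h2 h3), mul_one]
    have hd' : (d : G) * (g * t * g⁻¹) * (d : G)⁻¹ = t := hd
    have hmD : (d : G) * g ∈ Subgroup.centralizer ({t} : Set G) := mem_cz.2 (mul_inv_eq_iff_eq_mul.1 (by
      rw [show (d : G) * g * t * ((d : G) * g)⁻¹ = (d : G) * (g * t * g⁻¹) * (d : G)⁻¹ by group, hd']))
    obtain ⟨p, hp, b, hb, hpb⟩ := h.dec_odd hmD
    have hbr : b * r * b⁻¹ = g * r * g⁻¹ := by
      have hpc : p * (b * r * b⁻¹) * p⁻¹ = b * r * b⁻¹ := by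
        rw [h.split.comm p hp _ (mul_mem (mul_mem hb hrB) (inv_mem hb)), mul_inv_cancel_right]
      have hdc : (d : G) * (g * r * g⁻¹) * (d : G)⁻¹ = g * r * g⁻¹ := by
        obtain ⟨j, hj⟩ := hg
        have := (show Commute (d : G) r from mem_cz.1 d.2).zpow_right j
        simp only at hj
        rw [← hj, this.eq, mul_inv_cancel_right]
      rw [← hdc, show (d : G) * (g * r * g⁻¹) * (d : G)⁻¹ = (d : G) * g * r * ((d : G) * g)⁻¹ by group, hpb,
        ← hpc]
      group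
    rw [← hbr] at hg ⊢
    have := alt5_five_norm eB (x := ⟨r, hrB⟩) (g := ⟨b, hb⟩) (by rw [← Subgroup.orderOf_coe]; exact hr) (by
      obtain ⟨j, hj⟩ := hg
      exact ⟨j, Subtype.ext (by simpa using hj)⟩)
    exact this.imp (congrArg Subtype.val) (congrArg Subtype.val)
  -- the normaliser of the Sylow subgroup
  let N := Subgroup.normalizer ((S : Subgroup G) : Set G)
  have hN50 : Nat.card ↥(Subgroup.centralizer ({r} : Set G) ⊓ N) = 50 := by
    have hnσ : Nat.card (Subgroup.normalizer ((Subgroup.zpowers σ : Subgroup A5) : Set A5)) = 10 := by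
      rw [← alt5_five_normalizer (MulEquiv.refl A5) hσ, ← SetLike.coe_sort_coe, Nat.card_coe_set_eq]
      congr 1
      ext x
      refine ⟨fun hx => (Subgroup.mem_normalizer_iff.1 hx σ).1 (Subgroup.mem_zpowers σ), fun hx => ?_⟩
      refine CfsgLib.ThompsonWielandt.mem_normalizer_of_forall fun w hw => ?_
      obtain ⟨i, rfl⟩ := hw
      show x * σ ^ i * x⁻¹ ∈ _
      rw [← _root_.conj_zpow]
      exact zpow_mem hx i
    have hidx := Subgroup.index_comap_of_surjective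
      (Subgroup.normalizer ((Subgroup.zpowers σ : Subgroup A5) : Set A5)) hπs
    have h1 := ((Subgroup.normalizer ((Subgroup.zpowers σ : Subgroup A5) : Set A5)).comap π).card_mul_index
    have h2 := (Subgroup.normalizer ((Subgroup.zpowers σ : Subgroup A5) : Set A5)).card_mul_index
    rw [hidx, hH] at h1
    rw [hnσ, card_alt5 (MulEquiv.refl A5)] at h2
    rw [show (Subgroup.normalizer ((Subgroup.zpowers σ : Subgroup A5) : Set A5)).index = 6 by omega] at h1
    have he : (Subgroup.normalizer ((Subgroup.zpowers σ : Subgroup A5) : Set A5)).comap π =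
        N.subgroupOf (Subgroup.centralizer ({r} : Set G)) := by
      ext c
      constructor
      · intro hc
        refine CfsgLib.ThompsonWielandt.mem_normalizer_of_forall fun b hb => ?_
        have := (Subgroup.mem_normalizer_iff.1 hc _).1 ((hmem ⟨b, hSH hb⟩).2 hb)
        rw [← map_inv, ← map_mul, ← map_mul] at this
        exact (hmem _).1 this
      · intro hc
        refine CfsgLib.ThompsonWielandt.mem_normalizer_of_forall fun w hw => ?_
        obtain ⟨b, rfl⟩ := hπs w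
        rw [← map_inv, ← map_mul, ← map_mul]
        exact (hmem _).2 ((Subgroup.mem_normalizer_iff.1 hc _).1 ((hmem b).1 hw))
    rw [he] at h1
    have e : Nat.card (N.subgroupOf (Subgroup.centralizer ({r} : Set G))) =
        Nat.card ↥(Subgroup.centralizer ({r} : Set G) ⊓ N) := by
      rw [inf_comm, ← Subgroup.inf_subgroupOf_right N (Subgroup.centralizer ({r} : Set G))]
      exact Nat.card_congr (Subgroup.subgroupOfEquivOfLe inf_le_right).toEquiv
    omega
  obtain ⟨n₀, hn₀N, hn₀⟩ : ∃ n ∈ N, n * r * n⁻¹ = r⁻¹ := by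
    obtain ⟨-, i, hiB, hi, hir⟩ := alt5_odd_mem eB hrB (Or.inr hr)
    obtain ⟨c, hc, hcN⟩ := CfsgLib.Fusion.Transfer.exists_mem_mul_mem_normalizer S
      (Subgroup.centralizer ({r} : Set G)) i hSH (fun u hu => mem_cz.2 (by
        have hc : Commute (i * u * i⁻¹) (i * r * i⁻¹) := by
          show _ * _ = _ * _
          rw [conj_mul, conj_mul, hab u hu r hrS]
        rw [hir] at hc
        exact inv_inv r ▸ hc.inv_right.eq))
    refine ⟨c * i, hcN, ?_⟩
    rw [show c * i * r * (c * i)⁻¹ = c * (i * r * i⁻¹) * c⁻¹ by group, hir, ← inv_inj, inv_inv,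
      show (c * r⁻¹ * c⁻¹)⁻¹ = c * r * c⁻¹ by group, mem_cz.1 hc, mul_inv_cancel_right]
  -- the orbit of `r`
  haveI := Fintype.ofFinite ↥N
  let f : ↥N → G := fun n => (n : G) * r * (n : G)⁻¹
  let O := Finset.univ.image f
  have hfib : ∀ y ∈ O, (Finset.univ.filter fun n : ↥N => f n = y).card = 50 := by
    intro y hy
    obtain ⟨n₁, -, rfl⟩ := Finset.mem_image.1 hy
    rw [← hN50, ← Nat.card_eq_finsetCard]
    refine Nat.card_congr
      { toFun := fun n => ⟨(n₁ : G)⁻¹ * (n.1 : G), Subgroup.mem_inf.2 ⟨mem_cz.2 ?_, mul_mem (inv_mem n₁.2) n.1.2⟩⟩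
        invFun := fun c => ⟨⟨(n₁ : G) * c.1, mul_mem n₁.2 (Subgroup.mem_inf.1 c.2).2⟩,
          Finset.mem_filter.2 ⟨Finset.mem_univ _, ?_⟩⟩
        left_inv := fun n => Subtype.ext (Subtype.ext (mul_inv_cancel_left _ _))
        right_inv := fun c => Subtype.ext (inv_mul_cancel_left _ _) }
    · have e : (n.1 : G) * r * (n.1 : G)⁻¹ = (n₁ : G) * r * (n₁ : G)⁻¹ := (Finset.mem_filter.1 n.2).2
      calc (n₁ : G)⁻¹ * n.1 * r = (n₁ : G)⁻¹ * ((n.1 : G) * r * (n.1 : G)⁻¹) * n.1 := by group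
        _ = _ := by rw [e]; group
    · show (n₁ : G) * c.1 * r * ((n₁ : G) * c.1)⁻¹ = (n₁ : G) * r * (n₁ : G)⁻¹
      rw [show (n₁ : G) * c.1 * r * ((n₁ : G) * c.1)⁻¹ = (n₁ : G) * ((c.1 : G) * r * (c.1 : G)⁻¹) * (n₁ : G)⁻¹ by group,
        mem_cz.1 (Subgroup.mem_inf.1 c.2).1, mul_inv_cancel_right]
  have hNk : Nat.card N = 50 * O.card := by
    rw [Nat.card_eq_fintype_card, ← Finset.card_univ,
      Finset.card_eq_sum_card_fiberwise (t := O) (f := f) (fun n _ => Finset.mem_image_of_mem f (Finset.mem_univ n)),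
      Finset.sum_congr rfl hfib, Finset.sum_const, smul_eq_mul, mul_comm]
  let O2 := O.image fun y => y ^ 2
  have hsq : ∀ y ∈ (S : Subgroup G), y ^ 5 = 1 → (y ^ 2) ^ 3 = y := fun y _ hy => by
    rw [← pow_mul, show 2 * 3 = 5 + 1 from rfl, pow_succ, hy, one_mul]
  have hOS : ∀ y ∈ O, y ∈ (S : Subgroup G) ∧ RType t y := by
    intro y hy
    obtain ⟨n, -, rfl⟩ := Finset.mem_image.1 hy
    exact ⟨(Subgroup.mem_normalizer_iff.1 n.2 r).1 hrS, (h.RType_of_B hrB hr).conj _⟩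
  have hO2card : O2.card = O.card := Finset.card_image_of_injOn fun y hy w hw e => by
    have e' : y ^ 2 = w ^ 2 := e
    rw [← hsq y (hOS y hy).1 ((hOS y hy).2.1 ▸ pow_orderOf_eq_one y), e',
      hsq w (hOS w hw).1 ((hOS w hw).2.1 ▸ pow_orderOf_eq_one w)]
  have hdisj : Disjoint O O2 := by
    rw [Finset.disjoint_left]
    intro y hy hy2
    obtain ⟨w, hw, rfl⟩ := Finset.mem_image.1 hy2
    obtain ⟨n, -, hn⟩ := Finset.mem_image.1 hy
    obtain ⟨m, -, rfl⟩ := Finset.mem_image.1 hw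
    have e : (m : G)⁻¹ * n * r * ((m : G)⁻¹ * n)⁻¹ = r ^ 2 := by
      have hn' : (n : G) * r * (n : G)⁻¹ = ((m : G) * r * (m : G)⁻¹) ^ 2 := hn
      rw [_root_.conj_pow] at hn'
      rw [show (m : G)⁻¹ * n * r * ((m : G)⁻¹ * n)⁻¹ = (m : G)⁻¹ * ((n : G) * r * (n : G)⁻¹) * m by group, hn']
      group
    rcases hnorm _ ⟨2, by rw [e]; exact zpow_natCast r 2⟩ with h1 | h1 <;> rw [e] at h1
    · have h2 : r ^ 1 = 1 := by
        rw [pow_one]
        exact mul_eq_right.1 ((pow_two r).symm.trans h1)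
      have := orderOf_dvd_of_pow_eq_one h2
      rw [hr] at this
      norm_num at this
    · have h2 : r ^ 3 = 1 := by rw [pow_succ, h1, inv_mul_cancel]
      have := orderOf_dvd_of_pow_eq_one h2
      rw [hr] at this
      norm_num at this
  have hRO2 : ∀ y ∈ O ∪ O2, y ∈ (S : Subgroup G) ∧ RType t y := by
    intro y hy
    rcases Finset.mem_union.1 hy with hy | hy
    · exact hOS y hy
    · obtain ⟨w, hw, rfl⟩ := Finset.mem_image.1 hy
      obtain ⟨hwS, hwR⟩ := hOS w hw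
      refine ⟨pow_mem hwS 2, hwR.of_mem_zpowers ⟨2, zpow_natCast w 2⟩ ?_⟩
      rw [orderOf_pow' _ (by norm_num), hwR.1]
      norm_num
  haveI := Fintype.ofFinite ↥(S : Subgroup G)
  let All : Finset G := (Finset.univ.image fun y : ↥(S : Subgroup G) => (y : G)).erase 1
  have hAll : All.card = 24 := by
    simp only [All]
    rw [Finset.card_erase_of_mem (Finset.mem_image.2 ⟨(1 : ↥(S : Subgroup G)), Finset.mem_univ _, Subgroup.coe_one _⟩),
      Finset.card_image_of_injective _ Subtype.val_injective, Finset.card_univ, ← Nat.card_eq_fintype_card, hS25]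
  have hmAll : ∀ {y : G}, y ∈ (S : Subgroup G) → y ≠ 1 → y ∈ All := fun {y} hy hy1 =>
    Finset.mem_erase.2 ⟨hy1, Finset.mem_image.2 ⟨⟨y, hy⟩, Finset.mem_univ _, rfl⟩⟩
  have hOA : O ∪ O2 ⊆ All := fun y hy =>
    hmAll (hRO2 y hy).1 (ne_one_of_orderOf (hRO2 y hy).2.1 (by norm_num))
  have hOO : (O ∪ O2).card = 2 * O.card := by rw [Finset.card_union_of_disjoint hdisj, hO2card, two_mul]
  -- an element of the other kind
  obtain ⟨gK, hgK, hgKo⟩ := h.m.hj.setting.pre.has_five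
  obtain ⟨T, hT⟩ := (IsPGroup.of_card (G := Subgroup.zpowers gK) (p := 5) (n := 1)
    (by rw [Nat.card_zpowers, hgKo, pow_one])).exists_le_sylow
  obtain ⟨c₁, hc₁⟩ := MulAction.exists_smul_eq G T S
  have hnR : ∀ {y : G} (c : G), c * y * c⁻¹ ∈ Subgroup.zpowers gK → y ≠ 1 → ¬ RType t y := by
    intro y c hy hy1 hR
    exact h.not_RType (Subgroup.zpowers_le.2 (h.m.hj.K_le hgK) hy) (hR.conj c)
  let g₁ := c₁ * gK * c₁⁻¹
  have hg₁S : g₁ ∈ (S : Subgroup G) := hc₁ ▸ ⟨gK, hT (Subgroup.mem_zpowers gK), rfl⟩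
  have hg₁o : orderOf g₁ = 5 := by simp only [g₁, CfsgLib.Involution.Dihedral.orderOf_conj, hgKo]
  have hg₁pow : ∀ i : ℤ, c₁⁻¹ * g₁ ^ i * c₁⁻¹⁻¹ ∈ Subgroup.zpowers gK := fun i => ⟨i, by
    simp only [g₁]; rw [_root_.conj_zpow]; group⟩
  have hPow : ((Finset.Icc 1 4).image fun j => g₁ ^ j).card = 4 := by
    rw [Finset.card_image_of_injOn, Nat.card_Icc]
    intro i hi j hj e
    simp only [Finset.coe_Icc, Set.mem_Icc] at hi hj
    exact pow_injOn_Iio_orderOf (by simp only [Set.mem_Iio]; omega) (by simp only [Set.mem_Iio]; omega) e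
  have hPowA : ((Finset.Icc 1 4).image fun j => g₁ ^ j) ⊆ All \ (O ∪ O2) := by
    intro y hy
    obtain ⟨j, hj, rfl⟩ := Finset.mem_image.1 hy
    rw [Finset.mem_Icc] at hj
    have hne : g₁ ^ j ≠ 1 := pow_ne_one_of_lt_orderOf (by omega) (by omega)
    refine Finset.mem_sdiff.2 ⟨hmAll (pow_mem hg₁S j) hne, fun hy => ?_⟩
    exact hnR c₁⁻¹ (by rw [← zpow_natCast]; exact hg₁pow j) hne (hRO2 _ hy).2
  have hle : 2 * O.card + 4 ≤ 24 := by
    have := Finset.card_le_card hPowA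
    rw [hPow, Finset.card_sdiff_of_subset hOA, hAll, hOO] at this
    have h24 := Finset.card_le_card hOA
    omega
  have hge : 2 ≤ O.card := by
    have h1 : r ∈ O := Finset.mem_image.2 ⟨1, Finset.mem_univ _, by simp [f]⟩
    have h2 : r⁻¹ ∈ O := Finset.mem_image.2 ⟨⟨n₀, hn₀N⟩, Finset.mem_univ _, hn₀⟩
    exact Finset.one_lt_card.2 ⟨r, h1, r⁻¹, h2, fun e => by
      have : r ^ 2 = 1 := by rw [pow_two]; nth_rw 2 [e]; exact mul_inv_cancel r
      have := orderOf_dvd_of_pow_eq_one this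
      rw [hr] at this
      norm_num at this⟩
  have hn5 : Nat.card (Sylow 5 G) % 5 = 1 := by
    have := card_sylow_modEq_one 5 G
    rwa [Nat.ModEq, Nat.one_mod] at this
  have hprod : 50 * O.card * Nat.card (Sylow 5 G) = 604800 := by
    have e := Sylow.card_eq_index_normalizer S
    change Nat.card (Sylow 5 G) = N.index at e
    rw [← hNk, e, Subgroup.card_mul_index, h.card]
  have hO6 : O.card = 6 := by
    have hk : O.card ≤ 10 := by omega
    interval_cases hc : O.card <;> omega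
  rw [hO6] at hNk
  refine ⟨hH, hnorm, hcent, by rw [show N = Subgroup.normalizer ((S : Subgroup G) : Set G) from rfl] at hNk; omega, ?_⟩
  intro g₀ hg₀K hg₀o y hyS hy1
  haveI : Fact (Nat.Prime 3) := ⟨by norm_num⟩
  obtain ⟨x, hx⟩ := exists_prime_orderOf_dvd_card' (G := ↥N) 3 (by rw [hNk]; norm_num)
  have hxo : orderOf (x : G) = 3 := by rw [Subgroup.orderOf_coe, hx]
  have hxinv : ∀ b ∈ (S : Subgroup G), (x : G) * b * (x : G)⁻¹ ∈ (S : Subgroup G) := fun b hb =>
    (Subgroup.mem_normalizer_iff.1 x.2 b).1 hb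
  have hfree : ∀ (w : G), w ∈ (S : Subgroup G) → orderOf w = 5 → ∀ d : ℕ, 0 < d → d < 3 →
      (x : G) ^ d * w * ((x : G) ^ d)⁻¹ ∉ Subgroup.zpowers w := by
    intro w hwS hwo d hd0 hd3 hmem'
    set u := (x : G) ^ d with hu
    have huo : orderOf u = 3 := by
      rw [hu, orderOf_pow' _ (by omega), hxo]
      interval_cases d <;> norm_num
    obtain ⟨j, hj⟩ := hmem'
    have hfix : u * w * u⁻¹ = w := by
      have hact : ∀ k : ℤ, u * w ^ k * u⁻¹ = w ^ (j * k) := fun k => by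
        rw [← _root_.conj_zpow, show u * w * u⁻¹ = w ^ j from hj.symm, ← zpow_mul]
      have hu3 : u * (u * (u * w * u⁻¹) * u⁻¹) * u⁻¹ = w := by
        rw [show u * (u * (u * w * u⁻¹) * u⁻¹) * u⁻¹ = (u * u * u) * w * (u * u * u)⁻¹ by group,
          show u * u * u = 1 by rw [← pow_three']; exact huo ▸ pow_orderOf_eq_one u]
        group
      rw [show u * w * u⁻¹ = w ^ j from hj.symm, hact, hact] at hu3
      have h5 : ((5 : ℕ) : ℤ) ∣ j * (j * j) - 1 := by
        rw [← hwo, orderOf_dvd_iff_zpow_eq_one, zpow_sub, hu3, zpow_one, mul_inv_cancel]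
      have h6 : j % 5 = 1 := by
        have h7 : j * (j * j) % 5 = 1 := by omega
        rw [Int.mul_emod, Int.mul_emod j j] at h7
        have := Int.emod_nonneg j (by norm_num : (5 : ℤ) ≠ 0)
        have := Int.emod_lt_of_pos j (by norm_num : (0 : ℤ) < 5)
        interval_cases hjj : j % 5 <;> simp_all
      rw [show u * w * u⁻¹ = w ^ j from hj.symm, ← zpow_mod_orderOf, hwo]
      rw [show j % ((5 : ℕ) : ℤ) = 1 from h6, zpow_one]
    have huinv : ∀ b ∈ (S : Subgroup G), u * b * u⁻¹ ∈ (S : Subgroup G) := fun b hb =>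
      (Subgroup.mem_normalizer_iff.1 (pow_mem x.2 d) b).1 hb
    have hmod := card_fixed_modEq (p := 3) (k := 1) (by rw [huo, pow_one]) huinv
    rw [hS25] at hmod
    let F : Subgroup G := (S : Subgroup G) ⊓ Subgroup.centralizer ({u} : Set G)
    obtain ⟨k, hk, hk'⟩ := (Nat.dvd_prime_pow (by norm_num : Nat.Prime 5)).1 ((hS25 ▸ Subgroup.card_dvd_of_le
      (inf_le_left : F ≤ (S : Subgroup G)) : Nat.card F ∣ 25).trans (dvd_of_eq (by norm_num : (25 : ℕ) = 5 ^ 2)))
    have hF1 : Nat.card F ≠ 1 := fun e => by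
      rw [Subgroup.card_eq_one] at e
      have hwF : w ∈ F := Subgroup.mem_inf.2 ⟨hwS, mem_cz.2 (mul_inv_eq_iff_eq_mul.1 hfix).symm⟩
      rw [e, Subgroup.mem_bot] at hwF
      rw [hwF, orderOf_one] at hwo
      norm_num at hwo
    have hmod' : 25 % 3 = Nat.card F % 3 := hmod
    rw [hk'] at hmod' hF1
    have hk2 : k = 2 := by interval_cases k <;> simp_all
    subst hk2
    have hFS : F = (S : Subgroup G) := Subgroup.eq_of_le_of_card_ge inf_le_left (by rw [hk', hS25]; norm_num)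
    have huS : u ∈ (S : Subgroup G) := hcent ▸ Subgroup.mem_centralizer_iff.2 fun b hb =>
      mem_cz.1 (Subgroup.mem_inf.1 (hFS.symm ▸ hb : b ∈ F)).2
    have := Subgroup.orderOf_dvd_natCard _ huS
    rw [huo, hS25] at this
    norm_num at this
  let F12 : Fin 3 × Fin 4 → G := fun p => (x : G) ^ (p.1 : ℕ) * g₁ ^ ((p.2 : ℕ) + 1) * ((x : G) ^ (p.1 : ℕ))⁻¹
  have hF12mem : ∀ p, F12 p ∈ All \ (O ∪ O2) := by
    intro p
    have hne : g₁ ^ ((p.2 : ℕ) + 1) ≠ 1 := pow_ne_one_of_lt_orderOf (by omega) (by omega)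
    refine Finset.mem_sdiff.2 ⟨hmAll ((Subgroup.mem_normalizer_iff.1 (pow_mem x.2 _) _).1 (pow_mem hg₁S _))
      (fun e => hne (conj_eq_one_iff.1 e)), fun hy => ?_⟩
    have := (hRO2 _ hy).2.conj ((x : G) ^ (p.1 : ℕ))⁻¹
    rw [show ((x : G) ^ (p.1 : ℕ))⁻¹ * F12 p * ((x : G) ^ (p.1 : ℕ))⁻¹⁻¹ = g₁ ^ ((p.2 : ℕ) + 1) by
      simp only [F12]; group] at this
    exact hnR c₁⁻¹ (by rw [← zpow_natCast]; exact hg₁pow _) hne this
  have hF12inj : Function.Injective F12 := by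
    suffices key : ∀ p q : Fin 3 × Fin 4, (p.1 : ℕ) ≤ q.1 → F12 p = F12 q → p = q by
      intro p q e
      rcases le_total (p.1 : ℕ) q.1 with hl | hl
      · exact key p q hl e
      · exact (key q p hl e.symm).symm
    rintro ⟨i, j⟩ ⟨i', j'⟩ hl e
    simp only at hl
    obtain ⟨d, hd⟩ := Nat.exists_eq_add_of_le hl
    simp only [F12] at e
    rw [hd, pow_add (x : G)] at e
    have e2 : g₁ ^ ((j : ℕ) + 1) = (x : G) ^ d * g₁ ^ ((j' : ℕ) + 1) * ((x : G) ^ d)⁻¹ :=
      mul_left_cancel (a := (x : G) ^ (i : ℕ)) (mul_right_cancel (b := ((x : G) ^ (i : ℕ))⁻¹)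
        (e.trans (show (x : G) ^ (i : ℕ) * (x : G) ^ d * g₁ ^ ((j' : ℕ) + 1) * ((x : G) ^ (i : ℕ) * (x : G) ^ d)⁻¹ =
          (x : G) ^ (i : ℕ) * ((x : G) ^ d * g₁ ^ ((j' : ℕ) + 1) * ((x : G) ^ d)⁻¹) * ((x : G) ^ (i : ℕ))⁻¹ by group)))
    have hd0 : d = 0 := by
      by_contra hd0
      have hne : g₁ ^ ((j' : ℕ) + 1) ≠ 1 := pow_ne_one_of_lt_orderOf (by omega) (by omega)
      obtain ⟨ho, hz⟩ := zpowers_eq_of_mem hg₁o (pow_mem (Subgroup.mem_zpowers g₁) _) hne
      refine hfree _ (pow_mem hg₁S _) ho d (Nat.pos_of_ne_zero hd0) (by omega) ?_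
      rw [← e2, hz]
      exact pow_mem (Subgroup.mem_zpowers g₁) _
    subst hd0
    have hi : i = i' := Fin.ext (by omega)
    subst hi
    rw [pow_zero, one_mul, inv_one, mul_one] at e2
    have := pow_injOn_Iio_orderOf (by simp only [Set.mem_Iio]; omega) (by simp only [Set.mem_Iio]; omega) e2
    exact Prod.ext rfl (Fin.ext (show (j : ℕ) = (j' : ℕ) by omega))
  have hunion : All \ (O ∪ O2) = Finset.univ.image F12 := by
    refine (Finset.eq_of_subset_of_card_le (fun y hy => ?_) ?_).symm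
    · obtain ⟨p, -, rfl⟩ := Finset.mem_image.1 hy
      exact hF12mem p
    · rw [Finset.card_sdiff_of_subset hOA, hAll, hOO, hO6, Finset.card_image_of_injective _ hF12inj]
      simp
  by_cases hyO : y ∈ O ∪ O2
  · rcases Finset.mem_union.1 hyO with hy | hy
    · obtain ⟨n, -, rfl⟩ := Finset.mem_image.1 hy
      exact ⟨(n : G)⁻¹, Or.inl ⟨1, by simp only [f, zpow_one]; group⟩⟩
    · obtain ⟨w, hw, rfl⟩ := Finset.mem_image.1 hy
      obtain ⟨n, -, rfl⟩ := Finset.mem_image.1 hw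
      exact ⟨(n : G)⁻¹, Or.inl ⟨2, by simp only [f, _root_.conj_pow]; rw [show r ^ (2 : ℤ) = r ^ 2 from zpow_natCast r 2]; group⟩⟩
  · obtain ⟨p, -, rfl⟩ := Finset.mem_image.1 (hunion ▸ Finset.mem_sdiff.2 ⟨hmAll hyS hy1, hyO⟩)
    obtain ⟨eK⟩ := h.m.hj.setting.alt
    obtain ⟨⟨c, hcK⟩, j, hj⟩ := alt5_five_conj eK (x := ⟨gK, hgK⟩) (y := ⟨g₀, hg₀K⟩)
      (by rw [← Subgroup.orderOf_coe]; exact hgKo) (by rw [← Subgroup.orderOf_coe]; exact hg₀o)
    have hj' : c * gK * c⁻¹ = g₀ ^ j := congrArg Subtype.val hj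
    refine ⟨c * c₁⁻¹ * ((x : G) ^ (p.1 : ℕ))⁻¹, Or.inr ?_⟩
    obtain ⟨i, hi⟩ := hg₁pow (((p.2 : ℕ) + 1 : ℕ) : ℤ)
    have hi' : gK ^ i = c₁⁻¹ * g₁ ^ ((p.2 : ℕ) + 1) * c₁⁻¹⁻¹ := by rw [← zpow_natCast g₁]; exact hi
    have : c * c₁⁻¹ * ((x : G) ^ (p.1 : ℕ))⁻¹ * F12 p * (c * c₁⁻¹ * ((x : G) ^ (p.1 : ℕ))⁻¹)⁻¹ =
        (c * gK * c⁻¹) ^ i := by
      rw [_root_.conj_zpow, hi']
      simp only [F12]
      group
    rw [this, hj']
    exact zpow_mem (pow_mem (Subgroup.mem_zpowers g₀) _) _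

/-- The Sylow five-structure. -/
theorem five (h : JData z t Q K P B) [Fact (Nat.Prime 5)] (S : Sylow 5 G) :
    Subgroup.centralizer ((S : Subgroup G) : Set G) = S ∧ Nat.card (S : Subgroup G) = 25 ∧
      Nat.card (Subgroup.normalizer ((S : Subgroup G) : Set G)) = 300 ∧
      ∀ r ∈ B, orderOf r = 5 → ∀ g₀ ∈ K, orderOf g₀ = 5 → ∀ w : G, orderOf w = 5 →
        ∃ g : G, g * w * g⁻¹ ∈ Subgroup.zpowers r ∨ g * w * g⁻¹ ∈ Subgroup.zpowers g₀ := by
  obtain ⟨r, hrB, hr⟩ := h.exists_five_B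
  have hp : ∀ y : G, orderOf y = 5 → ∃ S₀ : Sylow 5 G, y ∈ (S₀ : Subgroup G) := fun y hy => by
    obtain ⟨S₀, hS₀⟩ := (IsPGroup.of_card (G := Subgroup.zpowers y) (p := 5) (n := 1)
      (by rw [Nat.card_zpowers, hy, pow_one])).exists_le_sylow
    exact ⟨S₀, hS₀ (Subgroup.mem_zpowers y)⟩
  obtain ⟨S₀, hrS₀⟩ := hp r hr
  obtain ⟨-, -, hc₀, hn₀, -⟩ := h.five_main hrB hr S₀ hrS₀
  refine ⟨?_, h.card_sylow_five S, ?_, ?_⟩
  · refine le_antisymm (fun c hc => ?_)
      (fun c hc => Subgroup.mem_centralizer_iff.2 fun b hb => h.sylow_five_comm S b hb c hc)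
    obtain ⟨g, hg⟩ := MulAction.exists_smul_eq G S₀ S
    have : g⁻¹ * c * g ∈ (S₀ : Subgroup G) := by
      rw [← hc₀]
      refine Subgroup.mem_centralizer_iff.2 fun b hb => ?_
      have := Subgroup.mem_centralizer_iff.1 hc (g * b * g⁻¹) (hg ▸ ⟨b, hb, rfl⟩)
      calc b * (g⁻¹ * c * g) = g⁻¹ * (g * b * g⁻¹ * c) * g := by group
        _ = g⁻¹ * c * g * b := by rw [this]; group
    rw [← hg]
    exact ⟨_, this, show g * (g⁻¹ * c * g) * g⁻¹ = c by group⟩
  · have h1 : Nat.card (Sylow 5 G) = (Subgroup.normalizer ((S : Subgroup G) : Set G)).index :=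
      Sylow.card_eq_index_normalizer S
    have h2 : Nat.card (Sylow 5 G) = (Subgroup.normalizer ((S₀ : Subgroup G) : Set G)).index :=
      Sylow.card_eq_index_normalizer S₀
    have h3 := (Subgroup.normalizer ((S : Subgroup G) : Set G)).card_mul_index
    have h4 := (Subgroup.normalizer ((S₀ : Subgroup G) : Set G)).card_mul_index
    rw [← h1] at h3
    rw [← h2, hn₀, ← h3] at h4
    exact Nat.eq_of_mul_eq_mul_right Nat.card_pos h4.symm
  · intro r' hr'B hr' g₀ hg₀ hg₀o w hw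
    obtain ⟨S₁, hS₁⟩ := hp r' hr'
    obtain ⟨S₂, hS₂⟩ := hp w hw
    obtain ⟨g, hg⟩ := MulAction.exists_smul_eq G S₂ S₁
    obtain ⟨-, -, -, -, hall⟩ := h.five_main hr'B hr' S₁ hS₁
    obtain ⟨c, hc⟩ := hall g₀ hg₀ hg₀o (g * w * g⁻¹) (hg ▸ ⟨w, hS₂, rfl⟩) fun e => by
      rw [conj_eq_one_iff] at e; rw [e, orderOf_one] at hw; norm_num at hw
    refine ⟨c * g, ?_⟩
    rw [show c * g * w * (c * g)⁻¹ = c * (g * w * g⁻¹) * c⁻¹ by group]
    exact hc

end JData

end CfsgLib.Characterizations.HallJanko
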