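import Cfsg.Agent.Lib.Recognition.AbelianCentraliser.Main
import Cfsg.Agent.Lib.Classical.SL2Sylow
import Cfsg.Agent.S0252

/-!
# Groups with a self-centralising four-group
-/

set_option autoImplicit false
set_option linter.style.haveILetI false

namespace CfsgLib.Characterizations.HallJanko

open CfsgLib.Involution.Dihedral

/-- An extension of `PSL₂(4) ≅ A₅`. -/
theorem nonempty_sl_four {F : Type} [Field F] [Fintype F] (hF : Fintype.card F = 4) :
    Nonempty (Matrix.SpecialLinearGroup (Fin 2) F ≃* alternatingGroup (Fin 5)) := by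
  obtain ⟨e⟩ := Cfsg.Agent.S0252.result (F := F) hF
  have h1 : Nat.card (Matrix.SpecialLinearGroup (Fin 2) F) = 60 := by
    rw [CfsgLib.Classical.card_sl2 hF]
    norm_num
  have h2 : Nat.card (Matrix.ProjectiveSpecialLinearGroup (Fin 2) F) = 60 :=
    Cfsg.Agent.S0252.card60 hF
  let π : Matrix.SpecialLinearGroup (Fin 2) F →* Matrix.ProjectiveSpecialLinearGroup (Fin 2) F :=
    QuotientGroup.mk' (Subgroup.center _)
  have hπ : Function.Bijective π :=
    (Nat.bijective_iff_surjective_and_card _).2 ⟨QuotientGroup.mk'_surjective _, h1.trans h2.symm⟩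
  exact ⟨(MulEquiv.ofBijective π hπ).trans e⟩

variable {H : Type*} [Group H] [Finite H] {V : Subgroup H}

/-- A four-group centralising only itself at each involution has normaliser of index `1` in `4`, `12` or `A₅`. -/
theorem four_cases (hV : Nat.card V = 4) (hsq : ∀ v ∈ V, v * v = 1)
    (hcent : ∀ v ∈ V, v ≠ 1 → ∀ c : H, c * v = v * c → c ∈ V) :
    (V.Normal ∧ (Nat.card H = 4 ∨ Nat.card H = 12)) ∨
      (Nat.card H = 60 ∧ Nonempty (H ≃* alternatingGroup (Fin 5))) := by
  classical
  haveI : Fact (Nat.Prime 2) := ⟨Nat.prime_two⟩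
  have hab : ∀ a ∈ V, ∀ b ∈ V, a * b = b * a := fun a ha b hb => by
    have h := hsq (a * b) (mul_mem ha hb)
    rw [← inv_eq_of_mul_eq_one_right h, mul_inv_rev, inv_eq_of_mul_eq_one_right (hsq b hb),
      inv_eq_of_mul_eq_one_right (hsq a ha)]
  haveI : Nontrivial V := (Finite.one_lt_card_iff_nontrivial).1 (by omega)
  obtain ⟨v₀, hv₀⟩ := exists_ne (1 : V)
  have hv₀1 : (v₀ : H) ≠ 1 := fun e => hv₀ (Subtype.ext e)
  -- `V` is a Sylow subgroup
  have hVp : IsPGroup 2 V := IsPGroup.of_card (n := 2) (by rw [hV]; norm_num)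
  obtain ⟨S, hS⟩ := hVp.exists_le_sylow
  have hSV : (S : Subgroup H) = V := by
    refine le_antisymm ?_ hS
    haveI : Nontrivial (S : Subgroup H) := ⟨⟨⟨v₀, hS v₀.2⟩, 1, fun e => hv₀1 (congrArg Subtype.val e)⟩⟩
    haveI := S.2.center_nontrivial
    obtain ⟨w, hw⟩ := exists_ne (1 : Subgroup.center (S : Subgroup H))
    have hwc : ∀ s ∈ (S : Subgroup H), s * ((w : (S : Subgroup H)) : H) = ((w : (S : Subgroup H)) : H) * s :=
      fun s hs => congrArg Subtype.val (Subgroup.mem_center_iff.1 w.2 ⟨s, hs⟩)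
    have hwV : ((w : (S : Subgroup H)) : H) ∈ V := hcent v₀ v₀.2 hv₀1 _ (hwc v₀ (hS v₀.2)).symm
    exact fun s hs => hcent _ hwV (fun e => hw (Subtype.ext (Subtype.ext e))) s (hwc s hs)
  have hAC : CfsgLib.Recognition.AbelianCentraliser.AC H := by
    intro t ht
    have htp : IsPGroup 2 (Subgroup.zpowers t) := IsPGroup.of_card (n := 1) (by rw [Nat.card_zpowers, ht, pow_one])
    obtain ⟨T, hT⟩ := htp.exists_le_sylow
    obtain ⟨g, hg⟩ := MulAction.exists_smul_eq H T S
    have htV : g * t * g⁻¹ ∈ V := by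
      rw [← hSV, ← hg]
      exact ⟨t, hT (Subgroup.mem_zpowers t), rfl⟩
    have htne : g * t * g⁻¹ ≠ 1 := fun e => ne_one ht (conj_eq_one_iff.1 e)
    refine ⟨⟨fun a b => Subtype.ext ?_⟩⟩
    have hmem : ∀ c : Subgroup.centralizer ({t} : Set H), g * (c : H) * g⁻¹ ∈ V := fun c => by
      refine hcent _ htV htne _ ?_
      rw [conj_mul, conj_mul, Subgroup.mem_centralizer_singleton_iff.1 c.2]
    have := hab _ (hmem a) _ (hmem b)
    rw [conj_mul, conj_mul] at this
    exact mul_left_cancel (mul_right_cancel this)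
  by_cases hn : V.Normal
  · refine Or.inl ⟨hn, ?_⟩
    haveI := hn
    let f : H →* Equiv.Perm {v : V // v ≠ 1} :=
      { toFun := fun h =>
          { toFun := fun v => ⟨⟨h * v.1 * h⁻¹, hn.conj_mem _ v.1.2 h⟩, fun e => v.2 (Subtype.ext
              (conj_eq_one_iff.1 (congrArg Subtype.val e)))⟩
            invFun := fun v => ⟨⟨h⁻¹ * v.1 * h, by simpa using hn.conj_mem _ v.1.2 h⁻¹⟩, fun e => v.2 (Subtype.ext
              (by
                have e' : h⁻¹ * (v.1 : H) * h = 1 := congrArg Subtype.val e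
                calc (v.1 : H) = h * (h⁻¹ * (v.1 : H) * h) * h⁻¹ := by group
                  _ = 1 := by rw [e']; group))⟩
            left_inv := fun v => Subtype.ext (Subtype.ext (by simp [mul_assoc]))
            right_inv := fun v => Subtype.ext (Subtype.ext (by simp [mul_assoc])) }
        map_one' := Equiv.ext fun v => Subtype.ext (Subtype.ext (by simp))
        map_mul' := fun a b => Equiv.ext fun v => Subtype.ext (Subtype.ext (by simp [mul_assoc])) }
    have hker : f.ker = V := by
      ext h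
      constructor
      · intro hh
        refine hcent v₀ v₀.2 hv₀1 h ?_
        have e := congrArg (fun σ : Equiv.Perm {v : V // v ≠ 1} => ((σ ⟨v₀, hv₀⟩).1 : H)) (MonoidHom.mem_ker.1 hh)
        exact mul_inv_eq_iff_eq_mul.1 e
      · intro hh
        refine MonoidHom.mem_ker.2 (Equiv.ext fun v => Subtype.ext (Subtype.ext ?_))
        show h * (v.1 : H) * h⁻¹ = v.1
        rw [hab h hh _ v.1.2, mul_inv_cancel_right]
    have hdvd : V.index ∣ 6 := by
      rw [← hker, Subgroup.index_ker]
      refine (Subgroup.card_subgroup_dvd_card f.range).trans ?_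
      rw [Nat.card_perm]
      haveI := Fintype.ofFinite V
      rw [Nat.card_eq_fintype_card, Fintype.card_subtype_compl, Fintype.card_subtype_eq, ← Nat.card_eq_fintype_card,
        hV]
      decide
    have hodd : ¬ 2 ∣ V.index := hSV ▸ S.not_dvd_index
    have := V.card_mul_index
    rw [hV] at this
    have hle := Nat.le_of_dvd (by norm_num) hdvd
    interval_cases hi : V.index <;> norm_num at * <;> omega
  · refine Or.inr ?_
    have hnc : ¬ IsCyclic S := fun hc => by
      rw [hSV] at hc
      obtain ⟨g, hg⟩ := hc.exists_generator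
      have h4 : orderOf g = 4 := by rw [orderOf_eq_card_of_forall_mem_zpowers hg, hV]
      have h2 : orderOf g ∣ 2 := orderOf_dvd_of_pow_eq_one (Subtype.ext (by
        rw [Subgroup.coe_pow, pow_two]; exact hsq g g.2))
      rw [h4] at h2
      norm_num at h2
    obtain ⟨F, _, _, A, _, _, hchar, hA, ⟨e⟩⟩ :=
      CfsgLib.Recognition.AbelianCentraliser.structure_of_noncyclic hAC S hnc (by rwa [hSV])
    have hA1 : Nat.card A = 1 := by
      refine Nat.card_eq_one_iff_unique.2 ⟨⟨fun a b => ?_⟩, ⟨1⟩⟩
      suffices h : ∀ a : A, a = 1 by rw [h a, h b]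
      intro a
      set c := e.symm (1, a) with hc
      have hcomm : ∀ h : H, c * h = h * c := fun h => e.injective (by
        rw [map_mul, map_mul, hc, e.apply_symm_apply]
        exact Prod.ext (by simp) (mul_comm _ _))
      have hcV := hcent v₀ v₀.2 hv₀1 c (hcomm _)
      have h2 : a * a = 1 := by
        have := congrArg (fun h => (e h).2) (hsq c hcV)
        rwa [map_mul, hc, e.apply_symm_apply, Prod.snd_mul, map_one] at this
      have hd1 : orderOf a ∣ 2 := orderOf_dvd_of_pow_eq_one (by rw [pow_two, h2])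
      rcases (Nat.dvd_prime Nat.prime_two).1 hd1 with h1 | h1
      · exact orderOf_eq_one_iff.1 h1
      · exact absurd (h1 ▸ orderOf_dvd_natCard a) (fun h => Nat.not_even_iff_odd.2 hA (even_iff_two_dvd.2 h))
    set q := Fintype.card F with hq
    have hcard : Nat.card H = q * (q ^ 2 - 1) := by
      rw [Nat.card_congr e.toEquiv, Nat.card_prod, hA1, mul_one, CfsgLib.Classical.card_sl2 rfl]
    obtain ⟨n, hprime, hn'⟩ := FiniteField.card F 2
    rw [← hq] at hn'
    have hSc := S.card_eq_multiplicity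
    rw [hSV, hV, hcard] at hSc
    have hodd : Odd (q ^ 2 - 1) := by
      refine Nat.Even.sub_odd (Nat.one_le_pow _ _ (by rw [hn']; positivity)) ?_ odd_one
      rw [hn', Nat.even_pow]
      exact ⟨Nat.even_pow.2 ⟨even_two, n.ne_zero⟩, two_ne_zero⟩
    rw [Nat.factorization_mul (by rw [hn']; positivity) (Nat.ne_of_odd_add (by simpa using hodd)),
      Finsupp.add_apply, Nat.factorization_eq_zero_of_not_dvd
        (fun h => Nat.not_even_iff_odd.2 hodd (even_iff_two_dvd.2 h)), add_zero, hn',
      Nat.Prime.factorization_pow Nat.prime_two, Finsupp.single_eq_same] at hSc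
    have h4 : q = 4 := by rw [hn', ← hSc]
    obtain ⟨e'⟩ := nonempty_sl_four h4
    haveI : Subsingleton A := (Nat.card_eq_one_iff_unique.1 hA1).1
    haveI : Unique A := uniqueOfSubsingleton 1
    exact ⟨by rw [hcard, h4]; norm_num, ⟨(e.trans MulEquiv.prodUnique).trans e'⟩⟩

end CfsgLib.Characterizations.HallJanko
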