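import Cfsg.Agent.Lib.Characterizations.HallJanko.Order
import Cfsg.Agent.Lib.PGroup.AltAut
import Cfsg.Agent.Lib.PGroup.RestrictedPCyclic
import Cfsg.Prelude.Def_Solvable
import Mathlib.GroupTheory.NoncommCoprod
import Mathlib.GroupTheory.SpecificGroups.KleinFour

/-!
# The centraliser of an involution of the second class and the normaliser of its four-group
-/

set_option autoImplicit false
set_option linter.style.haveILetI false
set_option linter.unusedSectionVars false

namespace CfsgLib.Characterizations.HallJanko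

open CfsgLib.Involution.Dihedral

variable {G : Type*} [Group G] [Finite G] {z t : G} {Q K P B : Subgroup G}

/-- Two commuting subgroups meeting trivially give a direct product. -/
theorem nonempty_prod_sup {A C : Subgroup G} (hc : ∀ a ∈ A, ∀ c ∈ C, a * c = c * a) (hd : A ⊓ C = ⊥) :
    Nonempty ((↥A × ↥C) ≃* ↥(A ⊔ C)) := by
  have hcomm : ∀ (a : A) (c : C), Commute (A.subtype a) (C.subtype c) := fun a c => hc a a.2 c c.2
  have hinj : Function.Injective (A.subtype.noncommCoprod C.subtype hcomm) := by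
    rw [MonoidHom.noncommCoprod_injective]
    refine ⟨A.subtype_injective, C.subtype_injective, ?_⟩
    rw [A.range_subtype, C.range_subtype, disjoint_iff, hd]
  exact ⟨(MonoidHom.ofInjective hinj).trans (MulEquiv.subgroupCongr (by
    rw [MonoidHom.noncommCoprod_range, A.range_subtype, C.range_subtype]))⟩

namespace JData

theorem card_B (h : JData z t Q K P B) : Nat.card B = 60 := by
  obtain ⟨e⟩ := h.altB
  exact card_alt5 e

theorem nonempty_cent (h : JData z t Q K P B) :
    Nonempty (↥(Subgroup.centralizer ({t} : Set G)) ≃*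
      (Multiplicative (ZMod 2) × Multiplicative (ZMod 2)) × alternatingGroup (Fin 5)) := by
  obtain ⟨eB⟩ := h.altB
  obtain ⟨e⟩ := nonempty_prod_sup h.split.comm h.split.disj
  haveI : IsKleinFour P := by
    refine ⟨h.split.card_P, ?_⟩
    apply Nat.le_antisymm
    · refine Nat.le_of_dvd (by norm_num) (Monoid.exponent_dvd_of_forall_pow_eq_one fun p => Subtype.ext ?_)
      rw [Subgroup.coe_pow, pow_two]
      exact h.split.P_sq p p.2
    · haveI : Nontrivial P := Finite.one_lt_card_iff_nontrivial.1 (by rw [h.split.card_P]; norm_num)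
      exact Monoid.one_lt_exponent
  haveI : IsKleinFour (Multiplicative (ZMod 2) × Multiplicative (ZMod 2)) := by
    refine ⟨by simp, Nat.le_antisymm ?_ Monoid.one_lt_exponent⟩
    exact Nat.le_of_dvd (by norm_num) (Monoid.exponent_dvd_of_forall_pow_eq_one (by decide))
  obtain ⟨eP⟩ := IsKleinFour.nonempty_mulEquiv (G₁ := P) (G₂ := Multiplicative (ZMod 2) × Multiplicative (ZMod 2))
  exact ⟨(MulEquiv.subgroupCongr h.split.sup.symm).trans (e.symm.trans (eP.prodCongr eB))⟩

theorem dec (h : JData z t Q K P B) {x : G} (hx : x ∈ Subgroup.centralizer ({t} : Set G)) :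
    ∃ p ∈ P, ∃ b ∈ B, x = p * b := by
  have hcomm : ∀ (a : P) (c : B), Commute (P.subtype a) (B.subtype c) := fun a c => h.split.comm a a.2 c c.2
  rw [← h.split.sup, show P ⊔ B = (P.subtype.noncommCoprod B.subtype hcomm).range by
    rw [MonoidHom.noncommCoprod_range, P.range_subtype, B.range_subtype]] at hx
  obtain ⟨⟨a, c⟩, rfl⟩ := hx
  exact ⟨a, a.2, c, c.2, rfl⟩

theorem norm_B (h : JData z t Q K P B) {x : G} (hx : x ∈ Subgroup.centralizer ({t} : Set G)) {b : G} (hb : b ∈ B) :
    x * b * x⁻¹ ∈ B := by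
  obtain ⟨p, hp, c, hc, rfl⟩ := h.dec hx
  have hm : c * b * c⁻¹ ∈ B := mul_mem (mul_mem hc hb) (inv_mem hc)
  have e : p * c * b * (p * c)⁻¹ = p * (c * b * c⁻¹) * p⁻¹ := by group
  rw [e, h.split.comm p hp _ hm, mul_inv_cancel_right]
  exact hm

/-- The four-group is the centraliser of `B` inside the centraliser of `t`. -/
theorem cent_B (h : JData z t Q K P B) {x : G} (hx : x ∈ Subgroup.centralizer ({t} : Set G))
    (hxB : ∀ b ∈ B, x * b = b * x) : x ∈ P := by
  obtain ⟨eB⟩ := h.altB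
  obtain ⟨p, hp, b, hb, rfl⟩ := h.dec hx
  have hb1 : b = 1 := by
    have hz : eB ⟨b, hb⟩ ∈ Subgroup.center (alternatingGroup (Fin 5)) := Subgroup.mem_center_iff.2 fun a => by
      obtain ⟨⟨c, hc⟩, rfl⟩ := eB.surjective a
      rw [← map_mul, ← map_mul]
      refine congrArg eB (Subtype.ext ?_)
      have h1 := hxB c hc
      have h2 := h.split.comm p hp c hc
      rw [mul_assoc, ← mul_assoc c, ← h2, mul_assoc] at h1
      exact (mul_left_cancel h1).symm
    rw [alternatingGroup.center_eq_bot (by simp), Subgroup.mem_bot, eB.map_eq_one_iff] at hz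
    exact congrArg Subtype.val hz
  rwa [hb1, mul_one]

/-- The largest normal `2`-subgroup of the centraliser of `t` is the four-group. -/
theorem pCore_cent (h : JData z t Q K P B) :
    (Cfsg.pCore 2 ↥(Subgroup.centralizer ({t} : Set G))).map (Subgroup.subtype _) = P := by
  set C := Subgroup.centralizer ({t} : Set G) with hC
  obtain ⟨eB⟩ := h.altB
  apply le_antisymm
  · rw [Subgroup.map_le_iff_le_comap, Cfsg.pCore]
    refine sSup_le fun M ⟨hM, hMp⟩ => ?_
    haveI : IsSimpleGroup ↥B := eB.isSimpleGroup_congr.2 inferInstance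
    have hBn : ∀ c ∈ C, ∀ b ∈ B, c * b * c⁻¹ ∈ B := fun c hc b hb => h.norm_B hc hb
    let N : Subgroup ↥B := M.comap (Subgroup.inclusion h.split.B_le)
    haveI : N.Normal := hM.comap _
    have hN : N = ⊥ := by
      refine (IsSimpleGroup.eq_bot_or_eq_top_of_normal N inferInstance).resolve_right fun htop => ?_
      obtain ⟨k, hk⟩ := (hMp.comap_of_injective (Subgroup.inclusion h.split.B_le)
        (Subgroup.inclusion_injective _)).exists_card_eq
      change Nat.card N = 2 ^ k at hk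
      rw [htop, Subgroup.card_top, h.card_B] at hk
      have h3 : 3 ∣ 2 ^ k := hk ▸ by norm_num
      have := Nat.le_of_dvd (by norm_num) (Nat.prime_three.dvd_of_dvd_pow h3)
      omega
    intro m hm
    refine h.cent_B m.2 fun b hb => ?_
    have hbC := h.split.B_le hb
    have h1 : (m : G) * b * (m : G)⁻¹ * b⁻¹ ∈ B := mul_mem (hBn m m.2 b hb) (inv_mem hb)
    have h2 : (⟨_, h1⟩ : ↥B) ∈ N := by
      show Subgroup.inclusion h.split.B_le ⟨_, h1⟩ ∈ M
      have h3 := mul_mem hm (hM.conj_mem _ (inv_mem hm) ⟨b, hbC⟩)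
      convert h3 using 1
      exact Subtype.ext (by simp [mul_assoc])
    rw [hN, Subgroup.mem_bot] at h2
    have h3 : (m : G) * b * (m : G)⁻¹ * b⁻¹ = 1 := congrArg Subtype.val h2
    exact mul_inv_eq_iff_eq_mul.1 (mul_inv_eq_one.1 h3)
  · have hn : (P.subgroupOf C).Normal := ⟨fun p hp g => by
      rw [Subgroup.mem_subgroupOf] at hp ⊢
      refine h.cent_B (C.mul_mem (C.mul_mem g.2 p.2) (inv_mem g.2)) fun b hb => ?_
      have hb' : (g : G)⁻¹ * b * g ∈ B := by
        have := h.norm_B (inv_mem g.2) hb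
        rwa [inv_inv] at this
      have := h.split.comm _ hp _ hb'
      calc (g : G) * (p : G) * (g : G)⁻¹ * b = g * ((p : G) * ((g : G)⁻¹ * b * g)) * (g : G)⁻¹ := by group
        _ = g * ((g : G)⁻¹ * b * g * (p : G)) * (g : G)⁻¹ := by rw [this]
        _ = b * ((g : G) * (p : G) * (g : G)⁻¹) := by group⟩
    have hp2 : IsPGroup 2 ↥(P.subgroupOf C) :=
      (IsPGroup.of_card (n := 2) (by rw [h.split.card_P]; norm_num)).comap_of_injective _ C.subtype_injective
    intro p hp
    exact ⟨⟨p, h.split.P_le hp⟩, le_sSup (show P.subgroupOf C ∈ {N : Subgroup C | N.Normal ∧ IsPGroup 2 N}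
      from ⟨hn, hp2⟩) hp, rfl⟩

/-- All involutions of the four-group have the same centraliser. -/
theorem cent_eq (h : JData z t Q K P B) {s : G} (hs : s ∈ P) (hs1 : s ≠ 1) :
    IsConj t s ∧ Subgroup.centralizer ({s} : Set G) = Subgroup.centralizer ({t} : Set G) := by
  have ho : orderOf s = 2 := orderOf_eq_prime (by rw [pow_two, h.split.P_sq s hs]) hs1
  have hsB : s ∉ B := fun hB => hs1 (by
    have : s ∈ P ⊓ B := ⟨hs, hB⟩
    rwa [h.split.disj, Subgroup.mem_bot] at this)
  have hconj := h.split.Ct s (h.split.P_le hs) ho hsB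
  refine ⟨hconj, (Subgroup.eq_of_le_of_card_ge (fun x hx => ?_) ?_).symm⟩
  · rw [← h.split.sup] at hx
    refine (sup_le (fun p hp => ?_) (fun b hb => ?_) : P ⊔ B ≤ Subgroup.centralizer ({s} : Set G)) hx
    · refine Subgroup.mem_centralizer_singleton_iff.2 ?_
      have h1 := h.split.P_sq (p * s) (mul_mem hp hs)
      rw [← inv_eq_of_mul_eq_one_right h1, mul_inv_rev, inv_eq_of_mul_eq_one_right (h.split.P_sq p hp),
        inv_eq_of_mul_eq_one_right (h.split.P_sq s hs)]
    · exact Subgroup.mem_centralizer_singleton_iff.2 (h.split.comm s hs b hb).symm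
  · obtain ⟨g, rfl⟩ := isConj_iff.1 hconj
    refine le_of_eq (Nat.card_congr ?_)
    exact
      { toFun := fun x => ⟨g⁻¹ * x * g, Subgroup.mem_centralizer_singleton_iff.2 (by
          have hx := Subgroup.mem_centralizer_singleton_iff.1 x.2
          calc g⁻¹ * (x : G) * g * t = g⁻¹ * ((x : G) * (g * t * g⁻¹)) * g := by group
            _ = g⁻¹ * (g * t * g⁻¹ * (x : G)) * g := by rw [hx]
            _ = t * (g⁻¹ * (x : G) * g) := by group)⟩
        invFun := fun x => ⟨g * x * g⁻¹, Subgroup.mem_centralizer_singleton_iff.2 (by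
          rw [conj_mul, conj_mul, Subgroup.mem_centralizer_singleton_iff.1 x.2])⟩
        left_inv := fun x => Subtype.ext (by simp [mul_assoc])
        right_inv := fun x => Subtype.ext (by simp [mul_assoc]) }

theorem exists_move (h : JData z t Q K P B) {s : G} (hs : s ∈ P) (hs1 : s ≠ 1) :
    ∃ g ∈ Subgroup.normalizer (P : Set G), g * t * g⁻¹ = s := by
  obtain ⟨hconj, hC⟩ := h.cent_eq hs hs1
  obtain ⟨g, hg⟩ := isConj_iff.1 hconj
  refine ⟨g, ?_, hg⟩
  have hgC : ∀ x, x ∈ Subgroup.centralizer ({t} : Set G) ↔ g * x * g⁻¹ ∈ Subgroup.centralizer ({t} : Set G) := by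
    intro x
    conv_rhs => rw [← hC]
    rw [Subgroup.mem_centralizer_singleton_iff, Subgroup.mem_centralizer_singleton_iff, ← hg, conj_mul, conj_mul]
    exact ⟨fun e => by rw [e], fun e => mul_left_cancel (mul_right_cancel e)⟩
  -- the four-group is the largest normal `2`-subgroup of the common centraliser
  let φ : ↥(Subgroup.centralizer ({t} : Set G)) →* ↥(Subgroup.centralizer ({t} : Set G)) :=
    { toFun := fun x => ⟨g * x * g⁻¹, (hgC x).1 x.2⟩
      map_one' := Subtype.ext (by simp)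
      map_mul' := fun x y => Subtype.ext (by simp [mul_assoc]) }
  have hinj : Function.Injective φ := fun x y e => Subtype.ext
    (mul_left_cancel (mul_right_cancel (congrArg Subtype.val e)))
  have hsurj : Function.Surjective φ := Finite.surjective_of_injective hinj
  have hle : (Cfsg.pCore 2 ↥(Subgroup.centralizer ({t} : Set G))).map φ ≤ Cfsg.pCore 2 _ := by
    rw [Subgroup.map_le_iff_le_comap, Cfsg.pCore]
    refine sSup_le fun M ⟨hM, hMp⟩ => ?_
    rw [← Subgroup.map_le_iff_le_comap]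
    exact le_sSup ⟨hM.map φ hsurj, hMp.map φ⟩
  refine Subgroup.mem_normalizer_iff_map_conj_eq.2 (Subgroup.eq_of_le_of_card_ge ?_
    (Subgroup.card_map_of_injective (MulAut.conj g).injective).ge)
  rintro _ ⟨p, hp, rfl⟩
  rw [SetLike.mem_coe, ← h.pCore_cent] at hp
  obtain ⟨p', hp', rfl⟩ := hp
  rw [← h.pCore_cent]
  exact ⟨φ p', hle ⟨p', hp', rfl⟩, rfl⟩

/-- A member of the normaliser of the four-group permuting its involutions cyclically, trivially on `B`. -/
theorem exists_cycle (h : JData z t Q K P B) : ∃ c ∈ Subgroup.normalizer (P : Set G),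
    (∀ b ∈ B, c * b = b * c) ∧ c * t * c⁻¹ ≠ t ∧ ∀ p ∈ P, p ≠ 1 →
      p = t ∨ p = c * t * c⁻¹ ∨ p = c * (c * t * c⁻¹) * c⁻¹ := by
  classical
  have hP4 : ∀ a b d : G, a ∈ P → b ∈ P → d ∈ P → a ≠ 1 → b ≠ 1 → d ≠ 1 → a ≠ b → a ≠ d → b ≠ d →
      ∀ p ∈ P, p ≠ 1 → p = a ∨ p = b ∨ p = d := by
    intro a b d ha hb hd ha1 hb1 hd1 hab had hbd p hp hp1
    by_contra hne
    push Not at hne
    obtain ⟨n1, n2, n3⟩ := hne
    let f : Fin 5 → ↥P := ![1, ⟨a, ha⟩, ⟨b, hb⟩, ⟨d, hd⟩, ⟨p, hp⟩]
    have hf : Function.Injective f := by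
      intro i j e
      fin_cases i <;> fin_cases j <;> simp [f, Subtype.ext_iff] at e ⊢ <;>
        simp_all
    have := Nat.card_le_card_of_injective f hf
    rw [Nat.card_fin, h.split.card_P] at this
    omega
  have ht1 : t ≠ 1 := ne_one h.m.ht
  obtain ⟨s, hs, hs1, hst⟩ : ∃ s ∈ P, s ≠ 1 ∧ s ≠ t := by
    by_contra hne
    push Not at hne
    let f : ↥P → Fin 2 := fun p => if (p : G) = 1 then 0 else 1
    have hf : Function.Injective f := by
      intro x y e
      simp only [f] at e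
      split_ifs at e with h1 h2
      · exact Subtype.ext (h1.trans h2.symm)
      · exact absurd e (by decide)
      · exact absurd e (by decide)
      · exact Subtype.ext ((hne x x.2 h1).trans (hne y y.2 ‹_›).symm)
    have := Nat.card_le_card_of_injective f hf
    rw [Nat.card_fin, h.split.card_P] at this
    omega
  have htP := h.split.tP
  have hu : t * s ∈ P := mul_mem htP hs
  have hu1 : t * s ≠ 1 := fun e => hst (mul_left_cancel (e.trans h.m.t_sq.symm))
  have hut : t * s ≠ t := fun e => hs1 (mul_left_cancel (e.trans (mul_one t).symm))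
  have hus : t * s ≠ s := fun e => ht1 (mul_right_cancel (e.trans (one_mul s).symm))
  have hall := hP4 t s (t * s) htP hs hu ht1 hs1 hu1 (Ne.symm hst) (Ne.symm hut) (Ne.symm hus)
  set u := t * s
  have img : ∀ g ∈ Subgroup.normalizer (P : Set G), ∀ p ∈ P, p ≠ 1 →
      g * p * g⁻¹ = t ∨ g * p * g⁻¹ = s ∨ g * p * g⁻¹ = u := fun g hg p hp hp1 =>
    hall _ ((Subgroup.mem_normalizer_iff.1 hg p).1 hp) (fun e => hp1 (conj_eq_one_iff.1 e))
  have cinj : ∀ {g p p' : G}, g * p * g⁻¹ = g * p' * g⁻¹ → p = p' := fun e =>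
    mul_left_cancel (mul_right_cancel e)
  obtain ⟨g, hgN, hg⟩ := h.exists_move hs hs1
  obtain ⟨k, hkN, hk⟩ := h.exists_move hu hu1
  obtain ⟨y, hyN, hy⟩ : ∃ y ∈ Subgroup.normalizer (P : Set G),
      (y * t * y⁻¹ = s ∧ y * s * y⁻¹ = u ∧ y * u * y⁻¹ = t) ∨
        (y * t * y⁻¹ = u ∧ y * u * y⁻¹ = s ∧ y * s * y⁻¹ = t) := by
    rcases img g hgN s hs hs1 with e | e | e
    · have e' : g * u * g⁻¹ = u := by
        rcases img g hgN u hu hu1 with e2 | e2 | e2
        · exact absurd (cinj (e2.trans e.symm)) hus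
        · exact absurd (cinj (e2.trans hg.symm)) hut
        · exact e2
      rcases img k hkN u hu hu1 with f | f | f
      · have f' : k * s * k⁻¹ = s := by
          rcases img k hkN s hs hs1 with f2 | f2 | f2
          · exact absurd (cinj (f2.trans f.symm)) (Ne.symm hus)
          · exact f2
          · exact absurd (cinj (f2.trans hk.symm)) hst
        refine ⟨k * g, mul_mem hkN hgN, Or.inl ⟨?_, ?_, ?_⟩⟩
        · rw [show k * g * t * (k * g)⁻¹ = k * (g * t * g⁻¹) * k⁻¹ by group, hg, f']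
        · rw [show k * g * s * (k * g)⁻¹ = k * (g * s * g⁻¹) * k⁻¹ by group, e, hk]
        · rw [show k * g * u * (k * g)⁻¹ = k * (g * u * g⁻¹) * k⁻¹ by group, e', f]
      · have f' : k * s * k⁻¹ = t := by
          rcases img k hkN s hs hs1 with f2 | f2 | f2
          · exact f2
          · exact absurd (cinj (f2.trans f.symm)) (Ne.symm hus)
          · exact absurd (cinj (f2.trans hk.symm)) hst
        exact ⟨k, hkN, Or.inr ⟨hk, f, f'⟩⟩
      · exact absurd (cinj (f.trans hk.symm)) hut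
    · exact absurd (cinj (e.trans hg.symm)) hst
    · refine ⟨g, hgN, Or.inl ⟨hg, e, ?_⟩⟩
      rcases img g hgN u hu hu1 with e2 | e2 | e2
      · exact e2
      · exact absurd (cinj (e2.trans hg.symm)) hut
      · exact absurd (cinj (e2.trans e.symm)) hus
  -- pass to the odd part
  have hcyc : ∀ n : ℕ, ¬ 3 ∣ n → y ^ n * t * (y ^ n)⁻¹ ≠ t := by
    have h3 : y ^ 3 * t * (y ^ 3)⁻¹ = t := by
      rw [show y ^ 3 * t * (y ^ 3)⁻¹ = y * (y * (y * t * y⁻¹) * y⁻¹) * y⁻¹ by
        simp only [pow_succ, pow_zero, one_mul, mul_inv_rev, mul_assoc]]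
      rcases hy with ⟨a, b, c⟩ | ⟨a, b, c⟩ <;> rw [a, b, c]
    have h3k : ∀ j : ℕ, y ^ (3 * j) * t * (y ^ (3 * j))⁻¹ = t := by
      intro j
      induction j with
      | zero => simp
      | succ j ih =>
        rw [show y ^ (3 * (j + 1)) * t * (y ^ (3 * (j + 1)))⁻¹ =
          y ^ (3 * j) * (y ^ 3 * t * (y ^ 3)⁻¹) * (y ^ (3 * j))⁻¹ by rw [mul_add, pow_add]; group, h3, ih]
    intro n hn e
    obtain ⟨j, rfl | rfl⟩ : ∃ j, n = 1 + 3 * j ∨ n = 2 + 3 * j := ⟨n / 3, by omega⟩
    · rw [show y ^ (1 + 3 * j) * t * (y ^ (1 + 3 * j))⁻¹ =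
        y * (y ^ (3 * j) * t * (y ^ (3 * j))⁻¹) * y⁻¹ by rw [pow_add, pow_one]; group, h3k] at e
      rcases hy with ⟨a, -, -⟩ | ⟨a, -, -⟩ <;> rw [a] at e
      exacts [hst e, hut e]
    · rw [show y ^ (2 + 3 * j) * t * (y ^ (2 + 3 * j))⁻¹ =
        y * (y * (y ^ (3 * j) * t * (y ^ (3 * j))⁻¹) * y⁻¹) * y⁻¹ by rw [pow_add]; group, h3k] at e
      rcases hy with ⟨a, b, -⟩ | ⟨a, b, -⟩ <;> rw [a, b] at e
      exacts [hut e, hst e]
  obtain ⟨a, m, hm, hord⟩ := Nat.exists_eq_two_pow_mul_odd (orderOf_pos y).ne'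
  set y' := y ^ (2 ^ a) with hy'
  have hy't : y' * t * y'⁻¹ ≠ t := hcyc _ (fun h3 => by
    have := Nat.le_of_dvd (by norm_num) (Nat.prime_three.dvd_of_dvd_pow h3); omega)
  have hy'N : y' ∈ Subgroup.normalizer (P : Set G) := pow_mem hyN _
  have hy'm : y' ^ m = 1 := by rw [hy', ← pow_mul, ← hord, pow_orderOf_eq_one]
  -- the odd automorphism induced on `B` is inner
  have hBnorm : ∀ n ∈ Subgroup.normalizer (P : Set G), ∀ b ∈ B, n * b * n⁻¹ ∈ B := by
    intro n hn b hb
    have hnC : ∀ x ∈ Subgroup.centralizer ({t} : Set G), n * x * n⁻¹ ∈ Subgroup.centralizer ({t} : Set G) := by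
      intro x hx
      have hp : n⁻¹ * t * n ∈ P := (Subgroup.mem_normalizer_iff''.1 hn t).1 htP
      have hp1 : n⁻¹ * t * n ≠ 1 := fun e => ht1 (by
        calc t = n * (n⁻¹ * t * n) * n⁻¹ := by group
          _ = 1 := by rw [e]; group)
      rw [← (h.cent_eq hp hp1).2, Subgroup.mem_centralizer_singleton_iff] at hx
      refine Subgroup.mem_centralizer_singleton_iff.2 ?_
      calc n * x * n⁻¹ * t = n * (x * (n⁻¹ * t * n)) * n⁻¹ := by group
        _ = n * (n⁻¹ * t * n * x) * n⁻¹ := by rw [hx]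
        _ = t * (n * x * n⁻¹) := by group
    obtain ⟨eB⟩ := h.altB
    haveI : IsSimpleGroup ↥B := eB.isSimpleGroup_congr.2 inferInstance
    let φ : ↥B →* ↥(Subgroup.centralizer ({t} : Set G)) :=
      { toFun := fun b => ⟨n * b * n⁻¹, hnC _ (h.split.B_le b.2)⟩
        map_one' := Subtype.ext (by simp)
        map_mul' := fun x y => Subtype.ext (by simp [mul_assoc]) }
    let N : Subgroup ↥B := (B.subgroupOf (Subgroup.centralizer ({t} : Set G))).comap φ
    haveI : N.Normal := ⟨fun x hx w => by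
      have := h.norm_B (φ w).2 hx
      show ((φ (w * x * w⁻¹) : ↥(Subgroup.centralizer ({t} : Set G))) : G) ∈ B
      rw [map_mul, map_mul, map_inv, Subgroup.coe_mul, Subgroup.coe_mul, Subgroup.coe_inv]
      exact this⟩
    rcases IsSimpleGroup.eq_bot_or_eq_top_of_normal N inferInstance with hN | hN
    · exfalso
      -- then `B` would embed into the four-group
      let π : ↥B → ↥P := fun x => ⟨(h.dec (φ x).2).choose, (h.dec (φ x).2).choose_spec.1⟩
      have hπ : Function.Injective π := by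
        intro x w e
        have e1 := congrArg Subtype.val e
        obtain ⟨c, hc, hx⟩ := (h.dec (φ x).2).choose_spec.2
        obtain ⟨d, hd, hw⟩ := (h.dec (φ w).2).choose_spec.2
        have hmem : x⁻¹ * w ∈ N := by
          show ((φ (x⁻¹ * w) : ↥(Subgroup.centralizer ({t} : Set G))) : G) ∈ B
          rw [map_mul, map_inv, Subgroup.coe_mul, Subgroup.coe_inv, hx, hw]
          simp only [π] at e1
          rw [e1, mul_inv_rev, mul_assoc, inv_mul_cancel_left]
          exact mul_mem (inv_mem hc) hd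
        rwa [hN, Subgroup.mem_bot, inv_mul_eq_one] at hmem
      have := Nat.card_le_card_of_injective π hπ
      rw [h.card_B, h.split.card_P] at this
      omega
    · have : (⟨b, hb⟩ : ↥B) ∈ N := hN ▸ Subgroup.mem_top _
      exact this
  obtain ⟨eB⟩ := h.altB
  have hn1 : ∀ b : ↥B, y' * b * y'⁻¹ ∈ B := fun b => hBnorm y' hy'N b b.2
  have hn2 : ∀ b : ↥B, y'⁻¹ * b * y' ∈ B := fun b => by simpa using hBnorm y'⁻¹ (inv_mem hy'N) b b.2
  let α : MulAut ↥B :=
    { toFun := fun b => ⟨_, hn1 b⟩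
      invFun := fun b => ⟨_, hn2 b⟩
      left_inv := fun b => Subtype.ext (by simp [mul_assoc])
      right_inv := fun b => Subtype.ext (by simp [mul_assoc])
      map_mul' := fun x w => Subtype.ext (by simp [mul_assoc]) }
  have hαn : ∀ (n : ℕ) (b : ↥B), (((α ^ n) b : ↥B) : G) = y' ^ n * b * (y' ^ n)⁻¹ := by
    intro n
    induction n with
    | zero => intro b; simp
    | succ n ih =>
      intro b
      rw [pow_succ, MulAut.mul_apply, ih]
      show y' ^ n * (y' * (b : G) * y'⁻¹) * (y' ^ n)⁻¹ = _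
      rw [pow_succ]; group
  let φ : MulAut ↥(alternatingGroup (Fin 5)) := MulAut.congr eB α
  have hφ : φ ^ m = 1 := by
    rw [show φ ^ m = MulAut.congr eB (α ^ m) from (map_pow (MulAut.congr eB) α m).symm,
      show α ^ m = 1 from MulEquiv.ext fun b => Subtype.ext (by rw [hαn, hy'm]; simp), map_one]
  obtain ⟨σ, hσ⟩ := CfsgLib.PGroup.AltAut.exists_conjNormal_of_odd (by norm_num) φ hm hφ
  have hσm : σ ^ m = 1 := CfsgLib.PGroup.AltAut.conjNormal_injective 5 (by norm_num) (by
    rw [map_pow, hσ, hφ, map_one])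
  have hsign : σ ∈ alternatingGroup (Fin 5) := by
    rw [Equiv.Perm.mem_alternatingGroup]
    have : Equiv.Perm.sign σ ^ m = 1 := by rw [← map_pow, hσm, map_one]
    rcases Int.units_eq_one_or (Equiv.Perm.sign σ) with e | e
    · exact e
    · rw [e, hm.neg_one_pow] at this; exact absurd this (by decide)
  set b₀ := eB.symm ⟨σ, hsign⟩ with hb₀
  refine ⟨(b₀ : G)⁻¹ * y', mul_mem (inv_mem ?_) hy'N, fun b hb => ?_, ?_, ?_⟩
  · refine Subgroup.mem_normalizer_iff.2 fun p => ⟨fun hp => ?_, fun hp => ?_⟩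
    · rwa [← h.split.comm p hp _ b₀.2, mul_inv_cancel_right]
    · have e1 := h.split.comm _ hp _ b₀.2
      have e3 : (b₀ : G) * p * (b₀ : G)⁻¹ = p := mul_left_cancel (a := (b₀ : G)) (by
        rw [← e1]; group)
      rwa [e3] at hp
  · have e1 : (α ⟨b, hb⟩) = b₀ * ⟨b, hb⟩ * b₀⁻¹ := eB.injective (by
      have h1 : φ (eB ⟨b, hb⟩) = eB (α ⟨b, hb⟩) := by simp [φ]
      rw [← h1, ← hσ, map_mul, map_mul, map_inv, hb₀, eB.apply_symm_apply]
      exact Subtype.ext (by simp [MulAut.conjNormal_apply]))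
    have e2 : y' * b * y'⁻¹ = (b₀ : G) * b * (b₀ : G)⁻¹ := congrArg Subtype.val e1
    calc (b₀ : G)⁻¹ * y' * b = (b₀ : G)⁻¹ * (y' * b * y'⁻¹) * y' := by group
      _ = (b₀ : G)⁻¹ * ((b₀ : G) * b * (b₀ : G)⁻¹) * y' := by rw [e2]
      _ = b * ((b₀ : G)⁻¹ * y') := by group
  all_goals
    have key : ∀ p ∈ P, (b₀ : G)⁻¹ * y' * p * ((b₀ : G)⁻¹ * y')⁻¹ = y' * p * y'⁻¹ := by
      intro p hp
      have hq := (Subgroup.mem_normalizer_iff.1 hy'N p).1 hp
      rw [show (b₀ : G)⁻¹ * y' * p * ((b₀ : G)⁻¹ * y')⁻¹ = (b₀ : G)⁻¹ * (y' * p * y'⁻¹) * (b₀ : G) by group,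
        mul_assoc, h.split.comm _ hq _ b₀.2, inv_mul_cancel_left]
  · rw [key t htP]; exact hy't
  · have hpow : ∀ n : ℕ, y' ^ n ∈ Subgroup.normalizer (P : Set G) := fun n => pow_mem hy'N n
    have hq := (Subgroup.mem_normalizer_iff.1 hy'N t).1 htP
    have hq1 : y' * t * y'⁻¹ ≠ 1 := fun e => ht1 (conj_eq_one_iff.1 e)
    rw [key t htP, key _ hq]
    have hsq : y' * (y' * t * y'⁻¹) * y'⁻¹ ≠ t := by
      rw [show y' * (y' * t * y'⁻¹) * y'⁻¹ = (y' ^ 2) * t * (y' ^ 2)⁻¹ by
        simp only [pow_two, mul_inv_rev, mul_assoc], hy', ← pow_mul]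
      refine hcyc _ fun h3 => ?_
      rw [← pow_succ] at h3
      have := Nat.le_of_dvd (by norm_num) (Nat.prime_three.dvd_of_dvd_pow h3); omega
    exact hP4 t (y' * t * y'⁻¹) (y' * (y' * t * y'⁻¹) * y'⁻¹) htP hq
      ((Subgroup.mem_normalizer_iff.1 hy'N _).1 hq) ht1 hq1 (fun e => hq1 (conj_eq_one_iff.1 e))
      (Ne.symm hy't) (Ne.symm hsq) (fun e => hy't (cinj e).symm)

theorem nonempty_normalizer (h : JData z t Q K P B) :
    Nonempty (↥(Subgroup.normalizer (P : Set G)) ≃* alternatingGroup (Fin 4) × alternatingGroup (Fin 5)) := by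
  classical
  obtain ⟨c, hcN, hcB, hct, hall⟩ := h.exists_cycle
  obtain ⟨eB⟩ := h.altB
  set N := Subgroup.normalizer (P : Set G)
  set H := N ⊓ Subgroup.centralizer (B : Set G)
  have hPN : P ≤ N := P.le_normalizer
  have hPH : ∀ p ∈ P, p ∈ H := fun p hp =>
    ⟨hPN hp, Subgroup.mem_centralizer_iff.2 fun b hb => (h.split.comm p hp b hb).symm⟩
  have hcH : c ∈ H := ⟨hcN, Subgroup.mem_centralizer_iff.2 fun b hb => (hcB b hb).symm⟩
  have hBN : B ≤ N := fun b hb => by
    refine Subgroup.mem_normalizer_iff.2 fun p => ⟨fun hp => ?_, fun hp => ?_⟩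
    · rwa [← h.split.comm p hp _ hb, mul_inv_cancel_right]
    · have e1 := h.split.comm _ hp _ hb
      have e3 : b * p * b⁻¹ = p := mul_left_cancel (a := b) (by rw [← e1]; group)
      rwa [e3] at hp
  have htP := h.split.tP
  have ht1 : t ≠ 1 := ne_one h.m.ht
  have hq := (Subgroup.mem_normalizer_iff.1 hcN t).1 htP
  have hdec : ∀ x ∈ N, ∃ i : Fin 3, ∃ p ∈ P, ∃ b ∈ B, x = c ^ (i : ℕ) * (p * b) := by
    intro x hx
    have hmem := (Subgroup.mem_normalizer_iff.1 hx t).1 htP
    obtain ⟨i, hi⟩ : ∃ i : Fin 3, x * t * x⁻¹ = c ^ (i : ℕ) * t * (c ^ (i : ℕ))⁻¹ := by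
      rcases hall _ hmem (fun e => ht1 (conj_eq_one_iff.1 e)) with e | e | e
      · exact ⟨0, by simpa using e⟩
      · exact ⟨1, by simpa using e⟩
      · exact ⟨2, e.trans (by simp [pow_two, mul_assoc])⟩
    have hC : (c ^ (i : ℕ))⁻¹ * x ∈ Subgroup.centralizer ({t} : Set G) := by
      refine Subgroup.mem_centralizer_singleton_iff.2 ?_
      calc (c ^ (i : ℕ))⁻¹ * x * t = (c ^ (i : ℕ))⁻¹ * (x * t * x⁻¹) * x := by group
        _ = (c ^ (i : ℕ))⁻¹ * (c ^ (i : ℕ) * t * (c ^ (i : ℕ))⁻¹) * x := by rw [hi]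
        _ = t * ((c ^ (i : ℕ))⁻¹ * x) := by group
    obtain ⟨p, hp, b, hb, e⟩ := h.dec hC
    exact ⟨i, p, hp, b, hb, by rw [← e, mul_inv_cancel_left]⟩
  have hHB : H ⊓ B = ⊥ := by
    rw [eq_bot_iff]
    rintro b ⟨hb, hbB⟩
    have hz : eB ⟨b, hbB⟩ ∈ Subgroup.center (alternatingGroup (Fin 5)) := Subgroup.mem_center_iff.2 fun a => by
      obtain ⟨⟨d, hd⟩, rfl⟩ := eB.surjective a
      rw [← map_mul, ← map_mul]
      exact congrArg eB (Subtype.ext (Subgroup.mem_centralizer_iff.1 hb.2 d hd))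
    rw [alternatingGroup.center_eq_bot (by simp), Subgroup.mem_bot, eB.map_eq_one_iff] at hz
    exact Subgroup.mem_bot.2 (congrArg Subtype.val hz)
  have hcard : Nat.card H = 12 := by
    let f : Fin 3 × ↥P → ↥H := fun w => ⟨c ^ (w.1 : ℕ) * w.2, mul_mem (pow_mem hcH _) (hPH _ w.2.2)⟩
    have hf : Function.Bijective f := by
      constructor
      · rintro ⟨i, p⟩ ⟨j, r⟩ e
        have e1 : c ^ (i : ℕ) * (p : G) = c ^ (j : ℕ) * r := congrArg Subtype.val e
        have hconj : ∀ (d : G) (p : ↥P), d * p * t * (d * p)⁻¹ = d * t * d⁻¹ := fun d p => by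
          have hpt : (p : G) * t = t * p := Subgroup.mem_centralizer_singleton_iff.1 (h.split.P_le p.2)
          rw [show d * p * t * (d * p)⁻¹ = d * ((p : G) * t * (p : G)⁻¹) * d⁻¹ by group, hpt,
            mul_inv_cancel_right]
        have hc2 : c * (c * t * c⁻¹) * c⁻¹ ≠ c * t * c⁻¹ := fun e2 =>
          hct (mul_left_cancel (mul_right_cancel e2))
        have hc2' : c * (c * t * c⁻¹) * c⁻¹ ≠ t := by
          intro e2
          -- otherwise a third involution is missing
          have hq1 : c * t * c⁻¹ ≠ 1 := fun e => ht1 (conj_eq_one_iff.1 e)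
          have := hall (t * (c * t * c⁻¹)) (mul_mem htP hq) (fun e => hct
            ((mul_left_cancel (e.trans h.m.t_sq.symm))))
          rw [e2] at this
          rcases this with e3 | e3 | e3
          · exact hq1 (mul_left_cancel (e3.trans (mul_one t).symm))
          · exact ht1 (mul_right_cancel (e3.trans (one_mul _).symm))
          · exact hq1 (mul_left_cancel (e3.trans (mul_one t).symm))
        have hij : i = j := by
          have e2 := congrArg (fun d => d * t * d⁻¹) e1
          simp only [hconj] at e2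
          fin_cases i <;> fin_cases j <;> simp [pow_two, mul_assoc] at e2 ⊢
          all_goals first
            | exact hct (by simpa [mul_assoc] using e2)
            | exact hct (by simpa [mul_assoc] using e2.symm)
            | exact hc2' (by simpa [mul_assoc] using e2)
            | exact hc2' (by simpa [mul_assoc] using e2.symm)
            | exact hc2 (by simpa [mul_assoc] using e2)
            | exact hc2 (by simpa [mul_assoc] using e2.symm)
        subst hij
        exact Prod.ext rfl (Subtype.ext (mul_left_cancel e1))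
      · rintro ⟨x, hx⟩
        obtain ⟨i, p, hp, b, hb, rfl⟩ := hdec x hx.1
        have hb1 : b ∈ H ⊓ B := by
          refine ⟨?_, hb⟩
          have := mul_mem (inv_mem (hPH p hp)) (mul_mem (inv_mem (pow_mem hcH (i : ℕ))) hx)
          rwa [inv_mul_cancel_left, inv_mul_cancel_left] at this
        rw [hHB, Subgroup.mem_bot] at hb1
        exact ⟨(i, ⟨p, hp⟩), Subtype.ext (by simp [f, hb1])⟩
    rw [← Nat.card_congr (Equiv.ofBijective f hf), Nat.card_prod, Nat.card_fin, h.split.card_P]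
  haveI : (P.subgroupOf H).Normal := ⟨fun p hp g => by
    rw [Subgroup.mem_subgroupOf] at hp ⊢
    exact (Subgroup.mem_normalizer_iff.1 g.2.1 _).1 hp⟩
  obtain ⟨eH⟩ := CfsgLib.PGroup.RestrictedPCyclic.nonempty_equiv_a4 (P.subgroupOf H)
    (by rw [Nat.card_congr (Subgroup.subgroupOfEquivOfLe hPH).toEquiv, h.split.card_P]) hcard (fun x hx => by
      have hxc : ∀ p (hp : p ∈ P), p * (x : G) = x * p := fun p hp =>
        congrArg Subtype.val (Subgroup.mem_centralizer_iff.1 hx ⟨p, hPH p hp⟩ hp)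
      exact h.cent_B (Subgroup.mem_centralizer_singleton_iff.2 (hxc t htP).symm)
        fun b hb => (Subgroup.mem_centralizer_iff.1 x.2.2 b hb).symm)
  obtain ⟨e⟩ := nonempty_prod_sup (A := H) (C := B)
    (fun a ha b hb => (Subgroup.mem_centralizer_iff.1 ha.2 b hb).symm) hHB
  have hsup : H ⊔ B = N := le_antisymm (sup_le inf_le_left hBN) fun x hx => by
    obtain ⟨i, p, hp, b, hb, rfl⟩ := hdec x hx
    exact mul_mem (Subgroup.mem_sup_left (pow_mem hcH _))
      (mul_mem (Subgroup.mem_sup_left (hPH p hp)) (Subgroup.mem_sup_right hb))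
  exact ⟨((MulEquiv.subgroupCongr hsup.symm).trans e.symm).trans (eH.prodCongr eB)⟩

end JData

end CfsgLib.Characterizations.HallJanko
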