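import Cfsg.Agent.Lib.Characterizations.HallJanko.Facts

/-!
# Elements of order three and five of `A₅`
-/

set_option autoImplicit false
set_option linter.style.haveILetI false

namespace CfsgLib.Characterizations.HallJanko

open Equiv Equiv.Perm

set_option maxRecDepth 100000 in
theorem perm_five_conj : ∀ τ : Perm (Fin 5), sign τ = 1 → τ ^ 5 = 1 → τ ≠ 1 →
    ∃ ρ : Perm (Fin 5), sign ρ = 1 ∧ (ρ * τ * ρ⁻¹ = finRotate 5 ∨ ρ * τ * ρ⁻¹ = finRotate 5 ^ 2) := by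
  decide +kernel

set_option maxRecDepth 100000 in
theorem perm_five_norm : ∀ σ : Perm (Fin 5), sign σ = 1 → σ ^ 5 = 1 → σ ≠ 1 → ∀ τ : Perm (Fin 5), sign τ = 1 →
    τ * σ * τ⁻¹ ≠ σ ^ 2 ∧ τ * σ * τ⁻¹ ≠ σ ^ 3 := by
  decide +kernel

set_option maxRecDepth 100000 in
theorem perm_five_normalizer : ∀ σ : Perm (Fin 5), sign σ = 1 → σ ^ 5 = 1 → σ ≠ 1 →
    ((Finset.univ : Finset (Perm (Fin 5))).filter fun τ => sign τ = 1 ∧
      ∃ j : Fin 5, τ * σ * τ⁻¹ = σ ^ (j : ℕ)).card = 10 := by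
  decide +kernel

set_option maxRecDepth 100000 in
theorem perm_three_conj : ∀ τ : Perm (Fin 5), sign τ = 1 → τ ^ 3 = 1 → τ ≠ 1 →
    ∃ ρ : Perm (Fin 5), sign ρ = 1 ∧ ρ * τ * ρ⁻¹ = swap 0 1 * swap 1 2 := by
  decide +kernel

variable {H : Type*} [Group H]

theorem toPerm_pow_eq_one (e : H ≃* alternatingGroup (Fin 5)) {x : H} {p : ℕ} (hx : orderOf x = p) :
    toPerm e x ^ p = 1 := by
  rw [← map_pow, ← hx, pow_orderOf_eq_one, map_one]

theorem ne_one_of_orderOf {x : H} {p : ℕ} (hx : orderOf x = p) (hp : p ≠ 1) : x ≠ 1 := fun h => hp (by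
  rw [← hx, h, orderOf_one])

/-- Elements of order five of `A₅` generate conjugate subgroups. -/
theorem alt5_five_conj (e : H ≃* alternatingGroup (Fin 5)) {x y : H} (hx : orderOf x = 5) (hy : orderOf y = 5) :
    ∃ g : H, ∃ j : ℕ, g * x * g⁻¹ = y ^ j := by
  obtain ⟨ρ, hρ, h1⟩ := perm_five_conj _ (sign_toPerm e x) (toPerm_pow_eq_one e hx)
    (toPerm_ne_one e (ne_one_of_orderOf hx (by norm_num)))
  obtain ⟨σ, hσ, h2⟩ := perm_five_conj _ (sign_toPerm e y) (toPerm_pow_eq_one e hy)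
    (toPerm_ne_one e (ne_one_of_orderOf hy (by norm_num)))
  have hy5 := toPerm_pow_eq_one e hy
  obtain ⟨j, hj⟩ : ∃ j : ℕ, ρ * toPerm e x * ρ⁻¹ = (σ * toPerm e y * σ⁻¹) ^ j := by
    have h5 : (finRotate 5) ^ 5 = 1 := by decide
    rcases h1 with h1 | h1 <;> rcases h2 with h2 | h2 <;> rw [h1, h2]
    · exact ⟨1, (pow_one _).symm⟩
    · exact ⟨3, by rw [← pow_mul, show 2 * 3 = 5 + 1 from rfl, pow_add, h5, one_mul, pow_one]⟩
    · exact ⟨2, rfl⟩
    · exact ⟨1, (pow_one _).symm⟩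
  rw [_root_.conj_pow] at hj
  obtain ⟨g, hg⟩ := exists_toPerm e (τ := σ⁻¹ * ρ) (by rw [map_mul, map_inv, hσ, hρ, inv_one, one_mul])
  refine ⟨g, j, toPerm_injective e ?_⟩
  rw [map_mul, map_mul, map_inv, map_pow, hg]
  calc σ⁻¹ * ρ * toPerm e x * (σ⁻¹ * ρ)⁻¹ = σ⁻¹ * (ρ * toPerm e x * ρ⁻¹) * σ := by group
    _ = _ := by rw [hj]; group

/-- An element of order five of `A₅` is conjugate in its normaliser only to itself and its inverse. -/
theorem alt5_five_norm (e : H ≃* alternatingGroup (Fin 5)) {x g : H} (hx : orderOf x = 5)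
    (hg : g * x * g⁻¹ ∈ Subgroup.zpowers x) : g * x * g⁻¹ = x ∨ g * x * g⁻¹ = x⁻¹ := by
  obtain ⟨h2, h3⟩ := perm_five_norm _ (sign_toPerm e x) (toPerm_pow_eq_one e hx)
    (toPerm_ne_one e (ne_one_of_orderOf hx (by norm_num))) _ (sign_toPerm e g)
  obtain ⟨n, hn⟩ := hg
  obtain ⟨j, hj, hj'⟩ : ∃ j < 5, g * x * g⁻¹ = x ^ j := by
    refine ⟨(n % 5).toNat, by omega, ?_⟩
    simp only at hn
    rw [← hn, ← zpow_natCast, Int.toNat_of_nonneg (Int.emod_nonneg _ (by norm_num)), ← zpow_mod_orderOf x n, hx]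
    rfl
  have hx1 := ne_one_of_orderOf hx (by norm_num)
  interval_cases j
  · exact absurd (conj_eq_one_iff.1 (hj'.trans (pow_zero x))) hx1
  · exact Or.inl (hj'.trans (pow_one x))
  · exact absurd (by rw [← map_inv, ← map_mul, ← map_mul, hj', map_pow]) h2
  · exact absurd (by rw [← map_inv, ← map_mul, ← map_mul, hj', map_pow]) h3
  · exact Or.inr (hj'.trans (inv_eq_of_mul_eq_one_right (by
      rw [← pow_succ']; show x ^ 5 = 1; exact hx ▸ pow_orderOf_eq_one x)).symm)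

/-- The normaliser of a subgroup of order five of `A₅` has order ten. -/
theorem alt5_five_normalizer [Finite H] (e : H ≃* alternatingGroup (Fin 5)) {x : H} (hx : orderOf x = 5) :
    {g : H | g * x * g⁻¹ ∈ Subgroup.zpowers x}.ncard = 10 := by
  classical
  rw [← perm_five_normalizer _ (sign_toPerm e x) (toPerm_pow_eq_one e hx)
    (toPerm_ne_one e (ne_one_of_orderOf hx (by norm_num))), ← Nat.card_coe_set_eq, ← Nat.card_eq_finsetCard]
  refine Nat.card_congr (Equiv.ofBijective (fun g => ⟨toPerm e g.1, Finset.mem_filter.2 ⟨Finset.mem_univ _,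
    sign_toPerm e _, ?_⟩⟩) ⟨?_, ?_⟩)
  · rcases alt5_five_norm e hx g.2 with h | h
    · exact ⟨1, by rw [← map_inv, ← map_mul, ← map_mul, h]; exact (pow_one _).symm⟩
    · refine ⟨4, ?_⟩
      rw [← map_inv, ← map_mul, ← map_mul, h, show ((4 : Fin 5) : ℕ) = 4 from rfl, ← map_pow]
      exact congrArg _ (inv_eq_of_mul_eq_one_right (by rw [← pow_succ']; show x ^ 5 = 1; exact hx ▸ pow_orderOf_eq_one x))
  · exact fun y y' h => Subtype.ext (toPerm_injective e (congrArg (fun a => a.1) h : toPerm e y.1 = toPerm e y'.1))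
  · rintro ⟨τ, hτ⟩
    obtain ⟨-, hs, j, hc⟩ := Finset.mem_filter.1 hτ
    obtain ⟨g, rfl⟩ := exists_toPerm e hs
    refine ⟨⟨g, ⟨(j : ℕ), ?_⟩⟩, rfl⟩
    show x ^ ((j : ℕ) : ℤ) = _
    rw [zpow_natCast]
    exact toPerm_injective e (by rw [map_pow, map_mul, map_mul, map_inv, hc])

/-- Elements of order three of `A₅` are conjugate. -/
theorem alt5_three_conj (e : H ≃* alternatingGroup (Fin 5)) {x y : H} (hx : orderOf x = 3) (hy : orderOf y = 3) :
    ∃ g : H, g * x * g⁻¹ = y := by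
  obtain ⟨ρ, hρ, h1⟩ := perm_three_conj _ (sign_toPerm e x) (toPerm_pow_eq_one e hx)
    (toPerm_ne_one e (ne_one_of_orderOf hx (by norm_num)))
  obtain ⟨σ, hσ, h2⟩ := perm_three_conj _ (sign_toPerm e y) (toPerm_pow_eq_one e hy)
    (toPerm_ne_one e (ne_one_of_orderOf hy (by norm_num)))
  obtain ⟨g, hg⟩ := exists_toPerm e (τ := σ⁻¹ * ρ) (by rw [map_mul, map_inv, hσ, hρ, inv_one, one_mul])
  refine ⟨g, toPerm_injective e ?_⟩
  rw [map_mul, map_mul, map_inv, hg, show σ⁻¹ * ρ * toPerm e x * (σ⁻¹ * ρ)⁻¹ = σ⁻¹ * (ρ * toPerm e x * ρ⁻¹) * σ by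
    group, h1, ← h2]
  group

end CfsgLib.Characterizations.HallJanko
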