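import Cfsg.Agent.Lib.Characterizations.HallJanko.Order
import Cfsg.Agent.Lib.Characterizations.HallJanko.OddFacts

/-!
# Centralisers of elements of order three or five commuting with an involution of the second class
-/

set_option autoImplicit false
set_option linter.style.haveILetI false
set_option linter.unusedSectionVars false

namespace CfsgLib.Characterizations.HallJanko

open CfsgLib.Characterizations.HallJankoCount
open CfsgLib.Involution.Dihedral

variable {G : Type*} [Group G] [Finite G] {z t : G} {Q K P B : Subgroup G}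

/-- Conjugation identifies centralisers. -/
theorem card_cent_conj (g y : G) :
    Nat.card (Subgroup.centralizer ({g * y * g⁻¹} : Set G)) = Nat.card (Subgroup.centralizer ({y} : Set G)) := by
  refine (Nat.card_congr ((MulAut.conj g).toEquiv.subtypeEquiv fun x => ?_)).symm
  simp only [mem_cz, MulEquiv.toEquiv_eq_coe, EquivLike.coe_coe, MulAut.conj_apply, conj_mul]
  exact ⟨fun h => by rw [h], fun h => mul_left_cancel (mul_right_cancel h)⟩

namespace JData

theorem dec_odd (h : JData z t Q K P B) {d : G} (hd : d ∈ Subgroup.centralizer ({t} : Set G)) :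
    ∃ a ∈ P, ∃ b ∈ B, d = a * b := by
  have hnB : B ≤ Subgroup.normalizer (P : Set G) := fun b hb =>
    CfsgLib.ThompsonWielandt.mem_normalizer_of_forall fun p hp => by
      rw [← h.split.comm p hp b hb, mul_inv_cancel_right]; exact hp
  rw [← h.split.sup] at hd
  have hm : d ∈ ((P ⊔ B : Subgroup G) : Set G) := hd
  rw [Subgroup.coe_mul_of_right_le_normalizer_left P B hnB] at hm
  obtain ⟨a, ha, b, hb, rfl⟩ := hm
  exact ⟨a, ha, b, hb, rfl⟩

theorem dec_unique (h : JData z t Q K P B) {a b a' b' : G} (ha : a ∈ P) (hb : b ∈ B) (ha' : a' ∈ P) (hb' : b' ∈ B)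
    (e : a * b = a' * b') : a = a' ∧ b = b' := by
  have hm : a'⁻¹ * a ∈ P ⊓ B := Subgroup.mem_inf.2 ⟨mul_mem (inv_mem ha') ha, by
    rw [show a'⁻¹ * a = b' * b⁻¹ by rw [eq_mul_inv_iff_mul_eq, mul_assoc, e, inv_mul_cancel_left]]
    exact mul_mem hb' (inv_mem hb)⟩
  rw [h.split.disj, Subgroup.mem_bot, inv_mul_eq_one] at hm
  subst hm
  exact ⟨rfl, mul_left_cancel e⟩

theorem card_D (h : JData z t Q K P B) : Nat.card (Subgroup.centralizer ({t} : Set G)) = 240 := by
  obtain ⟨eB⟩ := h.altB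
  have h1 := CfsgLib.Fusion.Thompson.card_sup_mul_card_inf (N := P) (K := B) fun b hb =>
    CfsgLib.ThompsonWielandt.mem_normalizer_of_forall fun p hp => by
      rw [← h.split.comm p hp b hb, mul_inv_cancel_right]; exact hp
  rw [h.split.disj, Subgroup.card_bot, mul_one, h.split.card_P, h.split.sup, card_alt5 eB] at h1
  rw [h1]

theorem mem_B_of_odd (h : JData z t Q K P B) {y : G} {p : ℕ} (hp : p = 3 ∨ p = 5)
    (hyD : y ∈ Subgroup.centralizer ({t} : Set G)) (hy : orderOf y = p) : y ∈ B := by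
  obtain ⟨a, ha, b, hb, rfl⟩ := h.dec_odd hyD
  have hab : Commute a b := h.split.comm a ha b hb
  have h1 := hy ▸ pow_orderOf_eq_one (a * b)
  rw [hab.mul_pow, show a ^ p = a by
    rcases hp with rfl | rfl <;> simp only [pow_succ, pow_zero, one_mul, h.split.P_sq a ha]] at h1
  have ha1 : a = 1 := (h.dec_unique ha (pow_mem hb p) (one_mem P) (one_mem B) (by rw [h1, one_mul])).1
  rw [ha1, one_mul]
  exact hb

theorem card_cent_D (h : JData z t Q K P B) {y : G} {p : ℕ} (hp : p = 3 ∨ p = 5) (hyB : y ∈ B)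
    (hy : orderOf y = p) :
    Nat.card ↥(Subgroup.centralizer ({t} : Set G) ⊓ Subgroup.centralizer ({y} : Set G)) = 4 * p := by
  obtain ⟨eB⟩ := h.altB
  have hc := (alt5_odd_mem eB hyB (by rcases hp with rfl | rfl <;> simp [hy])).1
  rw [← hy, ← h.split.card_P, ← Nat.card_zpowers, ← Nat.card_prod]
  symm
  refine Nat.card_congr (Equiv.ofBijective (fun q : ↥P × ↥(Subgroup.zpowers y) => ⟨q.1 * q.2, Subgroup.mem_inf.2
    ⟨mul_mem (h.split.P_le q.1.2) (h.split.B_le (Subgroup.zpowers_le.2 hyB q.2.2)), mem_cz.2 ?_⟩⟩) ⟨?_, ?_⟩)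
  · obtain ⟨k, hk⟩ := q.2.2
    have h1 : Commute (q.1 : G) y := h.split.comm _ q.1.2 y hyB
    exact (h1.mul_left (hk ▸ (Commute.refl y).zpow_left k)).eq
  · rintro ⟨a, b⟩ ⟨a', b'⟩ e
    obtain ⟨e1, e2⟩ := h.dec_unique a.2 (Subgroup.zpowers_le.2 hyB b.2) a'.2 (Subgroup.zpowers_le.2 hyB b'.2)
      (congrArg Subtype.val e)
    exact Prod.ext (Subtype.ext e1) (Subtype.ext e2)
  · rintro ⟨x, hx⟩
    obtain ⟨hxD, hxy⟩ := Subgroup.mem_inf.1 hx
    obtain ⟨a, ha, b, hb, rfl⟩ := h.dec_odd hxD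
    have hay : Commute a y := h.split.comm a ha y hyB
    have hby : y * b = b * y := by
      refine (h.dec_unique ha (mul_mem hyB hb) ha (mul_mem hb hyB) ?_).2
      rw [← mul_assoc, hay.eq, mul_assoc, ← mem_cz.1 hxy, mul_assoc]
    exact ⟨(⟨a, ha⟩, ⟨b, hc b hb hby⟩), rfl⟩

theorem conj_t_of_P (h : JData z t Q K P B) {v : G} (hv : v ∈ P) (hv1 : v ≠ 1) : IsConj t v := by
  refine h.split.Ct v (h.split.P_le hv) (orderOf_eq_two (h.split.P_sq v hv) hv1) fun hB => hv1 ?_
  have : v ∈ P ⊓ B := Subgroup.mem_inf.2 ⟨hv, hB⟩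
  rwa [h.split.disj, Subgroup.mem_bot] at this

/-- In `C(y)` a member of `P` is centralised only by `P ⟨y⟩`. -/
theorem cent_P (h : JData z t Q K P B) {y : G} {p : ℕ} (hp : p = 3 ∨ p = 5) (hyB : y ∈ B) (hy : orderOf y = p)
    {v : G} (hv : v ∈ P) (hv1 : v ≠ 1) {c : G} (hcv : c * v = v * c) (hcy : c * y = y * c) :
    ∃ a ∈ P, ∃ i : ℤ, c = a * y ^ i := by
  obtain ⟨g, hg⟩ := isConj_iff.1 (h.conj_t_of_P hv hv1).symm
  let C' : Subgroup G := Subgroup.centralizer ({v} : Set G) ⊓ Subgroup.centralizer ({y} : Set G)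
  have hvy : Commute v y := h.split.comm v hv y hyB
  have hy' : g * y * g⁻¹ ∈ B := h.mem_B_of_odd hp (mem_cz.2 (by rw [← hg, conj_mul, conj_mul, hvy.eq]))
    (by rw [CfsgLib.Involution.Dihedral.orderOf_conj, hy])
  have hle : Nat.card C' ≤ 4 * p := by
    rw [← h.card_cent_D hp hy' (by rw [CfsgLib.Involution.Dihedral.orderOf_conj, hy])]
    refine Nat.card_le_card_of_injective (fun x => ⟨g * x.1 * g⁻¹, Subgroup.mem_inf.2 ⟨mem_cz.2 ?_, mem_cz.2 ?_⟩⟩)
      fun a b e => Subtype.ext (mul_left_cancel (mul_right_cancel (congrArg Subtype.val e)))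
    · rw [← hg, conj_mul, conj_mul, mem_cz.1 (Subgroup.mem_inf.1 x.2).1]
    · rw [conj_mul, conj_mul, mem_cz.1 (Subgroup.mem_inf.1 x.2).2]
  have hmem : ∀ q : ↥P × ↥(Subgroup.zpowers y), (q.1 : G) * q.2 ∈ C' := fun q => by
    obtain ⟨k, hk⟩ := q.2.2
    have hqv : Commute (q.1 : G) v := by
      have := h.split.P_sq _ (mul_mem q.1.2 hv)
      show (q.1 : G) * v = v * q.1
      rw [← inv_eq_of_mul_eq_one_right this, mul_inv_rev, inv_eq_of_mul_eq_one_right (h.split.P_sq _ hv),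
        inv_eq_of_mul_eq_one_right (h.split.P_sq _ q.1.2)]
    have hqy : Commute (q.1 : G) y := h.split.comm _ q.1.2 y hyB
    exact Subgroup.mem_inf.2 ⟨mem_cz.2 (hqv.mul_left (hk ▸ hvy.symm.zpow_left k)).eq,
      mem_cz.2 (hqy.mul_left (hk ▸ (Commute.refl y).zpow_left k)).eq⟩
  have hinj : Function.Injective (fun q : ↥P × ↥(Subgroup.zpowers y) => (⟨_, hmem q⟩ : ↥C')) := by
    rintro ⟨a, b⟩ ⟨a', b'⟩ e
    obtain ⟨e1, e2⟩ := h.dec_unique a.2 (Subgroup.zpowers_le.2 hyB b.2) a'.2 (Subgroup.zpowers_le.2 hyB b'.2)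
      (congrArg Subtype.val e)
    exact Prod.ext (Subtype.ext e1) (Subtype.ext e2)
  have hcard : Nat.card (↥P × ↥(Subgroup.zpowers y)) = Nat.card C' := by
    have := Nat.card_le_card_of_injective _ hinj
    rw [Nat.card_prod, h.split.card_P, Nat.card_zpowers, hy] at this ⊢
    omega
  obtain ⟨⟨a, ⟨b, i, hi⟩⟩, hq⟩ := ((Nat.bijective_iff_injective_and_card _).2 ⟨hinj, hcard⟩).2
    ⟨c, Subgroup.mem_inf.2 ⟨mem_cz.2 hcv, mem_cz.2 hcy⟩⟩
  exact ⟨a, a.2, i, by rw [show y ^ i = b from hi]; exact (congrArg Subtype.val hq).symm⟩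

/-- The centraliser of an element of order three or five of `B`. -/
theorem odd_centraliser (h : JData z t Q K P B) {y : G} {p : ℕ} (hp : p = 3 ∨ p = 5) (hyB : y ∈ B)
    (hy : orderOf y = p) :
    (∀ v, v * v = 1 → v ≠ 1 → v * y = y * v → IsConj t v) ∧
    (((Nat.card (Subgroup.centralizer ({y} : Set G)) = 4 * p ∨
        Nat.card (Subgroup.centralizer ({y} : Set G)) = 12 * p) ∧
        ∀ c ∈ Subgroup.centralizer ({y} : Set G), ∀ v ∈ P, c * v * c⁻¹ ∈ P) ∨
      (Nat.card (Subgroup.centralizer ({y} : Set G)) = 60 * p ∧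
        ∃ π : ↥(Subgroup.centralizer ({y} : Set G)) →* alternatingGroup (Fin 5), Function.Surjective π ∧
          ∀ c, π c = 1 ↔ (c : G) ∈ Subgroup.zpowers y)) := by
  classical
  haveI : Fact (Nat.Prime 2) := ⟨Nat.prime_two⟩
  have hPy : ∀ v ∈ P, v ∈ Subgroup.centralizer ({y} : Set G) := fun v hv => mem_cz.2 (h.split.comm v hv y hyB)
  have hyC : y ∈ Subgroup.centralizer ({y} : Set G) := mem_cz.2 rfl
  have hcy : ∀ c ∈ Subgroup.centralizer ({y} : Set G), c * y = y * c := fun c hc => mem_cz.1 hc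
  generalize hC : Subgroup.centralizer ({y} : Set G) = C at *
  let N : Subgroup ↥C := (Subgroup.zpowers y).subgroupOf C
  have hNy : Subgroup.zpowers y ≤ C := Subgroup.zpowers_le.2 hyC
  haveI : N.Normal := ⟨fun x hx c => by
    obtain ⟨i, hi⟩ := hx
    have hci : Commute (c : G) (y ^ i) := Commute.zpow_right (hcy c c.2) i
    have : c * x * c⁻¹ = x := Subtype.ext (by
      simp only [Subgroup.coe_mul, Subgroup.coe_inv]
      rw [show (x : G) = y ^ i from hi.symm, hci.eq, mul_inv_cancel_right])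
    rw [this]
    exact ⟨i, hi⟩⟩
  have hodd : ∀ n ∈ Subgroup.zpowers y, n * n = 1 → n = 1 := fun n hn hnn => by
    have h2 : orderOf n ∣ 2 := orderOf_dvd_of_pow_eq_one (by rw [pow_two, hnn])
    have h3 : orderOf n ∣ p := by rw [← hy, ← Nat.card_zpowers y]; exact Subgroup.orderOf_dvd_natCard _ hn
    exact orderOf_eq_one_iff.1 (Nat.eq_one_of_dvd_coprimes
      (show Nat.Coprime 2 p by rcases hp with rfl | rfl <;> norm_num) h2 h3)
  -- an involution is determined by its image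
  have huniq : ∀ v w : ↥C, v * v = 1 → w * w = 1 → (QuotientGroup.mk v : ↥C ⧸ N) = QuotientGroup.mk w → v = w := by
    intro v w hv hw e
    have hn : v⁻¹ * w ∈ N := QuotientGroup.eq.1 e
    obtain ⟨i, hi⟩ := hn
    have hi' : y ^ i = (v : G)⁻¹ * w := hi
    have hvn : Commute (v : G) (y ^ i) := Commute.zpow_right (hcy v v.2) i
    have hw' : (w : G) = v * y ^ i := by rw [hi', mul_inv_cancel_left]
    have h1 : (w : G) * w = 1 := congrArg Subtype.val hw
    rw [hw', hvn.symm.mul_mul_mul_comm, show (v : G) * v = 1 from congrArg Subtype.val hv, one_mul] at h1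
    have h1' : y ^ i = 1 := hodd _ ⟨i, rfl⟩ h1
    rw [h1', mul_one] at hw'
    exact Subtype.ext hw'.symm
  let f : ↥P →* ↥C ⧸ N := (QuotientGroup.mk' N).comp
    { toFun := fun v => (⟨v, hPy v v.2⟩ : ↥C), map_one' := rfl, map_mul' := fun _ _ => rfl }
  have hfinj : Function.Injective f := fun v w e => by
    have := huniq ⟨v, hPy v v.2⟩ ⟨w, hPy w w.2⟩ (Subtype.ext (h.split.P_sq _ v.2)) (Subtype.ext (h.split.P_sq _ w.2)) e
    exact Subtype.ext (congrArg (fun a : ↥C => (a : G)) this :)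
  have hV : Nat.card f.range = 4 := by
    rw [← Nat.card_congr (MonoidHom.ofInjective hfinj).toEquiv, h.split.card_P]
  have hcardC : Nat.card C = p * Nat.card (↥C ⧸ N) := by
    rw [← hy, ← Nat.card_zpowers, ← Nat.card_congr (Subgroup.subgroupOfEquivOfLe hNy).toEquiv,
      ← Subgroup.index_eq_card, Subgroup.card_mul_index]
  have hfour := four_cases (H := ↥C ⧸ N) hV (by
      rintro _ ⟨v, rfl⟩
      rw [← map_mul, show v * v = 1 from Subtype.ext (h.split.P_sq _ v.2), map_one])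
    (by
      rintro _ ⟨v, rfl⟩ hv1 c hc
      induction c using QuotientGroup.induction_on with
      | H c =>
        have hv1' : (v : G) ≠ 1 := fun e => hv1 (by rw [show v = 1 from Subtype.ext e, map_one])
        let v' : ↥C := ⟨v, hPy v v.2⟩
        have hvv : v' * v' = 1 := Subtype.ext (h.split.P_sq _ v.2)
        have e1 : (QuotientGroup.mk (c * v' * c⁻¹) : ↥C ⧸ N) = QuotientGroup.mk v' := by
          rw [QuotientGroup.mk_mul, QuotientGroup.mk_mul, QuotientGroup.mk_inv]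
          exact mul_inv_eq_iff_eq_mul.2 hc
        have e2 := huniq _ _ (by rw [conj_mul, hvv, mul_one, mul_inv_cancel]) hvv e1
        have e3 : (c : G) * v * (c : G)⁻¹ = v := congrArg Subtype.val e2
        obtain ⟨a, ha, i, hi⟩ := h.cent_P hp hyB hy v.2 hv1' (mul_inv_eq_iff_eq_mul.1 e3) (hcy c c.2)
        refine ⟨⟨a, ha⟩, (QuotientGroup.eq.2 ?_ : (QuotientGroup.mk (⟨a, hPy a ha⟩ : ↥C) : ↥C ⧸ N) = _)⟩
        exact ⟨i, by simp [hi]⟩)
  have hlift : ∀ v : ↥C, v * v = 1 → v ≠ 1 → ∀ w ∈ f.range, ∀ d : ↥C,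
      (QuotientGroup.mk d : ↥C ⧸ N) * w * (QuotientGroup.mk d)⁻¹ = QuotientGroup.mk v →
      ∃ a : ↥P, (a : G) ≠ 1 ∧ (d : G) * a * (d : G)⁻¹ = v := by
    rintro v hv hv1 w ⟨a, rfl⟩ d e
    have e' := huniq (d * ⟨a, hPy a a.2⟩ * d⁻¹) v (by
      rw [conj_mul, show (⟨(a : G), hPy a a.2⟩ : ↥C) * ⟨a, hPy a a.2⟩ = 1 from Subtype.ext (h.split.P_sq _ a.2),
        mul_one, mul_inv_cancel]) hv (by rw [← e, QuotientGroup.mk_mul, QuotientGroup.mk_mul, QuotientGroup.mk_inv]; rfl)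
    have e'' : (d : G) * a * (d : G)⁻¹ = v := congrArg Subtype.val e'
    exact ⟨a, fun ha => hv1 (Subtype.ext (by rw [← e'', ha, mul_one, mul_inv_cancel]; rfl)), e''⟩
  have hinv : ∀ v : ↥C, v * v = 1 → v ≠ 1 → IsConj t (v : G) := by
    intro v hv hv1
    have hv2 : (QuotientGroup.mk v : ↥C ⧸ N) * QuotientGroup.mk v = 1 := by
      rw [← QuotientGroup.mk_mul, hv, QuotientGroup.mk_one]
    obtain ⟨w, hw, d, hd⟩ : ∃ w ∈ f.range, ∃ d : ↥C,
        (QuotientGroup.mk d : ↥C ⧸ N) * w * (QuotientGroup.mk d)⁻¹ = QuotientGroup.mk v := by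
      rcases hfour with ⟨hn, hc⟩ | ⟨-, ⟨e⟩⟩
      · refine ⟨QuotientGroup.mk v, ?_, 1, by simp⟩
        haveI := hn
        have hi : f.range.index = 1 ∨ f.range.index = 3 := by
          have := f.range.card_mul_index
          rw [hV] at this
          omega
        have hm := Subgroup.pow_index_mem f.range (QuotientGroup.mk v : ↥C ⧸ N)
        rcases hi with hi | hi <;> rw [hi] at hm
        · rwa [pow_one] at hm
        · rwa [pow_succ, pow_two, hv2, one_mul] at hm
      · have hne : (QuotientGroup.mk v : ↥C ⧸ N) ≠ 1 := fun e' => hv1 (huniq v 1 hv (one_mul 1) e')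
        haveI : Nontrivial f.range := Finite.one_lt_card_iff_nontrivial.1 (by omega)
        obtain ⟨⟨w, hw⟩, hw1⟩ := exists_ne (1 : f.range)
        have hww : w * w = 1 := by
          obtain ⟨a, rfl⟩ := hw
          rw [← map_mul, show a * a = 1 from Subtype.ext (h.split.P_sq _ a.2), map_one]
        obtain ⟨d, hd⟩ := alt5_conj e (orderOf_eq_two hww fun e' => hw1 (Subtype.ext e'))
          (orderOf_eq_two hv2 hne)
        induction d using QuotientGroup.induction_on with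
        | H d => exact ⟨w, hw, d, hd⟩
    obtain ⟨a, ha1, ha⟩ := hlift v hv hv1 w hw d hd
    exact (h.conj_t_of_P a.2 ha1).trans (isConj_iff.2 ⟨d, ha⟩)
  refine ⟨fun v hv hv1 hvy => hinv ⟨v, ?_⟩ (Subtype.ext hv) (fun e => hv1 (congrArg Subtype.val e)), ?_⟩
  · rw [← hC]; exact mem_cz.2 hvy
  rcases hfour with ⟨hn, hc⟩ | ⟨hc, ⟨e⟩⟩
  · refine Or.inl ⟨by rcases hc with hc | hc <;> rw [hcardC, hc] <;> omega, fun c hcC v hv => ?_⟩
    have hm := hn.conj_mem _ ⟨⟨v, hv⟩, rfl⟩ (QuotientGroup.mk (⟨c, hcC⟩ : ↥C))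
    obtain ⟨a, ha⟩ := hm
    by_cases hv1 : v = 1
    · rw [hv1, mul_one, mul_inv_cancel]; exact one_mem P
    have hvv : (⟨v, hPy v hv⟩ : ↥C) * ⟨v, hPy v hv⟩ = 1 := Subtype.ext (h.split.P_sq _ hv)
    have e' := huniq (⟨c, hcC⟩ * ⟨v, hPy v hv⟩ * ⟨c, hcC⟩⁻¹) ⟨a, hPy a a.2⟩
      (by rw [conj_mul, hvv, mul_one, mul_inv_cancel]) (Subtype.ext (h.split.P_sq _ a.2))
      (by rw [QuotientGroup.mk_mul, QuotientGroup.mk_mul, QuotientGroup.mk_inv]; exact ha.symm)
    rw [show c * v * c⁻¹ = a from congrArg Subtype.val e']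
    exact a.2
  · refine Or.inr ⟨by rw [hcardC, hc]; omega, e.toMonoidHom.comp (QuotientGroup.mk' N),
      e.surjective.comp (QuotientGroup.mk'_surjective N), fun c => ?_⟩
    exact (map_eq_one_iff _ e.injective).trans (QuotientGroup.eq_one_iff c)

end JData

end CfsgLib.Characterizations.HallJanko
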