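import Cfsg.Agent.Lib.Characterizations.HallJanko.Split
import Cfsg.Agent.Lib.Involution.OrderFormula

/-!
# The order of a group of Hall–Janko type
-/

set_option autoImplicit false
set_option linter.style.haveILetI false
set_option linter.unusedSectionVars false

namespace CfsgLib.Characterizations.HallJanko

open CfsgLib.Characterizations.HallJankoCount
open CfsgLib.Involution.Dihedral
open CfsgLib.Involution.OrderFormula (Pairs)

variable {G : Type*} [Group G] [Finite G] {z t : G} {Q K P B : Subgroup G}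

/-- Everything known about the involution centralisers of a group of Hall–Janko type. -/
structure JData (z t : G) (Q K P B : Subgroup G) : Prop where
  m : Marked z t Q K
  split : Split z t P B
  altB : Nonempty (↥B ≃* alternatingGroup (Fin 5))
  card : Nat.card G = 604800

theorem half_mem {x u v : G} (hu : orderOf u = 2) (hv : orderOf v = 2) (hx : orderOf x = 2) {m : ℕ}
    (hm : (u * v) ^ m = x) (he : Even (orderOf (u * v))) :
    u ∈ Subgroup.centralizer ({x} : Set G) ∧ v ∈ Subgroup.centralizer ({x} : Set G) := by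
  rw [← CfsgLib.Involution.OrderFormula.eq_half hx hm]
  exact ⟨mem_cz.2 (half_commute_left hu hv he).eq.symm, mem_cz.2 (half_commute_right hu hv he).eq.symm⟩

theorem Marked.even_of_classes (h : Marked z t Q K) {u v : G} (hu : IsConj z u) (hv : IsConj t v) :
    Even (orderOf (u * v)) :=
  even_of_not_isConj (by rw [orderOf_of_isConj hu, h.hj.hz]) (by rw [orderOf_of_isConj hv, h.ht]) fun e =>
    h.not_isConj ((hu.trans e).trans hv.symm)

/-- The pairs with a power equal to `z`. -/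
theorem Marked.card_pairs_z (h : Marked z t Q K) : Nat.card (Pairs z t z) = 960 := by
  classical
  obtain ⟨h120, h8⟩ := HallJankoCount.main h.hj.setting
  let S := Σ v : outer Q K, moved Q (v : G)
  let f : S → Pairs z t z := fun s => ⟨((s.2 : G), (s.1 : G)),
    h.hj.conj_z_of_mem s.2.2.1 s.2.2.2.1, h.conj_t_of_not_mem (h.hj.mem_outer.1 s.1.2).1 (h.hj.mem_outer.1 s.1.2).2.1
      (orderOf_eq_two (h.hj.mem_outer.1 s.1.2).2.2 fun e => (h.hj.mem_outer.1 s.1.2).2.1 (by simp only at e; rw [e]; exact one_mem Q)),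
    4, (h8 _ s.1.2).2 _ s.2.2⟩
  have hf : Function.Bijective f := by
    constructor
    · rintro ⟨⟨v, hv⟩, ⟨u, hu⟩⟩ ⟨⟨v', hv'⟩, ⟨u', hu'⟩⟩ e
      have e' : ((u, v) : G × G) = (u', v') := congrArg Subtype.val e
      simp only [Prod.mk.injEq] at e'
      obtain ⟨rfl, rfl⟩ := e'
      rfl
    · rintro ⟨⟨u, v⟩, hu, hv, m, hm⟩
      have hu2 : orderOf u = 2 := by rw [orderOf_of_isConj hu, h.hj.hz]
      have hv2 : orderOf v = 2 := by rw [orderOf_of_isConj hv, h.ht]
      obtain ⟨huC, hvC⟩ := half_mem hu2 hv2 h.hj.hz hm (h.even_of_classes hu hv)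
      have huQ : u ∈ Q := h.mem_Q_of_conj huC hu
      have hvQ : v ∉ Q := fun hQ => h.not_isConj ((h.hj.conj_z_of_mem hQ hv2).trans hv.symm)
      have hvout : v ∈ outer Q K := h.hj.mem_outer.2 ⟨hvC, hvQ, mul_self hv2⟩
      have hmv : u ∈ moved Q v := by
        refine ⟨huQ, hu2, fun hc => hvQ ?_⟩
        have h2 : (u * v) * (u * v) = 1 := by
          rw [Commute.mul_mul_mul_comm hc.symm, mul_self hu2, mul_self hv2, one_mul]
        rcases Nat.even_or_odd m with ⟨i, rfl⟩ | ⟨i, rfl⟩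
        · rw [← two_mul, pow_mul, pow_two, h2, one_pow] at hm
          exact absurd hm.symm (ne_one h.hj.hz)
        · rw [pow_add, pow_mul, pow_two, h2, one_pow, one_mul, pow_one] at hm
          rw [show v = u * (u * v) by rw [← mul_assoc, mul_self hu2, one_mul], hm]
          exact mul_mem huQ h.hj.setting.extra.z_mem
      exact ⟨⟨⟨v, hvout⟩, ⟨u, hmv⟩⟩, rfl⟩
  rw [← Nat.card_eq_of_bijective f hf]
  haveI := Fintype.ofFinite (outer Q K)
  rw [Nat.card_sigma, Finset.sum_congr rfl (fun (v : outer Q K) _ =>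
      (Nat.card_coe_set_eq (moved Q (v : G))).trans (h8 v.1 v.2).1),
    Finset.sum_const, smul_eq_mul, Finset.card_univ, ← Nat.card_eq_fintype_card, Nat.card_coe_set_eq, h120]

/-- Pairs in a subgroup of an involution and an element of square one whose product has odd order. -/
def OddPairs (B : Subgroup G) : Set (↥B × ↥B) :=
  {p | (orderOf p.1 = 2 ∧ p.2 * p.2 = 1) ∧ ∃ m : ℕ, Odd m ∧ (p.1 * p.2) ^ m = 1}

/-- The pairs with a power equal to `t`. -/
theorem Marked.card_pairs_t (h : Marked z t Q K) (hs : Split z t P B) :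
    Nat.card (Pairs z t t) = Nat.card (OddPairs B) := by
  classical
  have htB : t ∉ B := fun hB => ne_one h.ht (by
    have : t ∈ P ⊓ B := Subgroup.mem_inf.2 ⟨hs.tP, hB⟩
    rwa [hs.disj, Subgroup.mem_bot] at this)
  have hcb : ∀ b ∈ B, Commute t b := fun b hb => hs.comm t hs.tP b hb
  have htt : t * t = 1 := h.t_sq
  have hW' : ∀ w : OddPairs B, (IsConj z ((w.1.1 : ↥B) : G) ∧ IsConj t (t * ((w.1.2 : ↥B) : G)) ∧
      ∃ m : ℕ, (((w.1.1 : ↥B) : G) * (t * ((w.1.2 : ↥B) : G))) ^ m = t) := by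
    rintro ⟨⟨u, b⟩, ⟨hu, hb⟩, m, hm, hp⟩
    have hu' : orderOf (u : G) = 2 := by rw [Subgroup.orderOf_coe, hu]
    have htb : t * (b : G) ∉ B := fun hB => htB (by simpa using mul_mem hB (inv_mem b.2))
    have hsq : t * (b : G) * (t * b) = 1 := by
      rw [Commute.mul_mul_mul_comm (hcb b b.2).symm, htt, one_mul, ← Subgroup.coe_mul, hb, Subgroup.coe_one]
    refine ⟨hs.Bz _ u.2 hu', hs.Ct _ (mul_mem (mem_cz.2 rfl) (hs.B_le b.2))
      (orderOf_eq_two hsq fun e => htb (by rw [e]; exact one_mem _)) htb, m, ?_⟩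
    have e : ((u : G) * (t * (b : G))) = t * ((u * b : ↥B) : G) := by
      rw [Subgroup.coe_mul, ← mul_assoc, ← (hcb u u.2).eq, mul_assoc]
    obtain ⟨i, rfl⟩ := hm
    rw [e, (hcb _ (u * b).2).mul_pow, ← Subgroup.coe_pow, hp, Subgroup.coe_one, mul_one,
      pow_add, pow_mul, pow_two, htt, one_pow, one_mul, pow_one]
  let f : OddPairs B → Pairs z t t := fun w => ⟨(_, _), hW' w⟩
  refine (Nat.card_eq_of_bijective f ⟨?_, ?_⟩).symm
  · rintro ⟨⟨u, b⟩, hw⟩ ⟨⟨u', b'⟩, hw'⟩ e
    have e' : (((u : G), t * (b : G)) : G × G) = ((u' : G), t * (b' : G)) := congrArg Subtype.val e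
    simp only [Prod.mk.injEq, mul_right_inj, Subtype.val_inj] at e'
    obtain ⟨rfl, rfl⟩ := e'
    rfl
  · rintro ⟨⟨u, v⟩, hu, hv, m, hm⟩
    have hu2 : orderOf u = 2 := by rw [orderOf_of_isConj hu, h.hj.hz]
    have hv2 : orderOf v = 2 := by rw [orderOf_of_isConj hv, h.ht]
    obtain ⟨huC, hvC⟩ := half_mem hu2 hv2 h.ht hm (h.even_of_classes hu hv)
    have huB : u ∈ B := by
      by_contra hB
      exact h.not_isConj (hu.trans (hs.Ct u huC hu2 hB).symm)
    have hnB : B ≤ Subgroup.normalizer (P : Set G) := fun b hb =>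
      CfsgLib.ThompsonWielandt.mem_normalizer_of_forall fun p hp => by
        rw [← hs.comm p hp b hb, mul_inv_cancel_right]; exact hp
    have hmem : v ∈ ((P ⊔ B : Subgroup G) : Set G) := by rw [hs.sup]; exact hvC
    rw [Subgroup.coe_mul_of_right_le_normalizer_left P B hnB] at hmem
    obtain ⟨a, ha, b, hb, rfl⟩ := hmem
    have hab : Commute a b := hs.comm a ha b hb
    have ha2 : a * a = 1 := hs.P_sq a ha
    have hb2 : b * b = 1 := by
      have := mul_self hv2
      rwa [Commute.mul_mul_mul_comm hab.symm, ha2, one_mul] at this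
    have hw : u * (a * b) = a * (u * b) := by
      rw [← mul_assoc, ← (show Commute a u from hs.comm a ha u huB).eq, mul_assoc]
    simp only at hm
    rw [hw, Commute.mul_pow (hs.comm a ha _ (mul_mem huB hb))] at hm
    have hmem : a⁻¹ ^ m * t ∈ P ⊓ B := Subgroup.mem_inf.2 ⟨mul_mem (pow_mem (inv_mem ha) m) hs.tP, by
      rw [← hm, inv_pow, inv_mul_cancel_left]; exact pow_mem (mul_mem huB hb) m⟩
    rw [hs.disj, Subgroup.mem_bot, inv_pow, inv_mul_eq_one] at hmem
    rw [hmem, mul_eq_left] at hm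
    have hodd : Odd m := by
      rcases Nat.even_or_odd m with ⟨i, rfl⟩ | hodd
      · exfalso
        rw [← two_mul, pow_mul, pow_two, ha2, one_pow] at hmem
        exact ne_one h.ht hmem.symm
      · exact hodd
    have hat : a = t := by
      obtain ⟨i, rfl⟩ := hodd
      rw [← hmem, pow_add, pow_mul, pow_two, ha2, one_pow, one_mul, pow_one]
    refine ⟨⟨(⟨u, huB⟩, ⟨b, hb⟩), ⟨by rw [← Subgroup.orderOf_coe]; exact hu2, Subtype.ext hb2⟩, m, hodd,
      Subtype.ext (by rw [Subgroup.coe_pow, Subgroup.coe_one]; exact hm)⟩, Subtype.ext (Prod.ext rfl ?_)⟩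
    show t * b = a * b
    rw [hat]

theorem card_oddPairs_alt5 (eB : ↥B ≃* alternatingGroup (Fin 5)) : Nat.card (OddPairs B) = 195 := by
  classical
  rw [← CfsgLib.Characterizations.HallJankoPerm.card_odd_pairs, ← Nat.card_eq_finsetCard]
  refine Nat.card_congr (Equiv.ofBijective (fun w => ⟨(toPerm eB w.1.1, toPerm eB w.1.2), ?_⟩)
    ⟨fun w w' e => ?_, fun σ => ?_⟩)
  · simp only [Finset.mem_filter, Finset.mem_product, Finset.mem_univ, true_and, sign_toPerm, ← map_mul, ← map_pow]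
    refine ⟨⟨⟨by rw [mul_self w.2.1.1, map_one], toPerm_ne_one eB (ne_one w.2.1.1)⟩,
      by rw [w.2.1.2, map_one]⟩, ?_⟩
    obtain ⟨m, ⟨i, rfl⟩, hm⟩ := w.2.2
    rcases CfsgLib.Characterizations.HallJankoPerm.pow_thirty _ (sign_toPerm eB (w.1.1 * w.1.2)) with e | e | e <;>
      rw [← map_pow] at e
    · left
      have e' := toPerm_injective eB (e.trans (map_one _).symm)
      rw [pow_add, pow_mul, e', one_pow, one_mul, pow_one] at hm
      rw [hm, one_pow, map_one]
    · exact Or.inl e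
    · exact Or.inr e
  · have e' := congrArg Subtype.val e
    simp only [Prod.mk.injEq] at e'
    exact Subtype.ext (Prod.ext (toPerm_injective eB e'.1) (toPerm_injective eB e'.2))
  · obtain ⟨⟨σ, τ⟩, hστ⟩ := σ
    simp only [Finset.mem_filter, Finset.mem_product, Finset.mem_univ, true_and] at hστ
    obtain ⟨⟨⟨hσs, hσ2, hσ1⟩, hτs, hτ2⟩, hp⟩ := hστ
    obtain ⟨u, hu⟩ := exists_toPerm eB hσs
    obtain ⟨b, hb⟩ := exists_toPerm eB hτs
    refine ⟨⟨(u, b), ⟨orderOf_eq_two (toPerm_injective eB (by rw [map_mul, hu, hσ2, map_one]))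
      fun e => hσ1 (by rw [← hu, show u = 1 from e, map_one]), toPerm_injective eB (by rw [map_mul, hb, hτ2, map_one])⟩, ?_⟩, ?_⟩
    · rcases hp with e | e
      · exact ⟨3, by decide, toPerm_injective eB (by rw [map_pow, map_mul, hu, hb, e, map_one])⟩
      · exact ⟨5, by decide, toPerm_injective eB (by rw [map_pow, map_mul, hu, hb, e, map_one])⟩
    · exact Subtype.ext (Prod.ext hu hb)

theorem Marked.card_oddPairs_12 (h : Marked z t Q K) (hs : Split z t P B) (h12 : Nat.card B = 12)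
    (hW : ∀ x ∈ B, x * x = 1 → x ∈ wGrp t Q) (hWB : ∀ x ∈ wGrp t Q, x ∈ B) : Nat.card (OddPairs B) = 3 := by
  have hset : OddPairs B = (fun u : ↥B => (u, u)) '' {u : ↥B | (u : G) ∈ wGrp t Q ∧ u ≠ 1} := by
    ext ⟨u, b⟩
    constructor
    · rintro ⟨⟨hu, hb⟩, m, ⟨i, rfl⟩, hm⟩
      have huW : (u : G) ∈ wGrp t Q := hW _ u.2 (congrArg Subtype.val (mul_self hu))
      have hbW : (b : G) ∈ wGrp t Q := hW _ b.2 (congrArg Subtype.val hb)
      have h2 : (u * b) * (u * b) = 1 := Subtype.ext (h.W_sq (mul_mem huW hbW))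
      rw [pow_add, pow_mul, pow_two, h2, one_pow, one_mul, pow_one] at hm
      refine ⟨u, ⟨huW, ne_one hu⟩, ?_⟩
      simp only [Prod.mk.injEq, true_and]
      exact (inv_eq hu).symm.trans (inv_eq_of_mul_eq_one_right hm)
    · rintro ⟨v, ⟨hv, hv1⟩, e⟩
      simp only [Prod.mk.injEq] at e
      obtain ⟨rfl, rfl⟩ := e
      have hvv : v * v = 1 := Subtype.ext (h.W_sq hv)
      exact ⟨⟨orderOf_eq_two hvv hv1, hvv⟩, 1, odd_one, by rw [pow_one, hvv]⟩
  have hinj : Function.Injective (fun u : ↥B => (u, u)) := fun a b e => congrArg Prod.fst e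
  rw [hset, Nat.card_coe_set_eq, Set.ncard_image_of_injective _ hinj]
  have hset' : {u : ↥B | (u : G) ∈ wGrp t Q ∧ u ≠ 1} = (((wGrp t Q).subgroupOf B : Subgroup ↥B) : Set ↥B) \ {1} := rfl
  rw [hset', Set.ncard_sdiff_singleton_of_mem (one_mem _), ← Nat.card_coe_set_eq, SetLike.coe_sort_coe,
    Nat.card_congr (Subgroup.subgroupOfEquivOfLe hWB).toEquiv, h.card_W]

/-- The second possibility for the order does not occur. -/
theorem Marked.order_ne (h : Marked z t Q K) : Nat.card G ≠ 51840 := by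
  classical
  intro hG
  haveI := Fintype.ofFinite G
  haveI : Fact (Nat.Prime 5) := ⟨by norm_num⟩
  have hS := h.hj.setting
  have hcl : ({x : G | IsConj z x} : Finset G).card = 27 := by
    have := CfsgLib.Involution.Count.card_eq_class_mul z
    rw [hG, h.hj.card_C] at this
    omega
  set C := Subgroup.centralizer ({z} : Set G) with hC
  let N : Set G := {x | IsConj z x ∧ x ∉ C}
  have hN : N.ncard = 16 := by
    have he : {x : G | IsConj z x} = N ∪ insert z (invs Q z) := by
      ext x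
      constructor
      · intro hx
        by_cases hxC : x ∈ C
        · right
          by_cases hxz : x = z
          · exact Or.inl hxz
          · have ho : orderOf x = 2 := by rw [orderOf_of_isConj hx, h.hj.hz]
            exact Or.inr ⟨h.mem_Q_of_conj hxC hx, mul_self ho, ne_one ho, hxz⟩
        · exact Or.inl ⟨hx, hxC⟩
      · rintro (hx | rfl | hx)
        · exact hx.1
        · exact IsConj.refl x
        · exact h.hj.conj_z_of_mem hx.1 (orderOf_eq_two hx.2.1 hx.2.2.1)
    have h1 : ({x : G | IsConj z x} : Set G).ncard = 27 := by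
      rw [← hcl, ← Set.ncard_coe_finset]; simp only [Finset.coe_filter, Finset.mem_univ, true_and]
    rw [he, Set.ncard_union_eq, Set.ncard_insert_of_notMem, card_invs hS.pre] at h1
    · omega
    · exact fun hz' => hz'.2.2.2 rfl
    · rw [Set.disjoint_left]
      rintro x hx (rfl | hx')
      · exact hx.2 (mem_cz.2 rfl)
      · exact hx.2 (h.hj.Q_le hx'.1)
  have hinv : ∀ c ∈ C, ∀ x ∈ N, c * x * c⁻¹ ∈ N := fun c hc x hx =>
    ⟨hx.1.trans (isConj_iff.2 ⟨c, rfl⟩), fun hm => hx.2 (by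
      have := mul_mem (mul_mem (inv_mem hc) hm) hc
      rwa [show c⁻¹ * (c * x * c⁻¹) * c = x by group] at this)⟩
  obtain ⟨g, hgK, hg⟩ := hS.pre.has_five
  obtain ⟨x, hxN, hxg⟩ : ∃ x ∈ N, g * x * g⁻¹ = x := by
    have hsub : ∀ a : Subgroup.zpowers g, (a : G) ∈ C := fun a =>
      (Subgroup.zpowers_le.2 (h.hj.K_le hgK)) a.2
    letI : MulAction (Subgroup.zpowers g) N :=
      { smul := fun a y => ⟨(a : G) * y * (a : G)⁻¹, hinv _ (hsub a) y y.2⟩
        one_smul := fun y => Subtype.ext (show ((1 : Subgroup.zpowers g) : G) * y * _ = _ by simp)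
        mul_smul := fun a a' y => Subtype.ext (show ((a * a' : Subgroup.zpowers g) : G) * y * _ = _ by
          show _ = (a : G) * ((a' : G) * y * (a' : G)⁻¹) * (a : G)⁻¹
          simp [mul_assoc]) }
    have hp : IsPGroup 5 (Subgroup.zpowers g) := IsPGroup.of_card (n := 1) (by rw [Nat.card_zpowers, hg, pow_one])
    obtain ⟨⟨y, hy⟩, hy'⟩ := hp.nonempty_fixed_point_of_prime_not_dvd_card N (by
      rw [Nat.card_coe_set_eq, hN]; decide)
    exact ⟨y, hy, congrArg Subtype.val (hy' ⟨g, Subgroup.mem_zpowers g⟩)⟩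
  -- the stabiliser meets `Q` trivially
  let A : Subgroup G := Q ⊓ Subgroup.centralizer ({x} : Set G)
  have hzA : z ∉ A := fun hz' => hxN.2 (mem_cz.2 (mem_cz.1 (Subgroup.mem_inf.1 hz').2).symm)
  have hzn : Subgroup.zpowers z ≤ Subgroup.normalizer (A : Set G) := Subgroup.zpowers_le.2
    (CfsgLib.ThompsonWielandt.mem_normalizer_of_forall fun a ha => by
      rw [hS.extra.z_comm (Subgroup.mem_inf.1 ha).1, mul_inv_cancel_right]; exact ha)
  have hAz : A ⊓ Subgroup.zpowers z = ⊥ := (Subgroup.eq_bot_iff_forall _).2 fun a ha => by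
    rcases (CfsgLib.ThreeTransp.Extraspecial.mem_zpowers_involution hS.extra.z_sq).1 (Subgroup.mem_inf.1 ha).2
      with e | e
    · exact e
    · exact absurd (e ▸ (Subgroup.mem_inf.1 ha).1) hzA
  have hga : ∀ a ∈ A, g * a * g⁻¹ ∈ A := fun a ha => Subgroup.mem_inf.2
    ⟨hS.norm g hgK a (Subgroup.mem_inf.1 ha).1, mem_cz.2 (by
      conv_lhs => rw [← hxg]
      conv_rhs => rw [← hxg]
      rw [conj_mul, conj_mul, mem_cz.1 (Subgroup.mem_inf.1 ha).2])⟩
  have hA : ∀ a ∈ A, a = 1 := by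
    have hinv' : ∀ a ∈ A ⊔ Subgroup.zpowers z, g * a * g⁻¹ ∈ A ⊔ Subgroup.zpowers z := by
      intro a ha
      have : (A ⊔ Subgroup.zpowers z).map (MulAut.conj g).toMonoidHom ≤ A ⊔ Subgroup.zpowers z := by
        rw [Subgroup.map_sup]
        refine sup_le_sup (by rintro _ ⟨y, hy, rfl⟩; exact hga y hy) ?_
        rw [MonoidHom.map_zpowers, Subgroup.zpowers_le]
        simp only [MulEquiv.coe_toMonoidHom, MulAut.conj_apply]
        rw [conj_z hS.pre hgK]
        exact Subgroup.mem_zpowers z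
      exact this ⟨a, ha, rfl⟩
    have hcard := CfsgLib.Fusion.Thompson.card_sup_mul_card_inf hzn
    rw [hAz, Subgroup.card_bot, mul_one, Nat.card_zpowers, h.hj.hz] at hcard
    rcases card_invariant hS.pre hgK hg (sup_le inf_le_left (Subgroup.zpowers_le.2 hS.extra.z_mem))
      (le_sup_right (a := A) (Subgroup.mem_zpowers z)) hinv' with e | e
    · rw [e] at hcard
      intro a ha
      have h1 : A = ⊥ := Subgroup.card_eq_one.1 (by omega)
      rwa [h1, Subgroup.mem_bot] at ha
    · exfalso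
      obtain ⟨w, hw⟩ : (invs Q z).Nonempty := Set.nonempty_of_ncard_ne_zero (by rw [card_invs hS.pre]; norm_num)
      obtain ⟨q, hq, hqw⟩ := hS.extra.exists_conj_eq hw.1 hw.2.2.1 hw.2.2.2
      have hd : ∀ y ∈ Q, ∃ a ∈ A, y = a ∨ y = a * z := by
        intro y hy
        have hm : y ∈ ((A ⊔ Subgroup.zpowers z : Subgroup G) : Set G) := by rw [show A ⊔ Subgroup.zpowers z = Q from e]; exact hy
        rw [Subgroup.coe_mul_of_right_le_normalizer_left A _ hzn] at hm
        obtain ⟨a, ha, b, hb, rfl⟩ := hm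
        rcases (CfsgLib.ThreeTransp.Extraspecial.mem_zpowers_involution hS.extra.z_sq).1 hb with rfl | rfl
        · exact ⟨a, ha, Or.inl (mul_one a)⟩
        · exact ⟨a, ha, Or.inr rfl⟩
      obtain ⟨a, ha, hqa⟩ := hd q hq
      obtain ⟨b, hb, hwb⟩ := hd w hw.1
      have haw : q * w * q⁻¹ = a * w * a⁻¹ := by
        rcases hqa with rfl | rfl
        · rfl
        · rw [show a * z * w * (a * z)⁻¹ = a * (z * w * z⁻¹) * a⁻¹ by group, hS.extra.z_comm hw.1,
            mul_inv_cancel_right]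
      have hm : a * b * a⁻¹ * b⁻¹ = z := by
        rw [haw] at hqw
        rcases hwb with rfl | rfl
        · rw [hqw, mul_assoc w z w⁻¹, hS.extra.z_comm (inv_mem (Subgroup.mem_inf.1 hb).1), ← mul_assoc,
            mul_inv_cancel, one_mul]
        · rw [show a * (b * z) * a⁻¹ = a * b * (z * a⁻¹) by group,
            hS.extra.z_comm (inv_mem (Subgroup.mem_inf.1 ha).1), ← mul_assoc] at hqw
          rw [mul_right_cancel hqw, mul_assoc b z b⁻¹, hS.extra.z_comm (inv_mem (Subgroup.mem_inf.1 hb).1),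
            ← mul_assoc, mul_inv_cancel, one_mul]
      exact hzA (hm ▸ mul_mem (mul_mem (mul_mem ha hb) (inv_mem ha)) (inv_mem hb))
  -- so its orbit is too long
  have hH : ({c : ↥C | (c : G) * x * (c : G)⁻¹ = x} : Set ↥C).ncard ≤ 60 := by
    obtain ⟨eK⟩ := hS.alt
    rw [← card_alt5 eK, ← Nat.card_coe_set_eq]
    choose q hq k hk hqk using fun c : ↥C => h.hj.dec c.2
    refine Nat.card_le_card_of_injective (fun c => (⟨k c.1, hk c.1⟩ : ↥K)) fun c c' e => ?_
    have e' : k c.1 = k c'.1 := congrArg Subtype.val e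
    have hm : (c.1 : G) * (c'.1 : G)⁻¹ ∈ A := by
      refine Subgroup.mem_inf.2 ⟨?_, mul_mem (mem_cz.2 (mul_inv_eq_iff_eq_mul.1 c.2))
        (inv_mem (mem_cz.2 (mul_inv_eq_iff_eq_mul.1 c'.2)))⟩
      rw [hqk c.1, hqk c'.1, e', mul_inv_rev, ← mul_assoc, mul_inv_cancel_right]
      exact mul_mem (hq c.1) (inv_mem (hq c'.1))
    exact Subtype.ext (Subtype.ext (mul_inv_eq_one.1 (hA _ hm)))
  haveI := Fintype.ofFinite ↥C
  let f : ↥C → G := fun c => (c : G) * x * (c : G)⁻¹
  have hfib : ∀ b ∈ Finset.univ.image f, (Finset.univ.filter fun c : ↥C => f c = b).card ≤ 60 := by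
    intro b hb
    obtain ⟨c₀, -, rfl⟩ := Finset.mem_image.1 hb
    refine le_trans ?_ hH
    rw [← Set.ncard_coe_finset]
    refine Set.ncard_le_ncard_of_injOn (fun c => c₀⁻¹ * c) (fun c hc => ?_) (fun a _ b _ e => mul_left_cancel e)
    have hc' : (c : G) * x * (c : G)⁻¹ = c₀ * x * (c₀ : G)⁻¹ := (Finset.mem_filter.1 hc).2
    show ((c₀⁻¹ * c : ↥C) : G) * x * ((c₀⁻¹ * c : ↥C) : G)⁻¹ = x
    simp only [Subgroup.coe_mul, Subgroup.coe_inv]
    rw [show (c₀ : G)⁻¹ * c * x * ((c₀ : G)⁻¹ * c)⁻¹ = (c₀ : G)⁻¹ * ((c : G) * x * (c : G)⁻¹) * c₀ by group, hc']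
    group
  have h1920 := Finset.card_le_mul_card_image Finset.univ 60 hfib
  rw [Finset.card_univ, ← Nat.card_eq_fintype_card, h.hj.card_C] at h1920
  have : (Finset.univ.image f).card ≤ 16 := by
    rw [← hN, ← Set.ncard_coe_finset]
    refine Set.ncard_le_ncard fun b hb => ?_
    obtain ⟨c, -, rfl⟩ := Finset.mem_image.1 (Finset.mem_coe.1 hb)
    exact hinv c c.2 x hxN
  omega

theorem HJ.exists_data (h : HJ z Q K) : ∃ t P B, JData z t Q K P B := by
  obtain ⟨t, hm⟩ := h.exists_marked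
  obtain ⟨P, B, hs, hB⟩ := hm.exists_split
  have hcard := CfsgLib.Involution.OrderFormula.card_eq z t hm.hj.hz hm.ht hm.not_isConj (fun x hx => hm.classes hx)
  rw [hm.card_pairs_z, hm.hj.card_C] at hcard
  have hD : Nat.card ↥(Subgroup.centralizer ({t} : Set G)) = 4 * Nat.card B := by
    have h1 := CfsgLib.Fusion.Thompson.card_sup_mul_card_inf (N := P) (K := B) fun b hb =>
      CfsgLib.ThompsonWielandt.mem_normalizer_of_forall fun p hp => by
        rw [← hs.comm p hp b hb, mul_inv_cancel_right]; exact hp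
    rwa [hs.disj, Subgroup.card_bot, mul_one, hs.card_P, hs.sup] at h1
  rcases hB with ⟨h12, hW⟩ | heB
  · exfalso
    have hWB : ∀ x ∈ wGrp t Q, x ∈ B := by
      intro x hx
      by_cases hx1 : x = 1
      · rw [hx1]; exact one_mem _
      · by_contra hxB
        exact hm.not_isConj ((hm.conj_z_of_W hx hx1).trans
          (hs.Ct x (Subgroup.mem_inf.1 hx).2 (orderOf_eq_two (hm.W_sq hx) hx1) hxB).symm)
    rw [hm.card_pairs_t hs, hm.card_oddPairs_12 hs h12 hW hWB, hD, h12] at hcard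
    exact hm.order_ne hcard
  · obtain ⟨eB⟩ := heB
    refine ⟨t, P, B, hm, hs, ⟨eB⟩, ?_⟩
    rw [hm.card_pairs_t hs, card_oddPairs_alt5 eB, hD, card_alt5 eB] at hcard
    exact hcard

end CfsgLib.Characterizations.HallJanko
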