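import Cfsg.Agent.Lib.Characterizations.HallJanko.Three

/-!
# The Sylow seven-subgroups of a group of Hall–Janko type
-/

set_option autoImplicit false
set_option linter.style.haveILetI false
set_option linter.unusedSectionVars false

namespace CfsgLib.Characterizations.HallJanko

open CfsgLib.Characterizations.HallJankoCount
open CfsgLib.Involution.Dihedral

variable {G : Type*} [Group G] [Finite G] {z t : G} {Q K P B : Subgroup G}

/-- If `y` commutes with an element of order seven then seven divides the order of the centraliser of any conjugate. -/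
theorem seven_dvd_cent {y w x : G} (hx : orderOf x = 7) (hc : x * y = y * x) (g : G)
    (hw : w ∈ Subgroup.zpowers (g * y * g⁻¹)) : 7 ∣ Nat.card (Subgroup.centralizer ({w} : Set G)) := by
  obtain ⟨j, rfl⟩ := hw
  have hc' : Commute (g * x * g⁻¹) (g * y * g⁻¹) := by
    show _ * _ = _ * _
    rw [conj_mul, conj_mul, hc]
  rw [← hx, ← CfsgLib.Involution.Dihedral.orderOf_conj g x]
  exact Subgroup.orderOf_dvd_natCard _ (mem_cz.2 (hc'.zpow_right j).eq)

namespace JData

/-- The Sylow seven-structure. -/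
theorem seven (h : JData z t Q K P B) [Fact (Nat.Prime 7)] (S : Sylow 7 G) :
    Subgroup.centralizer ((S : Subgroup G) : Set G) = S ∧
      Nat.card (Subgroup.normalizer ((S : Subgroup G) : Set G)) = 42 := by
  classical
  haveI : Fact (Nat.Prime 3) := ⟨by norm_num⟩
  haveI : Fact (Nat.Prime 5) := ⟨by norm_num⟩
  haveI : Fact (Nat.Prime 2) := ⟨Nat.prime_two⟩
  have hS7 : Nat.card (S : Subgroup G) = 7 := by
    obtain ⟨k, hk⟩ := S.2.exists_card_eq
    have h1 : 7 ^ k ∣ 604800 := hk ▸ h.card ▸ Subgroup.card_subgroup_dvd_card _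
    have h2 : 7 ^ 1 ∣ Nat.card (S : Subgroup G) := S.pow_dvd_card_of_pow_dvd_card (by rw [h.card]; norm_num)
    rw [hk] at h2 ⊢
    have hk1 : 1 ≤ k := (Nat.pow_dvd_pow_iff_le_right (by norm_num : 1 < 7)).1 h2
    have hk2 : k < 2 := by
      by_contra hge
      push Not at hge
      exact absurd ((pow_dvd_pow 7 hge).trans h1) (by norm_num)
    interval_cases k
    norm_num
  obtain ⟨⟨x, hxS⟩, hx⟩ := exists_prime_orderOf_dvd_card' (G := ↥(S : Subgroup G)) 7 (by rw [hS7])
  have hxo : orderOf x = 7 := by rw [← Subgroup.orderOf_coe] at hx; exact hx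
  have hSx : (S : Subgroup G) = Subgroup.zpowers x :=
    (Subgroup.eq_of_le_of_card_ge (Subgroup.zpowers_le.2 hxS) (by rw [hS7, Nat.card_zpowers, hxo])).symm
  have hprimes : ∀ q : ℕ, q.Prime → q ∣ Nat.card (Subgroup.centralizer ({x} : Set G)) → q = 7 := by
    intro q hq hd
    have hq' : q ∣ 2 ^ 7 * 3 ^ 3 * 5 ^ 2 * 7 := by
      rw [show 2 ^ 7 * 3 ^ 3 * 5 ^ 2 * 7 = 604800 by norm_num, ← h.card]
      exact hd.trans (Subgroup.card_subgroup_dvd_card _)
    haveI := Fact.mk hq
    obtain ⟨⟨y, hyC⟩, hy⟩ := exists_prime_orderOf_dvd_card' (G := Subgroup.centralizer ({x} : Set G)) q hd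
    have hyo : orderOf y = q := by rw [← Subgroup.orderOf_coe] at hy; exact hy
    have hxy : x * y = y * x := (mem_cz.1 hyC).symm
    rcases hq.dvd_mul.1 hq' with hq' | hq'
    rcases hq.dvd_mul.1 hq' with hq' | hq'
    rcases hq.dvd_mul.1 hq' with hq' | hq'
    · exfalso
      have hq2 := (Nat.prime_dvd_prime_iff_eq hq Nat.prime_two).1 (hq.dvd_of_dvd_pow hq')
      rcases h.m.classes (x := y) (hyo.trans hq2) with e | e <;> obtain ⟨g, hg⟩ := isConj_iff.1 e.symm
      · have h7 := seven_dvd_cent hxo hxy g (hg ▸ Subgroup.mem_zpowers _ : z ∈ Subgroup.zpowers (g * y * g⁻¹))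
        rw [h.m.hj.card_C] at h7
        norm_num at h7
      · have h7 := seven_dvd_cent hxo hxy g (hg ▸ Subgroup.mem_zpowers _ : t ∈ Subgroup.zpowers (g * y * g⁻¹))
        rw [h.card_D] at h7
        norm_num at h7
    · exfalso
      have hq3 := (Nat.prime_dvd_prime_iff_eq hq Nat.prime_three).1 (hq.dvd_of_dvd_pow hq')
      obtain ⟨T, -⟩ := (IsPGroup.of_bot (p := 3) (G := G)).exists_le_sylow
      obtain ⟨-, -, -, hall⟩ := h.three T
      obtain ⟨x₃, hx₃, hx₃o⟩ := h.exists_three_B
      obtain ⟨c, hc, hco⟩ := h.exists_three_K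
      rcases hall x₃ hx₃ hx₃o c hc hco y (hyo.trans hq3) with e | e <;> obtain ⟨g, hg⟩ := isConj_iff.1 e
      · have h7 := seven_dvd_cent hxo hxy g (hg ▸ Subgroup.mem_zpowers _ : x₃ ∈ Subgroup.zpowers (g * y * g⁻¹))
        rw [(h.card_cent_x hx₃ hx₃o).1] at h7
        norm_num at h7
      · have h7 := seven_dvd_cent hxo hxy g (hg ▸ Subgroup.mem_zpowers _ : c ∈ Subgroup.zpowers (g * y * g⁻¹))
        rw [h.card_cent_c hc hco] at h7
        norm_num at h7
    · exfalso
      have hq5 := (Nat.prime_dvd_prime_iff_eq hq (Fact.out : Nat.Prime 5)).1 (hq.dvd_of_dvd_pow hq')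
      obtain ⟨r, hr, hro⟩ := h.exists_five_B
      obtain ⟨T, hT⟩ := (IsPGroup.of_card (G := Subgroup.zpowers r) (p := 5) (n := 1)
        (by rw [Nat.card_zpowers, hro, pow_one])).exists_le_sylow
      obtain ⟨h300, -⟩ := h.five_main hr hro T (hT (Subgroup.mem_zpowers r))
      obtain ⟨g₀, hg₀, hg₀o⟩ := h.m.hj.setting.pre.has_five
      obtain ⟨-, -, -, hall⟩ := h.five T
      obtain ⟨g, hg⟩ := hall r hr hro g₀ hg₀ hg₀o y (hyo.trans hq5)
      have hne : g * y * g⁻¹ ≠ 1 := fun e => ne_one_of_orderOf (hyo.trans hq5) (by norm_num) (conj_eq_one_iff.1 e)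
      rcases hg with hg | hg
      · have h7 := seven_dvd_cent hxo hxy g ((zpowers_eq_of_mem hro hg hne).2.symm ▸ Subgroup.mem_zpowers r)
        rw [h300] at h7
        norm_num at h7
      · have h7 := seven_dvd_cent hxo hxy g ((zpowers_eq_of_mem hg₀o hg hne).2.symm ▸ Subgroup.mem_zpowers g₀)
        rw [h.cent_five_K hg₀ hg₀o] at h7
        norm_num at h7
    · exact (Nat.prime_dvd_prime_iff_eq hq (Fact.out : Nat.Prime 7)).1 hq'
  have hC : Subgroup.centralizer ({x} : Set G) = (S : Subgroup G) := by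
    refine (Subgroup.eq_of_le_of_card_ge (hSx ▸ Subgroup.zpowers_le.2 (mem_cz.2 rfl)) ?_).symm
    set n := Nat.card (Subgroup.centralizer ({x} : Set G)) with hn
    have hn0 : n ≠ 0 := Nat.card_pos.ne'
    have hfac : n = 7 ^ n.primeFactorsList.length := Nat.eq_prime_pow_of_unique_prime_dvd hn0 fun {q} hq hd => hprimes q hq hd
    have hd : 7 ^ n.primeFactorsList.length ∣ 604800 := hfac ▸ h.card ▸ Subgroup.card_subgroup_dvd_card _
    have hlen : n.primeFactorsList.length ≤ 1 := by
      by_contra hge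
      push Not at hge
      exact absurd ((pow_dvd_pow 7 hge).trans hd) (by norm_num)
    rw [hS7, hfac]
    exact (Nat.pow_le_pow_right (by norm_num) hlen).trans_eq (pow_one 7)
  have hcent : Subgroup.centralizer ((S : Subgroup G) : Set G) = S := by
    refine le_antisymm (fun w hw => hC ▸ mem_cz.2 (Subgroup.mem_centralizer_iff.1 hw x hxS).symm) fun w hw => ?_
    refine Subgroup.mem_centralizer_iff.2 fun b hb => ?_
    rw [SetLike.mem_coe, hSx] at hb
    rw [hSx] at hw
    obtain ⟨i, rfl⟩ := hw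
    obtain ⟨j, rfl⟩ := hb
    exact ((Commute.refl x).zpow_zpow j i).eq
  refine ⟨hcent, ?_⟩
  let N := Subgroup.normalizer ((S : Subgroup G) : Set G)
  haveI := Fintype.ofFinite ↥N
  let f : ↥N → G := fun n => (n : G) * x * (n : G)⁻¹
  have hfib : ∀ b ∈ Finset.univ.image f, (Finset.univ.filter fun n : ↥N => f n = b).card = 7 := by
    intro b hb
    obtain ⟨n₁, -, rfl⟩ := Finset.mem_image.1 hb
    rw [← hS7, ← Nat.card_eq_finsetCard]
    refine Nat.card_congr
      { toFun := fun n => ⟨(n₁ : G)⁻¹ * (n.1 : G), hC ▸ mem_cz.2 ?_⟩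
        invFun := fun s => ⟨⟨(n₁ : G) * s.1, mul_mem n₁.2 (Subgroup.le_normalizer s.2)⟩,
          Finset.mem_filter.2 ⟨Finset.mem_univ _, ?_⟩⟩
        left_inv := fun n => Subtype.ext (Subtype.ext (mul_inv_cancel_left _ _))
        right_inv := fun s => Subtype.ext (inv_mul_cancel_left _ _) }
    · have e : (n.1 : G) * x * (n.1 : G)⁻¹ = (n₁ : G) * x * (n₁ : G)⁻¹ := (Finset.mem_filter.1 n.2).2
      calc (n₁ : G)⁻¹ * n.1 * x = (n₁ : G)⁻¹ * ((n.1 : G) * x * (n.1 : G)⁻¹) * n.1 := by group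
        _ = _ := by rw [e]; group
    · have hm : (s.1 : G) * x = x * s.1 := mem_cz.1 (hC.symm ▸ s.2)
      show (n₁ : G) * s.1 * x * ((n₁ : G) * s.1)⁻¹ = (n₁ : G) * x * (n₁ : G)⁻¹
      rw [show (n₁ : G) * s.1 * x * ((n₁ : G) * s.1)⁻¹ = (n₁ : G) * ((s.1 : G) * x * (s.1 : G)⁻¹) * (n₁ : G)⁻¹ by group,
        hm, mul_inv_cancel_right]
  have hNk : Nat.card N = 7 * (Finset.univ.image f).card := by
    rw [Nat.card_eq_fintype_card, ← Finset.card_univ,
      Finset.card_eq_sum_card_fiberwise (t := Finset.univ.image f) (f := f)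
        (fun n _ => Finset.mem_image_of_mem f (Finset.mem_univ n)),
      Finset.sum_congr rfl hfib, Finset.sum_const, smul_eq_mul, mul_comm]
  haveI := Fintype.ofFinite ↥(S : Subgroup G)
  have hk6 : (Finset.univ.image f).card ≤ 6 := by
    refine (Finset.card_le_card (t := (Finset.univ.image fun y : ↥(S : Subgroup G) => (y : G)).erase 1) fun b hb => ?_).trans
      (le_of_eq ?_)
    · obtain ⟨n, -, rfl⟩ := Finset.mem_image.1 hb
      refine Finset.mem_erase.2 ⟨fun e => ne_one_of_orderOf hxo (by norm_num) (conj_eq_one_iff.1 e), ?_⟩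
      exact Finset.mem_image.2 ⟨⟨f n, (Subgroup.mem_normalizer_iff.1 n.2 x).1 hxS⟩, Finset.mem_univ _, rfl⟩
    · rw [Finset.card_erase_of_mem (Finset.mem_image.2 ⟨(1 : ↥(S : Subgroup G)), Finset.mem_univ _, Subgroup.coe_one _⟩),
        Finset.card_image_of_injective _ Subtype.val_injective, Finset.card_univ, ← Nat.card_eq_fintype_card, hS7]
  have hn7 : Nat.card (Sylow 7 G) % 7 = 1 := by
    have := card_sylow_modEq_one 7 G
    rwa [Nat.ModEq, Nat.one_mod] at this
  have hprod : Nat.card N * Nat.card (Sylow 7 G) = 604800 := by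
    have e : Nat.card (Sylow 7 G) = N.index := Sylow.card_eq_index_normalizer S
    rw [e, Subgroup.card_mul_index, h.card]
  rw [hNk] at hprod
  have : Nat.card N = 42 := by
    interval_cases hc' : (Finset.univ.image f).card <;> omega
  exact this

end JData

end CfsgLib.Characterizations.HallJanko
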