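import Cfsg.Agent.Lib.Characterizations.HallJanko.Classes
import Cfsg.Agent.Lib.Characterizations.HallJanko.Four
import Cfsg.Agent.Lib.Fusion.Transfer
import Cfsg.Agent.Lib.Fusion.Thompson
import Cfsg.Agent.Lib.ThompsonWielandt.Basic

/-!
# The centraliser of an involution of the second class splits as a four-group times `A₄` or `A₅`
-/

set_option autoImplicit false
set_option linter.style.haveILetI false
set_option linter.unusedSectionVars false

namespace CfsgLib.Characterizations.HallJanko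

open CfsgLib.Characterizations.HallJankoCount
open CfsgLib.Involution.Dihedral

/-- Transfer to a quotient of an abelian Sylow subgroup invariant under its normaliser. -/
theorem exists_transfer_kernel {H : Type*} [Group H] [Finite H] {p : ℕ} [Fact p.Prime] (S : Sylow p H)
    (hab : ∀ a ∈ (S : Subgroup H), ∀ b ∈ (S : Subgroup H), a * b = b * a) (W : Subgroup H)
    (hWS : W ≤ (S : Subgroup H))
    (hn : ∀ n ∈ Subgroup.normalizer ((S : Subgroup H) : Set H), ∀ x ∈ (S : Subgroup H), n * x * n⁻¹ * x⁻¹ ∈ W) :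
    ∃ M : Subgroup H, M.Normal ∧ M ⊓ (S : Subgroup H) = W ∧ M ⊔ (S : Subgroup H) = ⊤ := by
  haveI : IsMulCommutative (S : Subgroup H) := ⟨⟨fun a b => Subtype.ext (hab a a.2 b b.2)⟩⟩
  haveI hWn : (W.subgroupOf (S : Subgroup H)).Normal := ⟨fun x hx g => by
    have : g * x * g⁻¹ = x := Subtype.ext (by
      simp only [Subgroup.coe_mul, Subgroup.coe_inv]
      rw [hab _ g.2 _ x.2, mul_inv_cancel_right])
    rwa [this]⟩
  letI : CommGroup ((S : Subgroup H) ⧸ W.subgroupOf (S : Subgroup H)) :=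
    { (inferInstance : Group ((S : Subgroup H) ⧸ W.subgroupOf (S : Subgroup H))) with
      mul_comm := fun a b => QuotientGroup.induction_on a fun x => QuotientGroup.induction_on b fun y =>
        congrArg QuotientGroup.mk (Subtype.ext (hab _ x.2 _ y.2) : x * y = y * x) }
  let φ : (S : Subgroup H) →* (S : Subgroup H) ⧸ W.subgroupOf (S : Subgroup H) := QuotientGroup.mk' _
  let Φ := MonoidHom.transfer φ
  have hΦ : ∀ x : (S : Subgroup H), Φ (x : H) = φ x ^ (S : Subgroup H).index := by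
    refine fun x => CfsgLib.Fusion.Transfer.transfer_eq_pow_of_invariant φ (fun x g hx => ?_) x
    obtain ⟨n, hnN, hn'⟩ := S.conj_eq_normalizer_conj_of_mem (x : H) g x.2 hx
    refine (QuotientGroup.eq.2 ?_)
    have h1 := hn n⁻¹ (inv_mem hnN) _ x.2
    rw [inv_inv, ← hn'] at h1
    show (g⁻¹ * (x : H) * g)⁻¹ * x ∈ W
    have h2 := inv_mem h1
    rw [mul_inv_rev, inv_inv] at h2
    rwa [hab _ (inv_mem hx) _ x.2]
  have hco : (Nat.card ((S : Subgroup H) ⧸ W.subgroupOf (S : Subgroup H))).Coprime (S : Subgroup H).index := by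
    obtain ⟨k, hk⟩ := (S.2.to_quotient (W.subgroupOf (S : Subgroup H))).exists_card_eq
    rw [hk]
    exact ((Nat.Prime.coprime_iff_not_dvd Fact.out).2 S.not_dvd_index).pow_left k
  refine ⟨Φ.ker, Φ.normal_ker, ?_, eq_top_iff.2 fun g _ => ?_⟩
  · ext x
    constructor
    · rintro ⟨hk, hx⟩
      have h1 := hΦ ⟨x, hx⟩
      rw [MonoidHom.mem_ker.1 hk] at h1
      have h2 : φ ⟨x, hx⟩ = 1 := (powCoprime hco).injective (by
        rw [powCoprime_apply, powCoprime_apply, ← h1, one_pow])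
      exact (QuotientGroup.eq_one_iff (N := W.subgroupOf (S : Subgroup H)) (⟨x, hx⟩ : (S : Subgroup H))).1 h2
    · intro hx
      refine ⟨MonoidHom.mem_ker.2 ?_, hWS hx⟩
      rw [show x = ((⟨x, hWS hx⟩ : (S : Subgroup H)) : H) from rfl, hΦ,
        show φ ⟨x, hWS hx⟩ = 1 from (QuotientGroup.eq_one_iff _).2 hx, one_pow]
  · obtain ⟨r, hr⟩ := (powCoprime hco).surjective (Φ g)
    obtain ⟨x, rfl⟩ := QuotientGroup.mk_surjective r
    have hx : Φ (x : H) = Φ g := by rw [hΦ, ← hr]; rfl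
    rw [show g = g * (x : H)⁻¹ * x by group]
    exact Subgroup.mul_mem_sup (MonoidHom.mem_ker.2 (by rw [map_mul, map_inv, hx, mul_inv_cancel])) x.2

variable {G : Type*} [Group G] [Finite G]

/-- The centraliser of `t` is the product of the four-group `P` and `B`. -/
structure Split (z t : G) (P B : Subgroup G) : Prop where
  P_le : P ≤ Subgroup.centralizer ({t} : Set G)
  B_le : B ≤ Subgroup.centralizer ({t} : Set G)
  comm : ∀ p ∈ P, ∀ b ∈ B, p * b = b * p
  disj : P ⊓ B = ⊥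
  sup : P ⊔ B = Subgroup.centralizer ({t} : Set G)
  card_P : Nat.card P = 4
  P_sq : ∀ p ∈ P, p * p = 1
  tP : t ∈ P
  zB : z ∈ B
  Bz : ∀ x ∈ B, orderOf x = 2 → IsConj z x
  Ct : ∀ x ∈ Subgroup.centralizer ({t} : Set G), orderOf x = 2 → x ∉ B → IsConj t x

variable {z t : G} {Q K : Subgroup G}

/-- The centraliser in `C(t)` of a member of the class of `z` in `W`. -/
theorem Marked.cent_W (h : Marked z t Q K) {w : G} (hw : w ∈ wGrp t Q) (hw1 : w ≠ 1) {x : G}
    (hxD : x ∈ Subgroup.centralizer ({t} : Set G)) (hxw : x * w = w * x) : x ∈ tGrp z t := by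
  obtain ⟨g, hgD, hg⟩ := h.conj_in_D (Subgroup.mem_inf.1 hw).2 (h.conj_z_of_W hw hw1)
  let C' : Subgroup G := Subgroup.centralizer ({t} : Set G) ⊓ Subgroup.centralizer ({w} : Set G)
  have hle : tGrp z t ≤ C' := fun y hy =>
    Subgroup.mem_inf.2 ⟨(Subgroup.mem_inf.1 hy).2, mem_cz.2 (h.T_comm hy (h.W_le_T hw))⟩
  have hmap : C'.map (MulAut.conj g).toMonoidHom ≤ tGrp z t := by
    rintro _ ⟨y, hy, rfl⟩
    obtain ⟨hy1, hy2⟩ := Subgroup.mem_inf.1 hy
    refine Subgroup.mem_inf.2 ⟨mem_cz.2 ?_, mul_mem (mul_mem hgD hy1) (inv_mem hgD)⟩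
    simp only [MulEquiv.coe_toMonoidHom, MulAut.conj_apply]
    rw [← hg, conj_mul, conj_mul, mem_cz.1 hy2]
  have heq : tGrp z t = C' := by
    refine Subgroup.eq_of_le_of_card_ge hle ?_
    calc Nat.card C' = Nat.card (C'.map (MulAut.conj g).toMonoidHom) :=
          Nat.card_congr (C'.equivMapOfInjective _ (MulAut.conj g).injective).toEquiv
      _ ≤ _ := Subgroup.card_le_of_le hmap
  rw [heq]
  exact Subgroup.mem_inf.2 ⟨hxD, mem_cz.2 hxw⟩

/-- A two-element of the normaliser of `W` in `C(t)` lies in the Sylow subgroup. -/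
theorem Marked.two_mem_T (h : Marked z t Q K) {x : G} (hxD : x ∈ Subgroup.centralizer ({t} : Set G))
    (hx : ∀ w ∈ wGrp t Q, x * w * x⁻¹ ∈ wGrp t Q) {k : ℕ} (hk : orderOf x = 2 ^ k) : x ∈ tGrp z t := by
  haveI : Fact (Nat.Prime 2) := ⟨Nat.prime_two⟩
  have hmod := card_fixed_modEq hk hx
  rw [h.card_W] at hmod
  have hne : wGrp t Q ⊓ Subgroup.centralizer ({x} : Set G) ≠ ⊥ := by
    intro he
    rw [he, Subgroup.card_bot] at hmod
    exact absurd hmod (by decide)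
  obtain ⟨⟨w, hw⟩, hw'⟩ := Subgroup.ne_bot_iff_exists_ne_one.1 hne
  have hw1 : w ≠ 1 := fun e => hw' (Subtype.ext e)
  exact h.cent_W (Subgroup.mem_inf.1 hw).1 hw1 hxD (mem_cz.1 (Subgroup.mem_inf.1 hw).2).symm

theorem Marked.normalizer_W (h : Marked z t Q K) {x : G} (hxD : x ∈ Subgroup.centralizer ({t} : Set G))
    (hx : ∀ y ∈ tGrp z t, x * y * x⁻¹ ∈ tGrp z t) : ∀ w ∈ wGrp t Q, x * w * x⁻¹ ∈ wGrp t Q := by
  intro w hw
  by_cases hw1 : w = 1
  · rw [hw1, mul_one, mul_inv_cancel]; exact one_mem _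
  exact h.mem_W_of_T (hx w (h.W_le_T hw)) ((h.conj_z_of_W hw hw1).trans (isConj_iff.2 ⟨x, rfl⟩))

/-- An element of order three permuting the class of `z` in `W`. -/
theorem Marked.exists_e (h : Marked z t Q K) : ∃ e ∈ Subgroup.centralizer ({t} : Set G), orderOf e = 3 ∧
    (∀ y ∈ tGrp z t, e * y * e⁻¹ ∈ tGrp z t) ∧
    (∀ w ∈ wGrp t Q, w ≠ 1 → e * w ≠ w * e) ∧
    ∀ n ∈ Subgroup.centralizer ({t} : Set G), (∀ y ∈ tGrp z t, n * y * n⁻¹ ∈ tGrp z t) →
      ∃ i : ℕ, (e ^ i)⁻¹ * n ∈ tGrp z t := by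
  obtain ⟨u, hu, huz, hu1⟩ : ∃ u ∈ wGrp t Q, u ≠ z ∧ u ≠ 1 := by
    by_contra hne
    push Not at hne
    have : ((wGrp t Q : Subgroup G) : Set G) ⊆ {1, z} := fun w hw => by
      by_cases hz' : w = z
      · exact Or.inr hz'
      · exact Or.inl (hne w hw hz')
    have h4 := Set.ncard_le_ncard this
    rw [← Nat.card_coe_set_eq, SetLike.coe_sort_coe, h.card_W,
      Set.ncard_pair (Ne.symm h.hj.setting.extra.z_ne)] at h4
    omega
  have hzW := h.z_mem_W
  have hz1 := h.hj.setting.extra.z_ne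
  have huu := h.W_sq hu
  have hzz := h.hj.setting.extra.z_sq
  have hzu : z * u = u * z := h.hj.setting.extra.z_comm (Subgroup.mem_inf.1 hu).1
  have hall : ∀ w ∈ wGrp t Q, w = 1 ∨ w = z ∨ w = u ∨ w = u * z := by
    intro w hw
    by_contra hne
    push Not at hne
    have hsub : ({1, z, u, u * z, w} : Set G) ⊆ (wGrp t Q : Subgroup G) := by
      rintro y (rfl | rfl | rfl | rfl | rfl)
      · exact one_mem _
      · exact hzW
      · exact hu
      · exact mul_mem hu hzW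
      · exact hw
    have h4 := Set.ncard_le_ncard hsub
    rw [← Nat.card_coe_set_eq ((wGrp t Q : Subgroup G) : Set G), SetLike.coe_sort_coe, h.card_W,
      Set.ncard_insert_of_notMem (by
        simp only [Set.mem_insert_iff, Set.mem_singleton_iff, not_or]
        exact ⟨Ne.symm hz1, Ne.symm hu1, fun e => huz (by rw [← mul_one u, e, ← mul_assoc, huu, one_mul]),
          Ne.symm hne.1⟩),
      Set.ncard_insert_of_notMem (by
        simp only [Set.mem_insert_iff, Set.mem_singleton_iff, not_or]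
        exact ⟨Ne.symm huz, fun e => hu1 (mul_eq_right.1 e.symm), Ne.symm hne.2.1⟩),
      Set.ncard_insert_of_notMem (by
        simp only [Set.mem_insert_iff, Set.mem_singleton_iff, not_or]
        exact ⟨fun e => hz1 (mul_eq_left.1 e.symm), Ne.symm hne.2.2.1⟩),
      Set.ncard_pair (Ne.symm hne.2.2.2)] at h4
    omega
  obtain ⟨g, hgD, hg⟩ := h.conj_in_D (Subgroup.mem_inf.1 hu).2 (h.conj_z_of_W hu hu1)
  have hgT : ∀ y ∈ tGrp z t, g * y * g⁻¹ ∈ tGrp z t := fun y hy => by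
    refine Subgroup.mem_inf.2 ⟨mem_cz.2 ?_, mul_mem (mul_mem hgD (Subgroup.mem_inf.1 hy).2) (inv_mem hgD)⟩
    rw [← hg, conj_mul, conj_mul, h.T_comm hy (h.W_le_T hu)]
  have hgW := h.normalizer_W hgD hgT
  have cinj : ∀ {a b : G}, g * a * g⁻¹ = g * b * g⁻¹ → a = b := fun e => mul_left_cancel (mul_right_cancel e)
  have hgz : g * z * g⁻¹ = u * z := by
    rcases hall _ (hgW z hzW) with e | e | e | e
    · exact absurd (conj_eq_one_iff.1 e) hz1
    · exact absurd (cinj (e.trans hg.symm)).symm huz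
    · exfalso
      have hfix : g * (u * z) * g⁻¹ = u * z := by rw [← conj_mul, hg, e, hzu]
      have hgTm := h.cent_W (mul_mem hu hzW) (fun e' => huz (by
        rw [← mul_one u, ← hzz, ← mul_assoc, e', one_mul])) hgD (mul_inv_eq_iff_eq_mul.1 hfix)
      rw [h.T_comm hgTm (h.W_le_T hu), mul_inv_cancel_right] at hg
      exact huz hg
    · exact e
  have hguz : g * (u * z) * g⁻¹ = u := by
    rw [← conj_mul, hg, hgz, ← mul_assoc, hzu, mul_assoc, hzz, mul_one]
  have hg3 : g * g * g ∈ tGrp z t := by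
    refine h.cent_W hzW hz1 (mul_mem (mul_mem hgD hgD) hgD) (mul_inv_eq_iff_eq_mul.1 ?_)
    rw [show g * g * g * z * (g * g * g)⁻¹ = g * (g * (g * z * g⁻¹) * g⁻¹) * g⁻¹ by group, hgz, hguz, hg]
  have hez : g * g * z * (g * g)⁻¹ = u := by
    rw [show g * g * z * (g * g)⁻¹ = g * (g * z * g⁻¹) * g⁻¹ by group, hgz, hguz]
  have heu : g * g * u * (g * g)⁻¹ = u * z := by
    rw [show g * g * u * (g * g)⁻¹ = g * (g * u * g⁻¹) * g⁻¹ by group, hg, hgz]
  have heuz : g * g * (u * z) * (g * g)⁻¹ = z := by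
    rw [← conj_mul, heu, hez, mul_assoc, hzu, ← mul_assoc, huu, one_mul]
  refine ⟨g * g, mul_mem hgD hgD, ?_, fun y hy => ?_, fun w hw hw1 hc => ?_, fun n hnD hn => ?_⟩
  · haveI : Fact (Nat.Prime 3) := ⟨by norm_num⟩
    refine orderOf_eq_prime ?_ fun e => huz ?_
    · rw [← h.T_sq hg3]; simp only [pow_succ, pow_zero, one_mul, mul_assoc]
    · rw [← hez, e]; group
  · rw [show g * g * y * (g * g)⁻¹ = g * (g * y * g⁻¹) * g⁻¹ by group]
    exact hgT _ (hgT y hy)
  · have hc' := mul_inv_eq_iff_eq_mul.2 hc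
    rcases hall w hw with rfl | rfl | rfl | rfl
    · exact hw1 rfl
    · rw [hez] at hc'; exact huz hc'
    · rw [heu] at hc'; exact hz1 (mul_eq_left.1 hc')
    · rw [heuz] at hc'; exact hu1 (mul_eq_right.1 hc'.symm)
  · have key : ∀ {i : ℕ}, (g * g) ^ i * z * ((g * g) ^ i)⁻¹ = n * z * n⁻¹ →
        ((g * g) ^ i)⁻¹ * n ∈ tGrp z t := by
      intro i e
      refine h.cent_W hzW hz1 (mul_mem (inv_mem (pow_mem (mul_mem hgD hgD) i)) hnD) (mul_inv_eq_iff_eq_mul.1 ?_)
      rw [show ((g * g) ^ i)⁻¹ * n * z * (((g * g) ^ i)⁻¹ * n)⁻¹ = ((g * g) ^ i)⁻¹ * (n * z * n⁻¹) * (g * g) ^ i by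
        group, ← e]
      group
    rcases hall _ (h.normalizer_W hnD hn z hzW) with e | e | e | e
    · exact absurd (conj_eq_one_iff.1 e) hz1
    · exact ⟨0, key (by rw [e]; group)⟩
    · exact ⟨1, key (by rw [e, pow_one, hez])⟩
    · refine ⟨2, key ?_⟩
      rw [e, pow_two, show g * g * (g * g) * z * (g * g * (g * g))⁻¹ = g * g * (g * g * z * (g * g)⁻¹) * (g * g)⁻¹ by
        group, hez, heu]

/-- `C(t)` is a four-group times `A₄` or `A₅`. -/
theorem Marked.exists_split (h : Marked z t Q K) : ∃ P B : Subgroup G, Split z t P B ∧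
    ((Nat.card B = 12 ∧ ∀ x ∈ B, x * x = 1 → x ∈ wGrp t Q) ∨ Nonempty (↥B ≃* alternatingGroup (Fin 5))) := by
  classical
  haveI : Fact (Nat.Prime 2) := ⟨Nat.prime_two⟩
  haveI : Fact (Nat.Prime 3) := ⟨by norm_num⟩
  obtain ⟨e, heD, he3, heT, hefix, hN⟩ := h.exists_e
  have hTD : tGrp z t ≤ Subgroup.centralizer ({t} : Set G) := inf_le_right
  have hWD : wGrp t Q ≤ Subgroup.centralizer ({t} : Set G) := inf_le_right
  generalize hD : Subgroup.centralizer ({t} : Set G) = D at *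
  have mD : ∀ {x : G}, x ∈ D → x ∈ Subgroup.centralizer ({t} : Set G) := fun hx => hD.symm ▸ hx
  -- the Sylow subgroup
  have hTp : IsPGroup 2 ((tGrp z t).subgroupOf D) := IsPGroup.of_card (n := 4) (by
    rw [Nat.card_congr (Subgroup.subgroupOfEquivOfLe hTD).toEquiv, h.card_T]; norm_num)
  obtain ⟨S, hS⟩ := hTp.exists_le_sylow
  have hSeq : (S : Subgroup ↥D) = (tGrp z t).subgroupOf D := by
    refine le_antisymm ?_ hS
    by_contra hne
    haveI : Group.IsNilpotent (S : Subgroup ↥D) := S.2.isNilpotent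
    let T' := ((tGrp z t).subgroupOf D).subgroupOf (S : Subgroup ↥D)
    have hlt : T' < ⊤ := lt_top_iff_ne_top.2 fun e => hne (Subgroup.subgroupOf_eq_top.1 e)
    obtain ⟨n, hn, hnT⟩ := SetLike.exists_of_lt (Group.normalizerCondition_of_isNilpotent T' hlt)
    apply hnT
    have hnn : ∀ y ∈ tGrp z t, ((n : ↥D) : G) * y * ((n : ↥D) : G)⁻¹ ∈ tGrp z t := fun y hy =>
      (Subgroup.mem_normalizer_iff.1 hn ⟨⟨y, hTD hy⟩, hS hy⟩).1 hy
    obtain ⟨k, hk⟩ := IsPGroup.iff_orderOf.1 S.2 n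
    exact h.two_mem_T (mD (n : ↥D).2) (h.normalizer_W (mD (n : ↥D).2) hnn) (k := k)
      ((orderOf_injective D.subtype D.subtype_injective _).trans
        ((orderOf_injective _ (Subgroup.subtype_injective (S : Subgroup ↥D)) n).trans hk))
  have hSmem : ∀ {x : ↥D}, x ∈ (S : Subgroup ↥D) ↔ (x : G) ∈ tGrp z t := fun {x} => by
    rw [hSeq]; exact Iff.rfl
  -- the fixed points of `e`
  let P : Subgroup G := tGrp z t ⊓ Subgroup.centralizer ({e} : Set G)
  have htT := h.t_mem_T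
  have htP : t ∈ P := Subgroup.mem_inf.2 ⟨htT, mem_cz.2 (mem_cz.1 (mD heD)).symm⟩
  have hWP : ∀ w ∈ wGrp t Q, w ∈ P → w = 1 := fun w hw hwP => by
    by_contra hw1
    exact hefix w hw hw1 (mem_cz.1 (Subgroup.mem_inf.1 hwP).2).symm
  have hP4 : Nat.card P = 4 := by
    have hmod : (16 : ℕ) ≡ Nat.card P [MOD 3] := h.card_T ▸ card_fixed_modEq (p := 3) (k := 1)
      (by rw [he3, pow_one]) heT
    obtain ⟨j, hj, hj'⟩ := (Nat.dvd_prime_pow Nat.prime_two).1 ((h.card_T ▸ Subgroup.card_dvd_of_le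
      (inf_le_left : P ≤ tGrp z t) : Nat.card P ∣ 16).trans (dvd_of_eq (by norm_num : (16 : ℕ) = 2 ^ 4)))
    have h16 : Nat.card P ≠ 16 := fun e' => by
      have : P = tGrp z t := Subgroup.eq_of_le_of_card_ge inf_le_left (by rw [h.card_T, e'])
      exact h.hj.setting.extra.z_ne (hWP z h.z_mem_W (this ▸ h.W_le_T h.z_mem_W))
    have h1 : Nat.card P ≠ 1 := fun e' => by
      rw [Subgroup.card_eq_one] at e'
      exact ne_one h.ht ((e' ▸ htP : t ∈ (⊥ : Subgroup G)))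
    rw [hj'] at hmod h16 h1 ⊢
    interval_cases j <;> simp_all [Nat.ModEq]
  have hdecT : ∀ x ∈ tGrp z t, ∃ w ∈ wGrp t Q, ∃ p ∈ P, x = w * p := by
    have hbij : Function.Bijective (fun a : ↥(wGrp t Q) × ↥P =>
        (⟨a.1 * a.2, mul_mem (h.W_le_T a.1.2) (Subgroup.mem_inf.1 a.2.2).1⟩ : ↥(tGrp z t))) := by
      refine (Nat.bijective_iff_injective_and_card _).2 ⟨?_, by rw [Nat.card_prod, h.card_W, hP4, h.card_T]⟩
      rintro ⟨w, p⟩ ⟨w', p'⟩ e'
      have e2 : (w : G) * p = w' * p' := congrArg Subtype.val e'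
      have hm : (w' : G)⁻¹ * w = 1 := hWP _ (mul_mem (inv_mem w'.2) w.2) (by
        rw [show (w' : G)⁻¹ * w = (p' : G) * (p : G)⁻¹ by
          rw [eq_mul_inv_iff_mul_eq, mul_assoc, e2, inv_mul_cancel_left]]
        exact mul_mem p'.2 (inv_mem p.2))
      rw [inv_mul_eq_one] at hm
      rw [← hm] at e2
      exact Prod.ext (Subtype.ext hm.symm) (Subtype.ext (mul_left_cancel e2))
    intro x hx
    obtain ⟨⟨w, p⟩, hwp⟩ := hbij.2 ⟨x, hx⟩
    exact ⟨w, w.2, p, p.2, (congrArg Subtype.val hwp).symm⟩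
  -- the transfer kernel
  obtain ⟨M, hMn, hMS, hMsup⟩ := exists_transfer_kernel S
    (fun a ha b hb => Subtype.ext (h.T_comm (hSmem.1 ha) (hSmem.1 hb))) ((wGrp t Q).subgroupOf D)
    (fun x hx => hSmem.2 (h.W_le_T hx)) (fun n hn x hx => by
      have hnn : ∀ y ∈ tGrp z t, (n : G) * y * (n : G)⁻¹ ∈ tGrp z t := fun y hy =>
        hSmem.1 ((Subgroup.mem_normalizer_iff.1 hn ⟨y, hTD hy⟩).1 (hSmem.2 hy))
      obtain ⟨i, hi⟩ := hN n n.2 hnn
      obtain ⟨w, hw, p, hp, hxp⟩ := hdecT _ (hSmem.1 hx)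
      show (n : G) * (x : G) * (n : G)⁻¹ * (x : G)⁻¹ ∈ wGrp t Q
      have hnp : (n : G) * p * (n : G)⁻¹ = p := by
        have hep : Commute (e ^ i) p :=
          (show Commute e p from (mem_cz.1 (Subgroup.mem_inf.1 hp).2).symm).pow_left i
        have hcp : Commute ((e ^ i)⁻¹ * (n : G)) p := h.T_comm hi (Subgroup.mem_inf.1 hp).1
        have : Commute (e ^ i * ((e ^ i)⁻¹ * (n : G))) p := hep.mul_left hcp
        rw [mul_inv_cancel_left] at this
        rw [this.eq, mul_inv_cancel_right]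
      rw [hxp, ← conj_mul, hnp, mul_inv_rev, ← mul_assoc, mul_inv_cancel_right]
      exact mul_mem (h.normalizer_W (mD n.2) hnn w hw) (inv_mem hw))
  let B : Subgroup G := M.map D.subtype
  have hBD : B ≤ D := Subgroup.map_subtype_le _
  have hBmem : ∀ {x : G} (hx : x ∈ D), x ∈ B ↔ (⟨x, hx⟩ : ↥D) ∈ M := fun {x} hx =>
    ⟨fun ⟨y, hy, hyx⟩ => (Subtype.ext hyx : y = ⟨x, hx⟩) ▸ hy, fun hm => ⟨_, hm, rfl⟩⟩
  have hBn : ∀ d ∈ D, ∀ b ∈ B, d * b * d⁻¹ ∈ B := fun d hd b hb =>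
    (hBmem (mul_mem (mul_mem hd (hBD hb)) (inv_mem hd))).2 (hMn.conj_mem _ ((hBmem (hBD hb)).1 hb) ⟨d, hd⟩)
  have hWB : wGrp t Q ≤ B := fun w hw => (hBmem (hWD hw)).2 (Subgroup.mem_inf.1 (hMS.symm.le hw :
    (⟨w, hWD hw⟩ : ↥D) ∈ M ⊓ (S : Subgroup ↥D))).1
  have hBT : ∀ x ∈ B, x ∈ tGrp z t → x ∈ wGrp t Q := fun x hxB hxT =>
    hMS.le (Subgroup.mem_inf.2 ⟨(hBmem (hBD hxB)).1 hxB, hSmem.2 hxT⟩ : (⟨x, hBD hxB⟩ : ↥D) ∈ _)
  have heB : e ∈ B := by
    rw [hBmem heD]
    have hm : (⟨e, heD⟩ : ↥D) ∈ ((M ⊔ (S : Subgroup ↥D) : Subgroup ↥D) : Set ↥D) := by rw [hMsup]; trivial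
    rw [Subgroup.normal_mul] at hm
    obtain ⟨m, hm', s, hs, hms⟩ := Set.mem_mul.1 hm
    rw [← QuotientGroup.eq_one_iff]
    have h2 : (QuotientGroup.mk (⟨e, heD⟩ : ↥D) : ↥D ⧸ M) ^ 2 = 1 := by
      rw [← hms, QuotientGroup.mk_mul, (QuotientGroup.eq_one_iff m).2 hm', one_mul, ← QuotientGroup.mk_pow,
        QuotientGroup.eq_one_iff, pow_two, show s * s = 1 from Subtype.ext (h.T_sq (hSmem.1 hs))]
      exact one_mem _
    have h3 : (QuotientGroup.mk (⟨e, heD⟩ : ↥D) : ↥D ⧸ M) ^ 3 = 1 := by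
      rw [← QuotientGroup.mk_pow, show (⟨e, heD⟩ : ↥D) ^ 3 = 1 from Subtype.ext (he3 ▸ pow_orderOf_eq_one e),
        QuotientGroup.mk_one]
    rw [pow_succ, h2, one_mul] at h3
    exact h3
  have hPT : P ≤ tGrp z t := inf_le_left
  have hPD : P ≤ D := hPT.trans hTD
  have hPB : P ⊓ B = ⊥ := (Subgroup.eq_bot_iff_forall _).2 fun x hx =>
    hWP x (hBT x (Subgroup.mem_inf.1 hx).2 (hPT (Subgroup.mem_inf.1 hx).1)) (Subgroup.mem_inf.1 hx).1
  have hcardD : Nat.card D = 4 * Nat.card B := by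
    have h1 := CfsgLib.Fusion.Thompson.card_sup_mul_card_inf (N := M) (K := (S : Subgroup ↥D))
      (fun s _ => Subgroup.normalizer_eq_top_iff.2 hMn ▸ Subgroup.mem_top s)
    rw [hMsup, hMS, Subgroup.card_top, Nat.card_congr (Subgroup.subgroupOfEquivOfLe hWD).toEquiv, h.card_W,
      hSeq, Nat.card_congr (Subgroup.subgroupOfEquivOfLe hTD).toEquiv, h.card_T] at h1
    rw [Subgroup.card_map_of_injective D.subtype_injective]
    omega
  -- the structure of `B`
  have hVcard : Nat.card ((wGrp t Q).subgroupOf B) = 4 := by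
    rw [Nat.card_congr (Subgroup.subgroupOfEquivOfLe hWB).toEquiv, h.card_W]
  have hfour := four_cases (H := ↥B) hVcard (fun v hv => Subtype.ext (h.W_sq hv)) (fun v hv hv1 c hc =>
    hBT c c.2 (h.cent_W hv (fun e' => hv1 (Subtype.ext e')) (mD (hBD c.2)) (congrArg Subtype.val hc)))
  have h3B : 3 ∣ Nat.card B := he3 ▸ Subgroup.orderOf_dvd_natCard B heB
  let B₀ : Subgroup G := wGrp t Q ⊔ Subgroup.zpowers e
  have hB₀ : B₀ ≤ B := sup_le hWB (Subgroup.zpowers_le.2 heB)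
  have hB₀12 : 12 ∣ Nat.card B₀ := by
    have h4 : 4 ∣ Nat.card B₀ := h.card_W ▸ Subgroup.card_dvd_of_le (le_sup_left : wGrp t Q ≤ B₀)
    have h3 : 3 ∣ Nat.card B₀ := he3 ▸ Subgroup.orderOf_dvd_natCard B₀
      (le_sup_right (a := wGrp t Q) (Subgroup.mem_zpowers e))
    exact Nat.Coprime.mul_dvd_of_dvd_of_dvd (by norm_num : Nat.Coprime 4 3) h4 h3
  have hPB₀ : ∀ p ∈ P, B₀ ≤ Subgroup.centralizer ({p} : Set G) := fun p hp =>
    sup_le (fun w hw => mem_cz.2 (h.T_comm (h.W_le_T hw) (hPT hp)))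
      (Subgroup.zpowers_le.2 (mem_cz.2 (mem_cz.1 (Subgroup.mem_inf.1 hp).2).symm))
  -- `P` centralises `B`
  have hcomm : ∀ p ∈ P, ∀ b ∈ B, p * b = b * p := by
    rcases hfour with ⟨-, h4 | h12⟩ | ⟨h60, ⟨eB⟩⟩
    · rw [h4] at h3B; norm_num at h3B
    · intro p hp b hb
      have : B₀ = B := Subgroup.eq_of_le_of_card_ge hB₀ (by rw [h12]; exact Nat.le_of_dvd Nat.card_pos hB₀12)
      exact (mem_cz.1 (hPB₀ p hp (this ▸ hb))).symm
    · intro p hp b hb
      obtain ⟨hcent, i, hiB, hi, hie⟩ := alt5_odd_mem eB heB (Or.inl he3)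
      have hpD := hPD hp
      have hpe : Commute p e := mem_cz.1 (Subgroup.mem_inf.1 hp).2
      have hpp : p * p = 1 := h.T_sq (hPT hp)
      have hpinv : p⁻¹ = p := inv_eq_of_mul_eq_one_right hpp
      let i' := p * i * p⁻¹
      have hi'B : i' ∈ B := hBn p hpD i hiB
      have hi'e : i' * e * i'⁻¹ = e⁻¹ := by
        have e1 : p * e * p⁻¹ = e := by rw [hpe.eq, mul_inv_cancel_right]
        have e2 : p⁻¹ * e * p = e := by rw [mul_assoc, ← hpe.eq, inv_mul_cancel_left]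
        calc i' * e * i'⁻¹ = p * (i * (p⁻¹ * e * p) * i⁻¹) * p⁻¹ := by simp only [i']; group
          _ = _ := by rw [e2, hie, ← conj_inv, e1]
      have hji : (i' * i⁻¹) * e = e * (i' * i⁻¹) := by
        have e3 : i⁻¹ * e * i = e⁻¹ := by rw [inv_eq hi]; rwa [inv_eq hi] at hie
        have e4 : i' * i⁻¹ * e * (i' * i⁻¹)⁻¹ = e := by
          rw [show i' * i⁻¹ * e * (i' * i⁻¹)⁻¹ = i' * (i⁻¹ * e * i) * i'⁻¹ by group, e3, ← conj_inv, hi'e,
            inv_inv]
        exact mul_inv_eq_iff_eq_mul.1 e4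
      obtain ⟨j, hj⟩ := hcent _ (mul_mem hi'B (inv_mem hiB)) hji.symm
      have hpj : Commute p (i' * i⁻¹) := hj ▸ hpe.zpow_right j
      have hjj : (i' * i⁻¹) * (i' * i⁻¹) = 1 := by
        have e5 : i = (i' * i⁻¹) * ((i' * i⁻¹) * i) := by
          calc i = p * (p * i * p⁻¹) * p⁻¹ := by
                rw [show p * (p * i * p⁻¹) * p⁻¹ = (p * p) * i * (p * p)⁻¹ by group, hpp]; group
            _ = p * ((i' * i⁻¹) * i) * p⁻¹ := by simp [i']
            _ = (p * (i' * i⁻¹) * p⁻¹) * (p * i * p⁻¹) := by group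
            _ = (i' * i⁻¹) * i' := by rw [hpj.eq, mul_inv_cancel_right]
            _ = _ := by rw [inv_mul_cancel_right]
        rw [← mul_assoc] at e5
        exact mul_eq_right.1 e5.symm
      have hj1 : i' * i⁻¹ = 1 := by
        have h2 : orderOf (i' * i⁻¹) ∣ 2 := orderOf_dvd_of_pow_eq_one (by rw [pow_two, hjj])
        have h3 : orderOf (i' * i⁻¹) ∣ 3 := by
          rw [← he3, ← Nat.card_zpowers e]
          exact Subgroup.orderOf_dvd_natCard _ ⟨j, hj⟩
        exact orderOf_eq_one_iff.1 (Nat.eq_one_of_dvd_coprimes (by norm_num : Nat.Coprime 2 3) h2 h3)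
      have hip : i * p = p * i := by
        rw [mul_inv_eq_one] at hj1
        exact (mul_inv_eq_iff_eq_mul.1 hj1).symm
      let A : Subgroup G := B ⊓ Subgroup.centralizer ({p} : Set G)
      have hB₀A : B₀ ≤ A := le_inf hB₀ (hPB₀ p hp)
      have hA : A = B := by
        refine Subgroup.eq_of_le_of_card_ge inf_le_left ?_
        have hd : Nat.card A ∣ 60 := h60 ▸ Subgroup.card_dvd_of_le inf_le_left
        have h12 : 12 ∣ Nat.card A := hB₀12.trans (Subgroup.card_dvd_of_le hB₀A)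
        obtain ⟨m, hm⟩ := h12
        rw [hm] at hd
        have hm5 : m ∣ 5 := (Nat.mul_dvd_mul_iff_left (by norm_num : 0 < 12)).1 (by simpa using hd)
        rcases (Nat.dvd_prime (by norm_num : Nat.Prime 5)).1 hm5 with rfl | rfl
        · exfalso
          have hAB₀ : B₀ = A := Subgroup.eq_of_le_of_card_ge hB₀A (by
            rw [hm, mul_one]; exact Nat.le_of_dvd Nat.card_pos hB₀12)
          have hiB₀ : i ∈ B₀ := hAB₀ ▸ Subgroup.mem_inf.2 ⟨hiB, mem_cz.2 hip⟩
          have hnorm : B₀ ≤ Subgroup.normalizer ((wGrp t Q : Subgroup G) : Set G) :=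
            sup_le Subgroup.le_normalizer (Subgroup.zpowers_le.2
              (CfsgLib.ThompsonWielandt.mem_normalizer_of_forall (h.normalizer_W (mD heD) heT)))
          have hiW : i ∈ wGrp t Q := hBT i hiB (h.two_mem_T (mD (hBD hiB))
            (fun w hw => (Subgroup.mem_normalizer_iff.1 (hnorm hiB₀) w).1 hw) (k := 1) (by rw [hi, pow_one]))
          have hm2 : e * e * i ∈ wGrp t Q := by
            have e6 : i * e⁻¹ = e * i := by
              calc i * e⁻¹ = i * (i * e * i⁻¹) := by rw [hie]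
                _ = i * i * e * i⁻¹ := by group
                _ = e * i := by rw [mul_self hi, one_mul, inv_eq hi]
            have := h.normalizer_W (mD heD) heT i hiW
            rwa [show e * i * e⁻¹ = e * (i * e⁻¹) by group, e6, ← mul_assoc] at this
          have h2 := h.W_sq (mul_mem hm2 (inv_mem hiW))
          rw [mul_inv_cancel_right] at h2
          have hd2 : orderOf (e * e) ∣ 2 := orderOf_dvd_of_pow_eq_one (by rw [pow_two, h2])
          rw [← pow_two, orderOf_pow' _ (by norm_num), he3] at hd2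
          norm_num at hd2
        · rw [h60, hm]
      exact (mem_cz.1 (Subgroup.mem_inf.1 (show b ∈ A from hA.symm ▸ hb)).2).symm
  have hsup : P ⊔ B = D := by
    refine Subgroup.eq_of_le_of_card_ge (sup_le hPD hBD) ?_
    have h1 := CfsgLib.Fusion.Thompson.card_sup_mul_card_inf (N := P) (K := B) fun b hb =>
      CfsgLib.ThompsonWielandt.mem_normalizer_of_forall fun p hp => by
        rw [← hcomm p hp b hb, mul_inv_cancel_right]; exact hp
    rw [hPB, Subgroup.card_bot, mul_one, hP4] at h1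
    rw [h1, hcardD]
  -- classes
  have hBz : ∀ x ∈ B, orderOf x = 2 → IsConj z x := by
    intro x hx ho
    rcases hfour with ⟨hn, -⟩ | ⟨-, ⟨eB⟩⟩
    · have hxW : x ∈ wGrp t Q := hBT x hx (h.two_mem_T (mD (hBD hx)) (fun w hw =>
        hn.conj_mem (⟨w, hWB hw⟩ : ↥B) hw ⟨x, hx⟩) (k := 1) (by rw [ho, pow_one]))
      exact h.conj_z_of_W hxW (ne_one ho)
    · obtain ⟨b, -, hb⟩ := alt5_conj_mem eB (hWB h.z_mem_W) hx h.hj.hz ho
      exact isConj_iff.2 ⟨b, hb⟩
  refine ⟨P, B, ?_, ?_⟩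
  · refine ⟨fun x hx => mD (hPD hx), fun x hx => mD (hBD hx), hcomm, hPB, by rw [hsup, hD], hP4,
      fun p hp => h.T_sq (hPT hp), htP, hWB h.z_mem_W, hBz, fun x hxD ho hxB => ?_⟩
    rcases h.classes ho with hz' | ht'
    · obtain ⟨g, hgD, hg⟩ := h.conj_in_D hxD hz'
      rw [hD] at hgD
      refine absurd ?_ hxB
      rw [show x = g⁻¹ * z * g⁻¹⁻¹ by rw [← hg]; group]
      exact hBn _ (inv_mem hgD) _ (hWB h.z_mem_W)
    · exact ht'
  · rcases hfour with ⟨hn, h4 | h12⟩ | ⟨-, he⟩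
    · rw [h4] at h3B; norm_num at h3B
    · exact Or.inl ⟨h12, fun x hx hxx => hBT x hx (by
        by_cases hx1 : x = 1
        · rw [hx1]; exact one_mem _
        · exact h.two_mem_T (mD (hBD hx)) (fun w hw => hn.conj_mem (⟨w, hWB hw⟩ : ↥B) hw ⟨x, hx⟩) (k := 1)
            (by rw [orderOf_eq_two hxx hx1, pow_one]))⟩
    · exact Or.inr he

end CfsgLib.Characterizations.HallJanko
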