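import Cfsg.Agent.Lib.Characterizations.HallJanko.ThreeCard
import Cfsg.Agent.Lib.PGroup.OrderPCubeExtra

/-!
# The Sylow three-subgroups of a group of Hall–Janko type
-/

set_option autoImplicit false
set_option linter.style.haveILetI false
set_option linter.unusedSectionVars false

namespace CfsgLib.Characterizations.HallJanko

open CfsgLib.Characterizations.HallJankoCount
open CfsgLib.Involution.Dihedral
open scoped commutatorElement

variable {G : Type*} [Group G] [Finite G] {z t : G} {Q K P B : Subgroup G}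

namespace JData

theorem card_sylow_three (h : JData z t Q K P B) [Fact (Nat.Prime 3)] (S : Sylow 3 G) :
    Nat.card (S : Subgroup G) = 27 := by
  obtain ⟨k, hk⟩ := S.2.exists_card_eq
  have h1 : 3 ^ k ∣ 604800 := hk ▸ h.card ▸ Subgroup.card_subgroup_dvd_card _
  have h2 : 3 ^ 3 ∣ Nat.card (S : Subgroup G) :=
    S.pow_dvd_card_of_pow_dvd_card (by rw [h.card]; norm_num)
  rw [hk] at h2 ⊢
  have hk3 : 3 ≤ k := (Nat.pow_dvd_pow_iff_le_right (by norm_num : 1 < 3)).1 h2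
  have hk4 : k < 4 := by
    by_contra hge
    push Not at hge
    exact absurd ((pow_dvd_pow 3 hge).trans h1) (by norm_num)
  interval_cases k
  norm_num

/-- A conjugate of `c` is centralised by no involution of the second class. -/
theorem no_t_in_cent (h : JData z t Q K P B) {c c₁ : G} (hc : c ∈ K) (hco : orderOf c = 3) (hc₁ : IsConj c c₁)
    {v : G} (hv : IsConj t v) : v * c₁ ≠ c₁ * v := by
  intro e
  obtain ⟨x, hx, hxo⟩ := h.exists_three_B
  exact h.not_isConj_three hx hxo hc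
    (hc₁.trans (h.three_conj_x hx hxo (by rw [orderOf_of_isConj hc₁, hco]) hv e))

theorem exists_central (h : JData z t Q K P B) [Fact (Nat.Prime 3)] {c : G} (hc : c ∈ K) (hco : orderOf c = 3)
    (S : Sylow 3 G) : ∃ c₁ ∈ (S : Subgroup G), IsConj c c₁ ∧ ∀ s ∈ (S : Subgroup G), s * c₁ = c₁ * s := by
  set L := Subgroup.centralizer ({c} : Set G) with hL
  obtain ⟨T⟩ : Nonempty (Sylow 3 ↥L) := inferInstance
  have hT : Nat.card ((T : Subgroup ↥L).map L.subtype) = 27 := by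
    rw [Subgroup.card_map_of_injective L.subtype_injective]
    obtain ⟨k, hk⟩ := T.2.exists_card_eq
    have h2 : 3 ^ 3 ∣ Nat.card (T : Subgroup ↥L) :=
      T.pow_dvd_card_of_pow_dvd_card (by rw [h.card_cent_c hc hco]; norm_num)
    rw [hk] at h2 ⊢
    have hk3 : 3 ≤ k := (Nat.pow_dvd_pow_iff_le_right (by norm_num : 1 < 3)).1 h2
    have h1 : 3 ^ k ∣ 1080 := hk ▸ h.card_cent_c hc hco ▸ Subgroup.card_subgroup_dvd_card _
    have hk4 : k < 4 := by
      by_contra hge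
      push Not at hge
      exact absurd ((pow_dvd_pow 3 hge).trans h1) (by norm_num)
    interval_cases k
    norm_num
  obtain ⟨S₀, hS₀⟩ := (T.2.map L.subtype).exists_le_sylow
  have hS₀e : (T : Subgroup ↥L).map L.subtype = (S₀ : Subgroup G) :=
    Subgroup.eq_of_le_of_card_ge hS₀ (by rw [h.card_sylow_three S₀, hT])
  have hSL : (S₀ : Subgroup G) ≤ L := hS₀e ▸ Subgroup.map_subtype_le _
  have hcS : c ∈ (S₀ : Subgroup G) := by
    have hp : IsPGroup 3 (Subgroup.zpowers c) := IsPGroup.of_card (n := 1) (by rw [Nat.card_zpowers, hco, pow_one])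
    have hn : (S₀ : Subgroup G) ≤ Subgroup.normalizer ((Subgroup.zpowers c : Subgroup G) : Set G) := fun s hs =>
      CfsgLib.ThompsonWielandt.mem_normalizer_of_forall fun w hw => by
        obtain ⟨i, rfl⟩ := hw
        refine ⟨i, ?_⟩
        show c ^ i = s * c ^ i * s⁻¹
        rw [((show Commute s c from mem_cz.1 (hSL hs)).zpow_right i).eq, mul_inv_cancel_right]
    have := S₀.3 (hp.to_sup_of_normal_left' S₀.2 hn) le_sup_right
    rw [← this]
    exact le_sup_left (b := (S₀ : Subgroup G)) (Subgroup.mem_zpowers c)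
  obtain ⟨g, hg⟩ := MulAction.exists_smul_eq G S₀ S
  refine ⟨g * c * g⁻¹, hg ▸ ⟨c, hcS, rfl⟩, isConj_iff.2 ⟨g, rfl⟩, fun s hs => ?_⟩
  rw [← hg] at hs
  obtain ⟨a, ha, rfl⟩ := hs
  show g * a * g⁻¹ * (g * c * g⁻¹) = g * c * g⁻¹ * (g * a * g⁻¹)
  rw [conj_mul, conj_mul, mem_cz.1 (hSL ha)]

set_option maxHeartbeats 1000000 in
/-- The Sylow three-subgroups containing an element of `B`. -/
theorem three_main (h : JData z t Q K P B) [Fact (Nat.Prime 3)] {x c : G} (hxB : x ∈ B) (hxo : orderOf x = 3)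
    (hc : c ∈ K) (hco : orderOf c = 3) (S : Sylow 3 G) (hxS : x ∈ (S : Subgroup G)) :
    (∃ a ∈ (S : Subgroup G), a * x ≠ x * a) ∧
    Nat.card (Subgroup.normalizer ((S : Subgroup G) : Set G)) = 216 ∧
    ∀ y ∈ (S : Subgroup G), orderOf y = 3 → IsConj y x ∨ IsConj y c := by
  classical
  obtain ⟨c₁, hc₁S, hcc₁, hcen⟩ := h.exists_central hc hco S
  have hS27 := h.card_sylow_three S
  have hc₁o : orderOf c₁ = 3 := by rw [orderOf_of_isConj hcc₁, hco]
  obtain ⟨hx36, hPn⟩ := h.card_cent_x hxB hxo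
  have hxc : ¬ IsConj c x := h.not_isConj_three hxB hxo hc
  obtain ⟨eK⟩ := h.m.hj.setting.alt
  obtain ⟨-, iK, -, -, hiK⟩ := alt5_odd_mem eK hc (Or.inl hco)
  have hcinv : IsConj c c⁻¹ := isConj_iff.2 ⟨iK, hiK⟩
  let E : Subgroup G := (S : Subgroup G) ⊓ Subgroup.centralizer ({x} : Set G)
  have hE : Nat.card E = 9 := by
    have hxE : x ∈ E := Subgroup.mem_inf.2 ⟨hxS, mem_cz.2 rfl⟩
    have hcE : c₁ ∈ E := Subgroup.mem_inf.2 ⟨hc₁S, mem_cz.2 (hcen x hxS).symm⟩
    have hd : Nat.card E ∣ 27 := hS27 ▸ Subgroup.card_dvd_of_le inf_le_left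
    have hd' : Nat.card E ∣ 36 := hx36 ▸ Subgroup.card_dvd_of_le inf_le_right
    have hne3 : Nat.card E ∣ 3 → False := fun h3 => by
      have hle : Nat.card E ≤ 3 := Nat.le_of_dvd (by norm_num) h3
      have heq : Subgroup.zpowers x = E :=
        Subgroup.eq_of_le_of_card_ge (Subgroup.zpowers_le.2 hxE) (by rw [Nat.card_zpowers, hxo]; exact hle)
      rw [← heq] at hcE
      obtain ⟨j, hj⟩ := hcE
      have hj' : x ^ j = c₁ := hj
      rw [← zpow_mod_orderOf, hxo] at hj'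
      have hcases : j % ((3 : ℕ) : ℤ) = 0 ∨ j % ((3 : ℕ) : ℤ) = 1 ∨ j % ((3 : ℕ) : ℤ) = 2 := by omega
      rcases hcases with e | e | e <;> rw [e] at hj'
      · rw [zpow_zero] at hj'; exact ne_one_of_orderOf hc₁o (by norm_num) hj'.symm
      · rw [zpow_one] at hj'; exact hxc (hj' ▸ hcc₁)
      · have hx2 : x ^ (2 : ℤ) = x⁻¹ := by
          rw [eq_inv_iff_mul_eq_one, ← zpow_add_one, show (2 : ℤ) + 1 = ((3 : ℕ) : ℤ) from rfl, zpow_natCast, ← hxo,
            pow_orderOf_eq_one]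
        rw [hx2] at hj'
        have h1 : IsConj c x⁻¹ := hj' ▸ hcc₁
        obtain ⟨g, hg⟩ := isConj_iff.1 h1
        exact hxc (hcinv.trans (isConj_iff.2 ⟨g, by rw [← inv_inv x, ← hg]; group⟩))
    have h9 : Nat.card E ∣ 9 := (Nat.dvd_gcd hd hd').trans (by norm_num)
    obtain ⟨k, hk, hk'⟩ := (Nat.dvd_prime_pow Nat.prime_three).1 (h9.trans (dvd_of_eq (by norm_num : (9 : ℕ) = 3 ^ 2)))
    interval_cases k
    · exact (hne3 (by rw [hk']; norm_num)).elim
    · exact (hne3 (by rw [hk']; norm_num)).elim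
    · rw [hk']; norm_num
  obtain ⟨a, haS, hax⟩ : ∃ a ∈ (S : Subgroup G), a * x ≠ x * a := by
    by_contra hne
    push Not at hne
    have hle : (S : Subgroup G) ≤ E := fun s hs => Subgroup.mem_inf.2 ⟨hs, mem_cz.2 (hne s hs)⟩
    have := Subgroup.card_le_of_le hle
    omega
  have hex : Cfsg.IsExtraspecial 3 ↥(S : Subgroup G) :=
    CfsgLib.PGroup.OrderPCubeExtra.isExtraspecial_of_card (by rw [hS27]; norm_num)
      ⟨⟨a, haS⟩, ⟨x, hxS⟩, fun e => hax (congrArg Subtype.val e)⟩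
  let C₁ : ↥(S : Subgroup G) := ⟨c₁, hc₁S⟩
  have hcenter : Subgroup.center ↥(S : Subgroup G) = Subgroup.zpowers C₁ := by
    refine (Subgroup.eq_of_le_of_card_ge (Subgroup.zpowers_le.2 (Subgroup.mem_center_iff.2 fun s =>
      Subtype.ext (hcen s s.2))) ?_).symm
    rw [hex.2, Nat.card_zpowers, ← Subgroup.orderOf_coe, hc₁o]
  have hcomm : ∀ s (hs : s ∈ (S : Subgroup G)) y (hy : y ∈ (S : Subgroup G)), ∃ i : ℤ, s * y * s⁻¹ = y * c₁ ^ i := by
    intro s hs y hy
    have h1 : ⁅(⟨s, hs⟩ : ↥(S : Subgroup G)), ⟨y, hy⟩⁆ ∈ Subgroup.center ↥(S : Subgroup G) :=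
      hex.1.2.2 ▸ Subgroup.commutator_mem_commutator (Subgroup.mem_top _) (Subgroup.mem_top _)
    rw [hcenter] at h1
    obtain ⟨i, hi⟩ := h1
    have hi' : c₁ ^ i = s * y * s⁻¹ * y⁻¹ := congrArg Subtype.val hi
    refine ⟨i, ?_⟩
    rw [((show Commute y c₁ from hcen y hy).zpow_right i).eq, hi', inv_mul_cancel_right]
  let N := Subgroup.normalizer ((S : Subgroup G) : Set G)
  have hSN : (S : Subgroup G) ≤ N := Subgroup.le_normalizer
  -- the stabiliser of the coset of `x`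
  have hstab : ∀ n ∈ N, ∀ i : ℤ, n * x * n⁻¹ = x * c₁ ^ i → n ∈ (S : Subgroup G) := by
    intro n hn i hi
    haveI := Fintype.ofFinite ↥(S : Subgroup G)
    let f : ↥(S : Subgroup G) → G := fun s => (s : G) * x * (s : G)⁻¹
    have hfib : ∀ b ∈ Finset.univ.image f, (Finset.univ.filter fun s : ↥(S : Subgroup G) => f s = b).card ≤ 9 := by
      intro b hb
      obtain ⟨s₀, -, rfl⟩ := Finset.mem_image.1 hb
      rw [← hE, ← Nat.card_eq_finsetCard]
      refine Nat.card_le_card_of_injective (fun s => ⟨(s₀ : G)⁻¹ * (s.1 : G), Subgroup.mem_inf.2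
        ⟨mul_mem (inv_mem s₀.2) s.1.2, mem_cz.2 ?_⟩⟩) fun a b e =>
          Subtype.ext (Subtype.ext (mul_left_cancel (congrArg Subtype.val e)))
      have e : (s.1 : G) * x * (s.1 : G)⁻¹ = (s₀ : G) * x * (s₀ : G)⁻¹ := (Finset.mem_filter.1 s.2).2
      calc (s₀ : G)⁻¹ * s.1 * x = (s₀ : G)⁻¹ * ((s.1 : G) * x * (s.1 : G)⁻¹) * s.1 := by group
        _ = _ := by rw [e]; group
    have h27 := Finset.card_le_mul_card_image Finset.univ 9 hfib
    rw [Finset.card_univ, ← Nat.card_eq_fintype_card, hS27] at h27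
    let T : Finset G := (Finset.range 3).image fun j => x * c₁ ^ j
    have hmemT : ∀ i : ℤ, x * c₁ ^ i ∈ T := fun i => by
      refine Finset.mem_image.2 ⟨(i % ((3 : ℕ) : ℤ)).toNat, Finset.mem_range.2 (by omega), ?_⟩
      rw [← zpow_natCast, Int.toNat_of_nonneg (Int.emod_nonneg _ (by norm_num)), ← hc₁o, zpow_mod_orderOf]
    have hT3 : T.card ≤ 3 := Finset.card_image_le.trans (by simp)
    have himg : Finset.univ.image f = T := by
      refine Finset.eq_of_subset_of_card_le (fun b hb => ?_) (by omega)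
      obtain ⟨s, -, rfl⟩ := Finset.mem_image.1 hb
      obtain ⟨j, hj⟩ := hcomm s s.2 x hxS
      simp only [f]
      rw [hj]
      exact hmemT j
    obtain ⟨s, -, hs⟩ := Finset.mem_image.1 (himg ▸ hmemT i : x * c₁ ^ i ∈ Finset.univ.image f)
    set m := (s : G)⁻¹ * n with hm
    have hmN : m ∈ N := mul_mem (inv_mem (hSN s.2)) hn
    have hs' : (s : G) * x * (s : G)⁻¹ = x * c₁ ^ i := hs
    have hmx : m * x = x * m := by
      refine mul_inv_eq_iff_eq_mul.1 ?_
      rw [hm, show (s : G)⁻¹ * n * x * ((s : G)⁻¹ * n)⁻¹ = (s : G)⁻¹ * (n * x * n⁻¹) * s by group, hi, ← hs']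
      group
    have hEC : E ≤ Subgroup.centralizer ({x} : Set G) := inf_le_right
    have hPC : P ≤ Subgroup.centralizer ({x} : Set G) := fun v hv => mem_cz.2 (h.split.comm v hv x hxB)
    have hPE : P ⊓ E = ⊥ := by
      refine Subgroup.card_eq_one.1 (Nat.eq_one_of_dvd_coprimes (by norm_num : Nat.Coprime 4 9) ?_ ?_)
      · exact h.split.card_P ▸ Subgroup.card_dvd_of_le inf_le_left
      · exact hE ▸ Subgroup.card_dvd_of_le inf_le_right
    have hEn : E ≤ Subgroup.normalizer (P : Set G) := fun e he =>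
      CfsgLib.ThompsonWielandt.mem_normalizer_of_forall fun v hv => hPn e (hEC he) v hv
    have hsup : P ⊔ E = Subgroup.centralizer ({x} : Set G) := by
      refine Subgroup.eq_of_le_of_card_ge (sup_le hPC hEC) ?_
      have h1 := CfsgLib.Fusion.Thompson.card_sup_mul_card_inf hEn
      rw [hPE, Subgroup.card_bot, mul_one, h.split.card_P, hE] at h1
      omega
    have hmem : m ∈ ((P ⊔ E : Subgroup G) : Set G) := by rw [hsup]; exact mem_cz.2 hmx
    rw [Subgroup.coe_mul_of_right_le_normalizer_left P E hEn] at hmem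
    obtain ⟨v, hv, e, he, hve⟩ := hmem
    have hve' : v * e = m := hve
    have hvN : v ∈ N := by
      rw [show v = m * e⁻¹ by rw [← hve', mul_inv_cancel_right]]
      exact mul_mem hmN (inv_mem (hSN (Subgroup.mem_inf.1 he).1))
    have hv1 : v = 1 := by
      by_contra hv1
      have hcE : c₁ ∈ E := Subgroup.mem_inf.2 ⟨hc₁S, mem_cz.2 (hcen x hxS).symm⟩
      have hcC := hEC hcE
      have hvE : v * c₁ * v⁻¹ ∈ E := Subgroup.mem_inf.2 ⟨(Subgroup.mem_normalizer_iff.1 hvN c₁).1 hc₁S,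
        mul_mem (mul_mem (hPC hv) hcC) (inv_mem (hPC hv))⟩
      have hcv : v * c₁ * v⁻¹ * c₁⁻¹ ∈ P ⊓ E := Subgroup.mem_inf.2 ⟨by
        rw [show v * c₁ * v⁻¹ * c₁⁻¹ = v * (c₁ * v⁻¹ * c₁⁻¹) by group]
        exact mul_mem hv (hPn c₁ hcC _ (inv_mem hv)), mul_mem hvE (inv_mem hcE)⟩
      rw [hPE, Subgroup.mem_bot, mul_inv_eq_one] at hcv
      exact h.no_t_in_cent hc hco hcc₁ (h.conj_t_of_P hv hv1) (mul_inv_eq_iff_eq_mul.1 hcv)
    rw [show n = (s : G) * m by rw [hm, mul_inv_cancel_left], ← hve', hv1, one_mul]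
    exact mul_mem s.2 (Subgroup.mem_inf.1 he).1
  -- the orbit of the coset of `x`
  haveI := Fintype.ofFinite ↥N
  haveI := Fintype.ofFinite (↥(S : Subgroup G) ⧸ Subgroup.center ↥(S : Subgroup G))
  let f : ↥N → ↥(S : Subgroup G) ⧸ Subgroup.center ↥(S : Subgroup G) := fun n =>
    QuotientGroup.mk ⟨(n : G) * x * (n : G)⁻¹, (Subgroup.mem_normalizer_iff.1 n.2 x).1 hxS⟩
  have hc₁conj : ∀ n ∈ N, ∃ j : ℤ, n * c₁ * n⁻¹ = c₁ ^ j := by
    intro n hn
    have hm : (⟨n * c₁ * n⁻¹, (Subgroup.mem_normalizer_iff.1 hn c₁).1 hc₁S⟩ : ↥(S : Subgroup G)) ∈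
        Subgroup.center ↥(S : Subgroup G) := Subgroup.mem_center_iff.2 fun s => Subtype.ext (by
      have hs' : n⁻¹ * s * n ∈ (S : Subgroup G) := by
        have := (Subgroup.mem_normalizer_iff.1 (inv_mem hn) (s : G)).1 s.2
        rwa [inv_inv] at this
      show (s : G) * (n * c₁ * n⁻¹) = n * c₁ * n⁻¹ * s
      calc (s : G) * (n * c₁ * n⁻¹) = n * ((n⁻¹ * s * n) * c₁) * n⁻¹ := by group
        _ = n * c₁ * n⁻¹ * s := by rw [hcen _ hs']; group)
    rw [hcenter] at hm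
    obtain ⟨j, hj⟩ := hm
    exact ⟨j, (congrArg Subtype.val hj).symm⟩
  have hfib : ∀ b ∈ Finset.univ.image f, (Finset.univ.filter fun n : ↥N => f n = b).card = 27 := by
    intro b hb
    obtain ⟨n₁, -, rfl⟩ := Finset.mem_image.1 hb
    rw [← hS27, ← Nat.card_eq_finsetCard]
    refine Nat.card_congr
      { toFun := fun n => ⟨(n₁ : G)⁻¹ * (n.1 : G), ?_⟩
        invFun := fun s => ⟨⟨(n₁ : G) * s.1, mul_mem n₁.2 (hSN s.2)⟩, Finset.mem_filter.2 ⟨Finset.mem_univ _, ?_⟩⟩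
        left_inv := fun n => Subtype.ext (Subtype.ext (mul_inv_cancel_left _ _))
        right_inv := fun s => Subtype.ext (inv_mul_cancel_left _ _) }
    · have hm := QuotientGroup.eq.1 (Finset.mem_filter.1 n.2).2.symm
      obtain ⟨i, hi⟩ := hcenter.le hm
      have hi' : c₁ ^ i = ((n₁ : G) * x * (n₁ : G)⁻¹)⁻¹ * ((n.1 : G) * x * (n.1 : G)⁻¹) := congrArg Subtype.val hi
      obtain ⟨j, hj⟩ := hc₁conj _ (inv_mem n₁.2)
      refine hstab _ (mul_mem (inv_mem n₁.2) n.1.2) (j * i) ?_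
      have e : (n.1 : G) * x * (n.1 : G)⁻¹ = (n₁ : G) * x * (n₁ : G)⁻¹ * c₁ ^ i := by
        rw [hi', mul_inv_cancel_left]
      rw [zpow_mul, ← hj, _root_.conj_zpow,
        show (n₁ : G)⁻¹ * n.1 * x * ((n₁ : G)⁻¹ * n.1)⁻¹ = (n₁ : G)⁻¹ * ((n.1 : G) * x * (n.1 : G)⁻¹) * n₁ by group, e]
      group
    · obtain ⟨i, hi⟩ := hcomm s.1 s.2 x hxS
      obtain ⟨j, hj⟩ := hc₁conj _ n₁.2
      refine (QuotientGroup.eq.2 ?_).symm
      rw [hcenter]
      refine ⟨j * i, Subtype.ext ?_⟩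
      show c₁ ^ (j * i) = ((n₁ : G) * x * (n₁ : G)⁻¹)⁻¹ * ((n₁ : G) * s.1 * x * ((n₁ : G) * s.1)⁻¹)
      rw [zpow_mul, ← hj, _root_.conj_zpow,
        show (n₁ : G) * s.1 * x * ((n₁ : G) * s.1)⁻¹ = (n₁ : G) * ((s.1 : G) * x * (s.1 : G)⁻¹) * (n₁ : G)⁻¹ by group, hi]
      group
  have hNk : Nat.card N = 27 * (Finset.univ.image f).card := by
    rw [Nat.card_eq_fintype_card, ← Finset.card_univ,
      Finset.card_eq_sum_card_fiberwise (t := Finset.univ.image f) (f := f)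
        (fun n _ => Finset.mem_image_of_mem f (Finset.mem_univ n)),
      Finset.sum_congr rfl hfib, Finset.sum_const, smul_eq_mul, mul_comm]
  have hq9 : Fintype.card (↥(S : Subgroup G) ⧸ Subgroup.center ↥(S : Subgroup G)) = 9 := by
    have := (Subgroup.center ↥(S : Subgroup G)).card_mul_index
    rw [hex.2, Subgroup.index_eq_card, hS27, Nat.card_eq_fintype_card] at this
    omega
  have hone : ∀ n, f n ≠ 1 := fun n e => by
    have hm := (QuotientGroup.eq_one_iff _).1 e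
    refine hax ?_
    have hx' : ∀ s ∈ (S : Subgroup G), s * x = x * s := fun s hs => by
      have := Subgroup.mem_center_iff.1 hm ⟨(n : G) * s * (n : G)⁻¹, (Subgroup.mem_normalizer_iff.1 n.2 s).1 hs⟩
      have e' : (n : G) * s * (n : G)⁻¹ * ((n : G) * x * (n : G)⁻¹) = (n : G) * x * (n : G)⁻¹ * ((n : G) * s * (n : G)⁻¹) :=
        congrArg Subtype.val this
      rw [conj_mul, conj_mul] at e'
      exact mul_left_cancel (mul_right_cancel e')
    exact hx' a haS
  have hk8 : (Finset.univ.image f).card ≤ 8 := by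
    refine (Finset.card_le_card (t := Finset.univ.erase 1) fun b hb => ?_).trans
      (by rw [Finset.card_erase_of_mem (Finset.mem_univ _), Finset.card_univ, hq9])
    obtain ⟨n, -, rfl⟩ := Finset.mem_image.1 hb
    exact Finset.mem_erase.2 ⟨hone n, Finset.mem_univ _⟩
  -- an element inverting the centre
  obtain ⟨n₀, hn₀N, hn₀⟩ : ∃ n ∈ N, n * c₁ * n⁻¹ = c₁⁻¹ := by
    obtain ⟨g, hg⟩ := isConj_iff.1 hcc₁
    set i' := g * iK * g⁻¹ with hi'
    have hi'c : i' * c₁ * i'⁻¹ = c₁⁻¹ := by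
      rw [← hg, hi', show g * iK * g⁻¹ * (g * c * g⁻¹) * (g * iK * g⁻¹)⁻¹ = g * (iK * c * iK⁻¹) * g⁻¹ by group, hiK]
      group
    have hSL : (S : Subgroup G) ≤ Subgroup.centralizer ({c₁} : Set G) := fun s hs => mem_cz.2 (hcen s hs)
    obtain ⟨a', ha', haN⟩ := CfsgLib.Fusion.Transfer.exists_mem_mul_mem_normalizer S
      (Subgroup.centralizer ({c₁} : Set G)) i' hSL (fun u hu => mem_cz.2 (by
        have hc : Commute (i' * u * i'⁻¹) (i' * c₁ * i'⁻¹) := by
          show _ * _ = _ * _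
          rw [conj_mul, conj_mul, hcen u hu]
        rw [hi'c] at hc
        have h' := hc.inv_right
        rw [inv_inv] at h'
        exact h'.eq))
    refine ⟨a' * i', haN, ?_⟩
    rw [show a' * i' * c₁ * (a' * i')⁻¹ = a' * (i' * c₁ * i'⁻¹) * a'⁻¹ by group, hi'c,
      ← conj_inv, mem_cz.1 ha', mul_inv_cancel_right]
  have hc₁ne : c₁⁻¹ ≠ c₁ := fun e => by
    have : c₁ ^ 2 = 1 := by rw [pow_two]; nth_rw 1 [← e]; exact inv_mul_cancel c₁
    have := orderOf_dvd_of_pow_eq_one this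
    rw [hc₁o] at this
    norm_num at this
  have hn₀C : n₀ ∉ Subgroup.centralizer ({c₁} : Set G) := fun hm => by
    rw [mem_cz.1 hm, mul_inv_cancel_right] at hn₀
    exact hc₁ne hn₀.symm
  have heven : 2 ∣ Nat.card N := by
    by_contra hodd
    have ho : ¬ 2 ∣ orderOf n₀ := fun hd => hodd (hd.trans (Subgroup.orderOf_dvd_natCard N hn₀N))
    obtain ⟨k, hk⟩ : Odd (orderOf n₀) := Nat.not_even_iff_odd.1 fun he => ho (even_iff_two_dvd.1 he)
    apply hn₀C
    have h2 : n₀ * n₀ ∈ Subgroup.centralizer ({c₁} : Set G) := mem_cz.2 (mul_inv_eq_iff_eq_mul.1 (by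
      rw [show n₀ * n₀ * c₁ * (n₀ * n₀)⁻¹ = n₀ * (n₀ * c₁ * n₀⁻¹) * n₀⁻¹ by group, hn₀, ← conj_inv, hn₀, inv_inv]))
    have : n₀ = (n₀ * n₀) ^ (k + 1) := by
      rw [← pow_two, ← pow_mul, show 2 * (k + 1) = orderOf n₀ + 1 by omega, pow_succ, pow_orderOf_eq_one, one_mul]
    rw [this]
    exact pow_mem h2 _
  have hn3 : Nat.card (Sylow 3 G) % 3 = 1 := by
    have := card_sylow_modEq_one 3 G
    rwa [Nat.ModEq, Nat.one_mod] at this
  have hprod : Nat.card N * Nat.card (Sylow 3 G) = 604800 := by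
    have e : Nat.card (Sylow 3 G) = N.index := Sylow.card_eq_index_normalizer S
    rw [e, Subgroup.card_mul_index, h.card]
  -- the index two case does not occur
  have h54 : Nat.card N ≠ 54 := by
    intro h54
    set L := Subgroup.centralizer ({c₁} : Set G) with hL
    have hL1080 : Nat.card L = 1080 := by
      obtain ⟨g, hg⟩ := isConj_iff.1 hcc₁
      rw [hL, ← hg, card_cent_conj, h.card_cent_c hc hco]
    have hSL : (S : Subgroup G) ≤ L := fun s hs => mem_cz.2 (hcen s hs)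
    have hNL : N ⊓ L = (S : Subgroup G) := by
      refine (Subgroup.eq_of_le_of_card_ge (le_inf hSN hSL) ?_).symm
      have hd : Nat.card ↥(N ⊓ L) ∣ 54 := h54 ▸ Subgroup.card_dvd_of_le inf_le_left
      have hlt : Nat.card ↥(N ⊓ L) ≠ 54 := fun e => hn₀C (Subgroup.mem_inf.1
        ((Subgroup.eq_of_le_of_card_ge (inf_le_left : N ⊓ L ≤ N) (by rw [e, h54])).symm ▸ hn₀N : n₀ ∈ N ⊓ L)).2
      have h27 : 27 ∣ Nat.card ↥(N ⊓ L) := hS27 ▸ Subgroup.card_dvd_of_le (le_inf hSN hSL)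
      obtain ⟨m, hm⟩ := h27
      have := Nat.le_of_dvd (by norm_num) hd
      rw [hS27]
      omega
    have hcL : c₁ ∈ L := mem_cz.2 rfl
    let CL : ↥L := ⟨c₁, hcL⟩
    let Zc : Subgroup ↥L := Subgroup.zpowers CL
    haveI : Zc.Normal := ⟨fun w hw b => by
      obtain ⟨i, rfl⟩ := hw
      have hcb : Commute b CL := Subtype.ext (mem_cz.1 b.2)
      show b * CL ^ i * b⁻¹ ∈ Zc
      rw [(hcb.zpow_right i).eq, mul_inv_cancel_right]
      exact ⟨i, rfl⟩⟩
    have hZc : Nat.card Zc = 3 := by rw [Nat.card_zpowers, ← Subgroup.orderOf_coe]; exact hc₁o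
    have hq : Nat.card (↥L ⧸ Zc) = 360 := by
      have := Zc.card_mul_index
      rw [hZc, hL1080, Subgroup.index_eq_card] at this
      omega
    let π := QuotientGroup.mk' Zc
    let SL := S.subtype hSL
    have hπ : Function.Surjective π := QuotientGroup.mk'_surjective Zc
    let Sb : Sylow 3 (↥L ⧸ Zc) := SL.mapSurjective hπ
    have hSb : (Sb : Subgroup (↥L ⧸ Zc)) = ((S : Subgroup G).subgroupOf L).map π := rfl
    have hmem : ∀ w : ↥L, π w ∈ (Sb : Subgroup (↥L ⧸ Zc)) ↔ (w : G) ∈ (S : Subgroup G) := by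
      intro w
      rw [hSb]
      constructor
      · rintro ⟨s, hs, hsw⟩
        obtain ⟨i, hi⟩ := QuotientGroup.eq.1 hsw
        have hi' : c₁ ^ i = (s : G)⁻¹ * w := congrArg Subtype.val hi
        rw [show (w : G) = s * c₁ ^ i by rw [hi', mul_inv_cancel_left]]
        exact mul_mem hs (zpow_mem hc₁S i)
      · intro hw; exact ⟨w, hw, rfl⟩
    have hab : ∀ a ∈ (Sb : Subgroup (↥L ⧸ Zc)), ∀ b ∈ (Sb : Subgroup (↥L ⧸ Zc)), a * b = b * a := by
      intro a' ha' b' hb'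
      obtain ⟨a'', rfl⟩ := hπ a'
      obtain ⟨b'', rfl⟩ := hπ b'
      obtain ⟨i, hi⟩ := hcomm _ ((hmem a'').1 ha') _ ((hmem b'').1 hb')
      rw [← mul_inv_eq_iff_eq_mul, ← map_mul, ← map_inv, ← map_mul]
      symm
      refine QuotientGroup.eq.2 ?_
      refine ⟨i, Subtype.ext ?_⟩
      show c₁ ^ i = (b'' : G)⁻¹ * ((a'' : G) * b'' * (a'' : G)⁻¹)
      rw [hi, inv_mul_cancel_left]
    obtain ⟨Mb, hMn, hMS, hMsup⟩ := exists_transfer_kernel Sb hab ⊥ bot_le (fun n hn w hw => by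
      obtain ⟨n', rfl⟩ := hπ n
      have hn' : (n' : G) ∈ (S : Subgroup G) := by
        rw [← hNL]
        refine Subgroup.mem_inf.2 ⟨CfsgLib.ThompsonWielandt.mem_normalizer_of_forall fun s hs => ?_, n'.2⟩
        have h1 := (Subgroup.mem_normalizer_iff.1 hn _).1 ((hmem ⟨s, hSL hs⟩).2 hs)
        rw [← map_inv, ← map_mul, ← map_mul] at h1
        exact (hmem _).1 h1
      rw [Subgroup.mem_bot, hab _ ((hmem n').2 hn') w hw, mul_inv_cancel_right, mul_inv_cancel])
    haveI := hMn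
    let M := Mb.comap π
    haveI : M.Normal := hMn.comap π
    have hMb : Nat.card Mb = 40 := by
      have h1 := CfsgLib.Fusion.Thompson.card_sup_mul_card_inf (N := Mb) (K := (Sb : Subgroup (↥L ⧸ Zc)))
        (fun s _ => Subgroup.normalizer_eq_top_iff.2 hMn ▸ Subgroup.mem_top s)
      have hSb9 : Nat.card (Sb : Subgroup (↥L ⧸ Zc)) = 9 := by
        obtain ⟨k, hk⟩ := Sb.2.exists_card_eq
        have h2 : 3 ^ 2 ∣ Nat.card (Sb : Subgroup (↥L ⧸ Zc)) := Sb.pow_dvd_card_of_pow_dvd_card (by rw [hq]; norm_num)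
        have h3 : 3 ^ k ∣ 360 := hk ▸ hq ▸ Subgroup.card_subgroup_dvd_card _
        rw [hk] at h2 ⊢
        have hk2 : 2 ≤ k := (Nat.pow_dvd_pow_iff_le_right (by norm_num : 1 < 3)).1 h2
        have hk3 : k < 3 := by
          by_contra hge
          push Not at hge
          exact absurd ((pow_dvd_pow 3 hge).trans h3) (by norm_num)
        interval_cases k
        norm_num
      rw [hMsup, hMS, Subgroup.card_bot, Subgroup.card_top, hq, hSb9] at h1
      omega
    have hM : Nat.card M = 120 := by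
      have h1 := M.card_mul_index
      have h2 := Mb.card_mul_index
      rw [Subgroup.index_comap_of_surjective _ hπ, hL1080] at h1
      rw [hMb, hq] at h2
      rw [show Mb.index = 9 by omega] at h1
      omega
    -- a Sylow two-subgroup
    obtain ⟨g, hg⟩ := isConj_iff.1 hcc₁
    let F₁ : Subgroup G := (Q ⊓ Subgroup.centralizer ({c} : Set G)).map (MulAut.conj g).toMonoidHom
    have hF₁L : F₁ ≤ L := by
      rintro _ ⟨w, hw, rfl⟩
      refine mem_cz.2 ?_
      simp only [MulEquiv.coe_toMonoidHom, MulAut.conj_apply]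
      rw [← hg, conj_mul, conj_mul, mem_cz.1 (Subgroup.mem_inf.1 hw).2]
    haveI : Fact (Nat.Prime 2) := ⟨Nat.prime_two⟩
    have hF₁8 : Nat.card F₁ = 8 :=
      (Nat.card_congr (Subgroup.equivMapOfInjective _ _ (MulAut.conj g).injective).toEquiv).symm.trans
        (h.m.three_fixed hc hco).1
    have hTp : IsPGroup 2 (F₁.subgroupOf L) := IsPGroup.of_card (n := 3) (by
      rw [Nat.card_congr (Subgroup.subgroupOfEquivOfLe hF₁L).toEquiv, hF₁8]; norm_num)
    let T : Sylow 2 ↥L := hTp.toSylow (by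
      intro hd
      have h1 := (F₁.subgroupOf L).card_mul_index
      rw [Nat.card_congr (Subgroup.subgroupOfEquivOfLe hF₁L).toEquiv, hF₁8, hL1080] at h1
      omega)
    have hTM : (T : Subgroup ↥L) ≤ M := by
      intro w hw
      have hwo : w ^ 8 = 1 := by
        refine orderOf_dvd_iff_pow_eq_one.1 ?_
        have : Nat.card (T : Subgroup ↥L) = 8 := by
          show Nat.card (F₁.subgroupOf L) = 8
          rw [Nat.card_congr (Subgroup.subgroupOfEquivOfLe hF₁L).toEquiv, hF₁8]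
        exact this ▸ Subgroup.orderOf_dvd_natCard _ hw
      show π w ∈ Mb
      have hidx9 : Mb.index = 9 := by
        have h2 := Mb.card_mul_index
        rw [hMb, hq] at h2
        omega
      have h9 := Subgroup.pow_index_mem Mb (π w)
      rw [hidx9, pow_succ, ← map_pow, hwo, map_one, one_mul] at h9
      exact h9
    let NT := Subgroup.normalizer ((T : Subgroup ↥L) : Set ↥L)
    have htop : M ⊔ NT = ⊤ := eq_top_iff.2 fun w _ => by
      obtain ⟨a', ha', han⟩ := CfsgLib.Fusion.Transfer.exists_mem_mul_mem_normalizer T M w hTM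
        (fun u hu => (inferInstance : M.Normal).conj_mem u (hTM hu) w)
      rw [show w = a'⁻¹ * (a' * w) by group]
      exact Subgroup.mul_mem_sup (inv_mem ha') han
    have h24 : Nat.card NT ∣ 24 := by
      rw [← h.m.card_cent_zc hc hco]
      let ι : ↥NT →* G := (MulAut.conj g⁻¹).toMonoidHom.comp (L.subtype.comp NT.subtype)
      have hι : Function.Injective ι := (MulAut.conj g⁻¹).injective.comp (L.subtype_injective.comp NT.subtype_injective)
      rw [Nat.card_congr (MonoidHom.ofInjective hι).toEquiv]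
      refine Subgroup.card_dvd_of_le ?_
      rintro _ ⟨n, rfl⟩
      have hι' : ι n = g⁻¹ * ((n : ↥L) : G) * g := by simp [ι]
      rw [hι']
      refine Subgroup.mem_inf.2 ⟨h.m.norm_fixed hc hco fun w hw => ?_, mem_cz.2 ?_⟩
      · have h1 := (Subgroup.mem_normalizer_iff.1 n.2 ⟨g * w * g⁻¹, hF₁L ⟨w, hw, rfl⟩⟩).1
          (show (⟨g * w * g⁻¹, hF₁L ⟨w, hw, rfl⟩⟩ : ↥L) ∈ (T : Subgroup ↥L) from ⟨w, hw, rfl⟩)
        obtain ⟨w', hw', e⟩ := h1
        have e' : g * w' * g⁻¹ = ((n : ↥L) : G) * (g * w * g⁻¹) * ((n : ↥L) : G)⁻¹ := e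
        rw [show g⁻¹ * ((n : ↥L) : G) * g * w * (g⁻¹ * ((n : ↥L) : G) * g)⁻¹ =
          g⁻¹ * (((n : ↥L) : G) * (g * w * g⁻¹) * ((n : ↥L) : G)⁻¹) * g by group, ← e']
        rwa [show g⁻¹ * (g * w' * g⁻¹) * g = w' by group]
      · have := mem_cz.1 (n : ↥L).2
        rw [← hg] at this
        calc g⁻¹ * ((n : ↥L) : G) * g * c = g⁻¹ * (((n : ↥L) : G) * (g * c * g⁻¹)) * g := by group
          _ = c * (g⁻¹ * ((n : ↥L) : G) * g) := by rw [this]; group
    have h1 := CfsgLib.Fusion.Thompson.card_sup_mul_card_inf (N := M) (K := NT)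
      (fun s _ => Subgroup.normalizer_eq_top_iff.2 (inferInstance : M.Normal) ▸ Subgroup.mem_top s)
    rw [htop, Subgroup.card_top, hL1080, hM] at h1
    have h9 : 9 ∣ Nat.card NT := ⟨Nat.card ↥(M ⊓ NT), by omega⟩
    exact absurd (h9.trans h24) (by norm_num)
  have hk : (Finset.univ.image f).card = 8 := by
    obtain ⟨m, hm⟩ := heven
    rw [hNk] at hprod h54
    interval_cases hc' : (Finset.univ.image f).card <;> omega
  refine ⟨⟨a, haS, hax⟩, by
    have : Nat.card N = 216 := by omega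
    exact this, ?_⟩
  intro y hy hyo
  by_cases hyc : (⟨y, hy⟩ : ↥(S : Subgroup G)) ∈ Subgroup.center ↥(S : Subgroup G)
  · right
    rw [hcenter] at hyc
    obtain ⟨j, hj⟩ := hyc
    have hj' : c₁ ^ j = y := congrArg Subtype.val hj
    rw [← zpow_mod_orderOf, hc₁o] at hj'
    have hcases : j % ((3 : ℕ) : ℤ) = 0 ∨ j % ((3 : ℕ) : ℤ) = 1 ∨ j % ((3 : ℕ) : ℤ) = 2 := by omega
    rcases hcases with e | e | e <;> rw [e] at hj'
    · rw [zpow_zero] at hj'; exact absurd hj'.symm (ne_one_of_orderOf hyo (by norm_num))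
    · rw [zpow_one] at hj'; exact hj' ▸ hcc₁.symm
    · have h2 : c₁ ^ (2 : ℤ) = c₁⁻¹ := by
        rw [eq_inv_iff_mul_eq_one, ← zpow_add_one, show (2 : ℤ) + 1 = ((3 : ℕ) : ℤ) from rfl, zpow_natCast, ← hc₁o,
          pow_orderOf_eq_one]
      rw [h2, ← hn₀] at hj'
      rw [← hj']
      exact (hcc₁.trans (isConj_iff.2 ⟨n₀, rfl⟩)).symm
  · left
    have himg : Finset.univ.image f = Finset.univ.erase 1 := by
      refine Finset.eq_of_subset_of_card_le (fun b hb => ?_) ?_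
      · obtain ⟨n, -, rfl⟩ := Finset.mem_image.1 hb
        exact Finset.mem_erase.2 ⟨hone n, Finset.mem_univ _⟩
      · rw [Finset.card_erase_of_mem (Finset.mem_univ _), Finset.card_univ, hq9, hk]
    have hy1 : (QuotientGroup.mk (⟨y, hy⟩ : ↥(S : Subgroup G)) :
        ↥(S : Subgroup G) ⧸ Subgroup.center ↥(S : Subgroup G)) ∈ Finset.univ.image f := by
      rw [himg]; exact Finset.mem_erase.2 ⟨fun e => hyc ((QuotientGroup.eq_one_iff _).1 e), Finset.mem_univ _⟩
    obtain ⟨n, -, hn⟩ := Finset.mem_image.1 hy1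
    have hm := QuotientGroup.eq.1 hn
    obtain ⟨i, hi⟩ := hcenter.le hm
    have hi' : c₁ ^ i = ((n : G) * x * (n : G)⁻¹)⁻¹ * y := congrArg Subtype.val hi
    -- the coset is a class of `S`
    let x' := (n : G) * x * (n : G)⁻¹
    have hx'S : x' ∈ (S : Subgroup G) := (Subgroup.mem_normalizer_iff.1 n.2 x).1 hxS
    let b := (n : G) * a * (n : G)⁻¹
    have hbS : b ∈ (S : Subgroup G) := (Subgroup.mem_normalizer_iff.1 n.2 a).1 haS
    obtain ⟨j, hj⟩ := hcomm b hbS x' hx'S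
    have hj1 : c₁ ^ j ≠ 1 := fun e => hax (by
      rw [e, mul_one] at hj
      have := mul_inv_eq_iff_eq_mul.1 hj
      simp only [b, x', conj_mul] at this
      exact mul_left_cancel (mul_right_cancel this))
    obtain ⟨hjo, hjz⟩ := zpowers_eq_of_mem hc₁o ⟨j, rfl⟩ hj1
    obtain ⟨k, hk'⟩ : c₁ ^ i ∈ Subgroup.zpowers (c₁ ^ j) := hjz ▸ ⟨i, rfl⟩
    have hbc : Commute b (c₁ ^ j) := (show Commute b c₁ from hcen b hbS).zpow_right j
    have key : ∀ k : ℕ, b ^ k * x' * (b ^ k)⁻¹ = x' * (c₁ ^ j) ^ k := by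
      intro k
      induction k with
      | zero => simp
      | succ k ih =>
        rw [pow_succ b, mul_inv_rev, show b ^ k * b * x' * (b⁻¹ * (b ^ k)⁻¹) = b ^ k * (b * x' * b⁻¹) * (b ^ k)⁻¹ by
          group, hj, ← conj_mul, ih, (hbc.pow_left k).eq, mul_inv_cancel_right, mul_assoc, ← pow_succ]
    have hk3 : (c₁ ^ j) ^ k = (c₁ ^ j) ^ (k % ((3 : ℕ) : ℤ)).toNat := by
      rw [← zpow_natCast, Int.toNat_of_nonneg (Int.emod_nonneg _ (by norm_num)), ← hjo, zpow_mod_orderOf]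
    have hk'' : (c₁ ^ j) ^ k = c₁ ^ i := hk'
    have hy' : y = x' * c₁ ^ i := by rw [hi', mul_inv_cancel_left]
    have h1 : IsConj x' y := isConj_iff.2 ⟨b ^ (k % ((3 : ℕ) : ℤ)).toNat, by rw [key, ← hk3, hk'', ← hy']⟩
    exact ((isConj_iff.2 ⟨(n : G), rfl⟩ : IsConj x x').trans h1).symm

/-- The Sylow three-structure. -/
theorem three (h : JData z t Q K P B) [Fact (Nat.Prime 3)] (S : Sylow 3 G) :
    Cfsg.IsExtraspecial 3 ↥(S : Subgroup G) ∧ Nat.card (S : Subgroup G) = 27 ∧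
      Nat.card (Subgroup.normalizer ((S : Subgroup G) : Set G)) = 216 ∧
      ∀ x ∈ B, orderOf x = 3 → ∀ c ∈ K, orderOf c = 3 → ∀ y : G, orderOf y = 3 → IsConj y x ∨ IsConj y c := by
  obtain ⟨x, hxB, hxo⟩ := h.exists_three_B
  obtain ⟨c, hcK, hco⟩ := h.exists_three_K
  have hp : ∀ w : G, orderOf w = 3 → ∃ S₀ : Sylow 3 G, w ∈ (S₀ : Subgroup G) := fun w hw => by
    obtain ⟨S₀, hS₀⟩ := (IsPGroup.of_card (G := Subgroup.zpowers w) (p := 3) (n := 1)
      (by rw [Nat.card_zpowers, hw, pow_one])).exists_le_sylow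
    exact ⟨S₀, hS₀ (Subgroup.mem_zpowers w)⟩
  obtain ⟨S₀, hxS₀⟩ := hp x hxo
  obtain ⟨⟨a, ha, hax⟩, hn₀, -⟩ := h.three_main hxB hxo hcK hco S₀ hxS₀
  obtain ⟨g, hg⟩ := MulAction.exists_smul_eq G S₀ S
  have h27 := h.card_sylow_three S
  refine ⟨?_, h27, ?_, ?_⟩
  · refine CfsgLib.PGroup.OrderPCubeExtra.isExtraspecial_of_card (by rw [h27]; norm_num)
      ⟨⟨g * a * g⁻¹, hg ▸ ⟨a, ha, rfl⟩⟩, ⟨g * x * g⁻¹, hg ▸ ⟨x, hxS₀, rfl⟩⟩, fun e => hax ?_⟩
    have e' : g * a * g⁻¹ * (g * x * g⁻¹) = g * x * g⁻¹ * (g * a * g⁻¹) := congrArg Subtype.val e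
    rw [conj_mul, conj_mul] at e'
    exact mul_left_cancel (mul_right_cancel e')
  · have h1 : Nat.card (Sylow 3 G) = (Subgroup.normalizer ((S : Subgroup G) : Set G)).index :=
      Sylow.card_eq_index_normalizer S
    have h2 : Nat.card (Sylow 3 G) = (Subgroup.normalizer ((S₀ : Subgroup G) : Set G)).index :=
      Sylow.card_eq_index_normalizer S₀
    have h3 := (Subgroup.normalizer ((S : Subgroup G) : Set G)).card_mul_index
    have h4 := (Subgroup.normalizer ((S₀ : Subgroup G) : Set G)).card_mul_index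
    rw [← h1] at h3
    rw [← h2, hn₀, ← h3] at h4
    exact Nat.eq_of_mul_eq_mul_right Nat.card_pos h4.symm
  · intro x' hx' hx'o c' hc' hc'o y hy
    obtain ⟨S₁, hS₁⟩ := hp x' hx'o
    obtain ⟨S₂, hS₂⟩ := hp y hy
    obtain ⟨d, hd⟩ := MulAction.exists_smul_eq G S₂ S₁
    obtain ⟨-, -, hall⟩ := h.three_main hx' hx'o hc' hc'o S₁ hS₁
    have hyd : IsConj y (d * y * d⁻¹) := isConj_iff.2 ⟨d, rfl⟩
    exact (hall _ (hd ▸ ⟨y, hS₂, rfl⟩) (by rw [CfsgLib.Involution.Dihedral.orderOf_conj, hy])).imp hyd.trans hyd.trans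

end JData

end CfsgLib.Characterizations.HallJanko
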