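import Cfsg.Agent.Lib.Characterizations.HallJanko.ThreeCent

/-!
# Orders of the centralisers of the elements of order three and five
-/

set_option autoImplicit false
set_option linter.style.haveILetI false
set_option linter.unusedSectionVars false

namespace CfsgLib.Characterizations.HallJanko

open CfsgLib.Characterizations.HallJankoCount
open CfsgLib.Involution.Dihedral

variable {G : Type*} [Group G] [Finite G] {z t : G} {Q K P B : Subgroup G}

namespace JData

theorem exists_three_K (h : JData z t Q K P B) : ∃ c ∈ K, orderOf c = 3 := by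
  obtain ⟨eK⟩ := h.m.hj.setting.alt
  haveI : Fact (Nat.Prime 3) := ⟨by norm_num⟩
  exact alt5_exists_orderOf eK (by norm_num)

theorem exists_three_B (h : JData z t Q K P B) : ∃ x ∈ B, orderOf x = 3 := by
  obtain ⟨eB⟩ := h.altB
  haveI : Fact (Nat.Prime 3) := ⟨by norm_num⟩
  exact alt5_exists_orderOf eB (by norm_num)

theorem cent_zg (h : JData z t Q K P B) {g : G} (hg : g ∈ K) (hgo : orderOf g = 5) {w : G}
    (hwz : w * z = z * w) (hwg : w * g = g * w) :
    w ∈ Subgroup.zpowers g ∨ ∃ i : ℤ, w = z * g ^ i := by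
  obtain ⟨eK⟩ := h.m.hj.setting.alt
  obtain ⟨q, hq, k, hk, rfl⟩ := h.m.hj.dec (mem_cz.2 hwz)
  have e1 : g * (q * k) * g⁻¹ = q * k := by rw [← hwg, mul_inv_cancel_right]
  rw [← conj_mul] at e1
  obtain ⟨e2, e3⟩ := h.m.hj.dec_unique (h.m.hj.setting.norm g hg q hq) (mul_mem (mul_mem hg hk) (inv_mem hg))
    hq hk e1
  have hk' := (alt5_odd_mem eK hg (Or.inr hgo)).1 k hk (mul_inv_eq_iff_eq_mul.1 e3)
  rcases fixed_five h.m.hj.setting.pre hg hgo hq e2 with rfl | rfl
  · left; rwa [one_mul]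
  · obtain ⟨i, rfl⟩ := hk'
    exact Or.inr ⟨i, rfl⟩

set_option maxHeartbeats 1000000 in
/-- The centraliser of an element of order five of `K`. -/
theorem cent_five_K (h : JData z t Q K P B) {g : G} (hg : g ∈ K) (hgo : orderOf g = 5) :
    Nat.card (Subgroup.centralizer ({g} : Set G)) = 50 := by
  classical
  haveI : Fact (Nat.Prime 5) := ⟨by norm_num⟩
  haveI : Fact (Nat.Prime 2) := ⟨Nat.prime_two⟩
  obtain ⟨S, hS⟩ := (IsPGroup.of_card (G := Subgroup.zpowers g) (p := 5) (n := 1)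
    (by rw [Nat.card_zpowers, hgo, pow_one])).exists_le_sylow
  have hgS : g ∈ (S : Subgroup G) := hS (Subgroup.mem_zpowers g)
  obtain ⟨hSc, hS25, -, -⟩ := h.five S
  have hab := h.sylow_five_comm S
  have hgz : g * z = z * g := h.m.hj.setting.cent g hg
  have hzz : z * z = 1 := h.m.hj.setting.extra.z_sq
  have hz1 : z ≠ 1 := h.m.hj.setting.extra.z_ne
  set Y := Subgroup.centralizer ({g} : Set G) with hY
  have hzY : z ∈ Y := mem_cz.2 hgz.symm
  have hgY : g ∈ Y := mem_cz.2 rfl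
  have hSY : (S : Subgroup G) ≤ Y := fun s hs => mem_cz.2 (hab s hs g hgS)
  have hg5 : ∀ i : ℤ, orderOf (g ^ i) ∣ 5 := fun i => by
    rw [← hgo, ← Nat.card_zpowers g]; exact Subgroup.orderOf_dvd_natCard _ ⟨i, rfl⟩
  let zY : ↥Y := ⟨z, hzY⟩
  have hzY2 : orderOf zY = 2 := by rw [← Subgroup.orderOf_coe]; exact h.m.hj.hz
  -- the Sylow two-subgroup
  have h4 : ¬ 4 ∣ Nat.card Y := by
    intro h4
    obtain ⟨T, hT⟩ := (IsPGroup.of_card (G := Subgroup.zpowers zY) (p := 2) (n := 1)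
      (by rw [Nat.card_zpowers, hzY2, pow_one])).exists_le_sylow
    have h4T : 2 ^ 2 ∣ Nat.card (T : Subgroup ↥Y) := T.pow_dvd_card_of_pow_dvd_card (by simpa using h4)
    haveI : Group.IsNilpotent (T : Subgroup ↥Y) := T.2.isNilpotent
    let Z' := (Subgroup.zpowers zY).subgroupOf (T : Subgroup ↥Y)
    have hlt : Z' < ⊤ := by
      refine lt_top_iff_ne_top.2 fun e => ?_
      have h2 := Subgroup.card_le_of_le (Subgroup.subgroupOf_eq_top.1 e)
      have h3 := Nat.le_of_dvd Nat.card_pos h4T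
      rw [Nat.card_zpowers, hzY2] at h2
      omega
    obtain ⟨n, hn, hnZ⟩ := SetLike.exists_of_lt (Group.normalizerCondition_of_isNilpotent Z' hlt)
    apply hnZ
    have hm : (n : ↥Y) * zY * (n : ↥Y)⁻¹ ∈ Subgroup.zpowers zY :=
      (Subgroup.mem_normalizer_iff.1 hn ⟨zY, hT (Subgroup.mem_zpowers _)⟩).1 (Subgroup.mem_zpowers _)
    have hcz : ((n : ↥Y) : G) * z = z * ((n : ↥Y) : G) := by
      rcases (CfsgLib.ThreeTransp.Extraspecial.mem_zpowers_involution (Subtype.ext hzz)).1 hm with e | e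
      · have e' := conj_eq_one_iff.1 e
        exact absurd (congrArg Subtype.val e') hz1
      · exact congrArg Subtype.val (mul_inv_eq_iff_eq_mul.1 e)
    obtain ⟨k, hk⟩ := IsPGroup.iff_orderOf.1 T.2 n
    have hno : orderOf ((n : ↥Y) : G) = 2 ^ k := by
      rw [Subgroup.orderOf_coe, Subgroup.orderOf_coe, hk]
    have hco : ∀ i : ℤ, orderOf (g ^ i) ∣ 2 ^ k → g ^ i = 1 := fun i hd => orderOf_eq_one_iff.1
      (Nat.eq_one_of_dvd_coprimes ((by norm_num : Nat.Coprime 2 5).pow_left k) hd (hg5 i))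
    show (n : ↥Y) ∈ Subgroup.zpowers zY
    rcases h.cent_zg hg hgo hcz (mem_cz.1 (n : ↥Y).2) with ⟨i, hi⟩ | ⟨i, hi⟩
    · have hi' : g ^ i = ((n : ↥Y) : G) := hi
      have h1 := hco i (by rw [hi', hno])
      have : (n : ↥Y) = 1 := Subtype.ext (hi'.symm.trans h1)
      rw [this]; exact one_mem _
    · have hd : orderOf (g ^ i) ∣ 2 ^ k * 2 := by
        refine orderOf_dvd_of_pow_eq_one ?_
        have hcm : Commute z (g ^ i) := (show Commute z g from hgz.symm).zpow_right i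
        have h1 : (g ^ i) = z * ((n : ↥Y) : G) := by rw [hi, ← mul_assoc, hzz, one_mul]
        rw [h1, (show Commute z ((n : ↥Y) : G) from hcz.symm).mul_pow, pow_mul' z, pow_two z, hzz, one_pow, one_mul,
          pow_mul, ← hno, pow_orderOf_eq_one, one_pow]
      rw [← pow_succ] at hd
      have h1 : g ^ i = 1 := orderOf_eq_one_iff.1
        (Nat.eq_one_of_dvd_coprimes ((by norm_num : Nat.Coprime 2 5).pow_left (k + 1)) hd (hg5 i))
      have : (n : ↥Y) = zY := Subtype.ext (by rw [hi, h1, mul_one])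
      rw [this]; exact Subgroup.mem_zpowers _
  -- the normal complement
  have h2 : 2 ∣ Nat.card Y := hzY2 ▸ orderOf_dvd_natCard zY
  obtain ⟨T⟩ : Nonempty (Sylow 2 ↥Y) := inferInstance
  have hTcard : Nat.card (T : Subgroup ↥Y) = 2 := by
    obtain ⟨k, hk⟩ := T.2.exists_card_eq
    have h1 : 2 ^ 1 ∣ Nat.card (T : Subgroup ↥Y) := T.pow_dvd_card_of_pow_dvd_card (by simpa using h2)
    rw [hk] at h1 ⊢
    have hk1 : 1 ≤ k := (Nat.pow_dvd_pow_iff_le_right (by norm_num : 1 < 2)).1 h1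
    have hk2 : k < 2 := by
      by_contra hge
      push Not at hge
      exact h4 ((pow_dvd_pow 2 hge).trans (hk ▸ Subgroup.card_subgroup_dvd_card _))
    interval_cases k
    norm_num
  haveI : IsCyclic (T : Subgroup ↥Y) := isCyclic_of_prime_card (p := 2) hTcard
  obtain ⟨T', N, hNn, hNc⟩ := CfsgLib.Fusion.Abelian.npc_of_arith T (IsCyclic.isMulCommutative ) (by
    intro q hq _ hq2 d hd hlt
    rw [hTcard] at hd hlt ⊢
    have hd1 : d = 1 := by
      have := Nat.pos_of_dvd_of_pos hd (by norm_num)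
      omega
    subst hd1
    exact fun hdvd => hq.ne_one (Nat.dvd_one.1 hdvd))
  have hT' : Nat.card (T' : Subgroup ↥Y) = 2 := by
    rw [Sylow.card_eq_multiplicity] at hTcard ⊢
    exact hTcard
  have hN : Nat.card N * 2 = Nat.card Y := by rw [← hNc.card_mul, hT']
  have hNodd : ¬ 2 ∣ Nat.card N := fun hd => h4 (by
    rw [← hN]; obtain ⟨m, hm⟩ := hd; exact ⟨m, by rw [hm]; ring⟩)
  have hidx : N.index = 2 := by
    have := N.card_mul_index
    rw [← hN] at this
    exact Nat.eq_of_mul_eq_mul_left Nat.card_pos this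
  have hodd : ∀ w : ↥Y, orderOf w ∣ 25 → w ∈ N := fun w hw => by
    have h1 : (w * w) ^ 13 = w := by
      rw [← pow_two, ← pow_mul, show 2 * 13 = 25 + 1 from rfl, pow_succ, orderOf_dvd_iff_pow_eq_one.1 hw, one_mul]
    rw [← h1]
    exact pow_mem (Subgroup.mul_self_mem_of_index_two hidx w) 13
  let gY : ↥Y := ⟨g, hgY⟩
  have hgN : gY ∈ N := hodd gY (by rw [← Subgroup.orderOf_coe]; exact hgo ▸ (by norm_num : (5 : ℕ) ∣ 25))
  let gN : Subgroup ↥N := (Subgroup.zpowers gY).subgroupOf N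
  haveI : gN.Normal := ⟨fun a ha b => by
    obtain ⟨i, hi⟩ := ha
    refine ⟨i, ?_⟩
    have hcb : Commute ((b : ↥Y)) gY := Subtype.ext (mem_cz.1 (b : ↥Y).2)
    show gY ^ i = (b : ↥Y) * (a : ↥Y) * (b : ↥Y)⁻¹
    rw [show (a : ↥Y) = gY ^ i from hi.symm, (hcb.zpow_right i).eq, mul_inv_cancel_right]⟩
  haveI := hNn
  let φ : ↥N →* ↥N :=
    { toFun := fun a => ⟨zY * (a : ↥Y) * zY⁻¹, hNn.conj_mem _ a.2 zY⟩
      map_one' := Subtype.ext (by simp)
      map_mul' := fun a b => Subtype.ext (conj_mul).symm }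
  have hφg : gN ≤ gN.comap φ := fun a ha => by
    obtain ⟨i, hi⟩ := ha
    refine ⟨i, ?_⟩
    have hcb : Commute zY gY := Subtype.ext hgz.symm
    show gY ^ i = zY * (a : ↥Y) * zY⁻¹
    rw [show (a : ↥Y) = gY ^ i from hi.symm, (hcb.zpow_right i).eq, mul_inv_cancel_right]
  let ψ : ↥N ⧸ gN →* ↥N ⧸ gN := QuotientGroup.map gN gN φ hφg
  have hinv : Function.Involutive ψ := fun a => by
    induction a using QuotientGroup.induction_on with
    | H a =>
      show (QuotientGroup.mk (φ (φ a)) : ↥N ⧸ gN) = _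
      refine congrArg _ (Subtype.ext ?_)
      show zY * (zY * (a : ↥Y) * zY⁻¹) * zY⁻¹ = a
      have e : zY * zY = 1 := Subtype.ext hzz
      rw [show zY * (zY * (a : ↥Y) * zY⁻¹) * zY⁻¹ = (zY * zY) * a * (zY * zY)⁻¹ by group, e]
      group
  have hfree : MonoidHom.FixedPointFree ψ := fun a => by
    induction a using QuotientGroup.induction_on with
    | H a =>
      intro ha
      have hm : (a⁻¹ * φ a : ↥N) ∈ gN := QuotientGroup.eq.1 ha.symm
      obtain ⟨i, hi⟩ := hm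
      have hi' : g ^ i = ((a : ↥Y) : G)⁻¹ * (z * (a : ↥Y) * z⁻¹) := congrArg Subtype.val hi
      have hag : ((a : ↥Y) : G) * g = g * (a : ↥Y) := mem_cz.1 (a : ↥Y).2
      have hzg : z * g ^ i * z⁻¹ = g ^ i := by
        rw [((show Commute z g from hgz.symm).zpow_right i).eq, mul_inv_cancel_right]
      have hsq : g ^ i * g ^ i = 1 := by
        have e : z * ((a : ↥Y) : G) * z⁻¹ = (a : ↥Y) * g ^ i := by rw [hi', mul_inv_cancel_left]
        have e2 : z * (z * ((a : ↥Y) : G) * z⁻¹) * z⁻¹ = (a : ↥Y) := by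
          rw [show z * (z * ((a : ↥Y) : G) * z⁻¹) * z⁻¹ = (z * z) * (a : ↥Y) * (z * z)⁻¹ by group, hzz]; group
        rw [e, ← conj_mul, e, hzg, mul_assoc] at e2
        exact mul_eq_left.1 e2
      have hgi : g ^ i = 1 := orderOf_eq_one_iff.1 (Nat.eq_one_of_dvd_coprimes (by norm_num : Nat.Coprime 2 5)
        (orderOf_dvd_of_pow_eq_one (by rw [pow_two, hsq])) (hg5 i))
      rw [hgi] at hi'
      have hca : ((a : ↥Y) : G) * z = z * (a : ↥Y) :=
        (mul_inv_eq_iff_eq_mul.1 (inv_mul_eq_one.1 hi'.symm).symm).symm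
      rcases h.cent_zg hg hgo hca hag with ⟨j, hj⟩ | ⟨j, hj⟩
      · exact (QuotientGroup.eq_one_iff a).2 ⟨j, Subtype.ext hj⟩
      · exfalso
        have hmem : zY ∈ N := by
          have : (a : ↥Y) * (gY ^ j)⁻¹ = zY := Subtype.ext (by simp [hj, gY, zY])
          rw [← this]
          exact mul_mem a.2 (inv_mem (zpow_mem hgN j))
        exact hNodd (hzY2 ▸ Subgroup.orderOf_dvd_natCard _ hmem)
  have hcomm : ∀ a b : ↥N, ∃ i : ℤ, ((a : ↥Y) : G) * (b : ↥Y) * ((a : ↥Y) : G)⁻¹ = (b : ↥Y) * g ^ i := by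
    intro a b
    have e := hfree.commute_all_of_involutive hinv (QuotientGroup.mk b) (QuotientGroup.mk a)
    have e' : (QuotientGroup.mk b : ↥N ⧸ gN) = QuotientGroup.mk (a * b * a⁻¹) := by
      rw [QuotientGroup.mk_mul, QuotientGroup.mk_mul, QuotientGroup.mk_inv, ← e.eq, mul_inv_cancel_right]
    obtain ⟨i, hi⟩ := QuotientGroup.eq.1 e'
    have hi' : g ^ i = ((b : ↥Y) : G)⁻¹ * ((a : ↥Y) * (b : ↥Y) * ((a : ↥Y) : G)⁻¹) := congrArg Subtype.val hi
    exact ⟨i, by rw [hi', mul_inv_cancel_left]⟩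
  have hsN : ∀ s (hs : s ∈ (S : Subgroup G)), (⟨s, hSY hs⟩ : ↥Y) ∈ N := fun s hs => hodd _ (by
    rw [← Subgroup.orderOf_coe, ← hS25]; exact Subgroup.orderOf_dvd_natCard _ hs)
  have hNS : ∀ a : ↥N, ((a : ↥Y) : G) ∈ (S : Subgroup G) := by
    intro a
    set x := ((a : ↥Y) : G) with hx
    have hxg : Commute x g := mem_cz.1 (a : ↥Y).2
    have hxN : x ∈ Subgroup.normalizer ((S : Subgroup G) : Set G) :=
      CfsgLib.ThompsonWielandt.mem_normalizer_of_forall fun s hs => by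
        obtain ⟨i, hi⟩ := hcomm a ⟨⟨s, hSY hs⟩, hsN s hs⟩
        have hi' : x * s * x⁻¹ = s * g ^ i := hi
        rw [hi']
        exact mul_mem hs (zpow_mem hgS i)
    have hx5 : x ^ 5 ∈ (S : Subgroup G) := by
      rw [← hSc]
      refine Subgroup.mem_centralizer_iff.2 fun s hs => ?_
      obtain ⟨i, hi⟩ := hcomm a ⟨⟨s, hSY hs⟩, hsN s hs⟩
      have hi' : x * s * x⁻¹ = s * g ^ i := hi
      have key : ∀ n : ℕ, x ^ n * s * (x ^ n)⁻¹ = s * (g ^ i) ^ n := by
        intro n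
        induction n with
        | zero => simp
        | succ n ih =>
          rw [pow_succ x, mul_inv_rev, show x ^ n * x * s * (x⁻¹ * (x ^ n)⁻¹) = x ^ n * (x * s * x⁻¹) * (x ^ n)⁻¹ by
            group, hi', ← conj_mul, ih, ((hxg.pow_left n).zpow_right i).eq, mul_inv_cancel_right, mul_assoc,
            ← pow_succ]
      have h5 := key 5
      rw [orderOf_dvd_iff_pow_eq_one.1 (hg5 i), mul_one] at h5
      exact (mul_inv_eq_iff_eq_mul.1 h5).symm
    have hxo : orderOf x ∣ 5 ^ 3 := by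
      refine orderOf_dvd_of_pow_eq_one ?_
      rw [show 5 ^ 3 = 5 * 25 by norm_num, pow_mul]
      exact orderOf_dvd_iff_pow_eq_one.1 (hS25 ▸ Subgroup.orderOf_dvd_natCard _ hx5)
    have hxp : IsPGroup 5 (Subgroup.zpowers x) := by
      obtain ⟨k, -, hk⟩ := (Nat.dvd_prime_pow (Fact.out : Nat.Prime 5)).1 hxo
      exact IsPGroup.of_card (n := k) (by rw [Nat.card_zpowers, hk])
    have hsup : IsPGroup 5 (((S : Subgroup G) ⊔ Subgroup.zpowers x : Subgroup G)) :=
      S.2.to_sup_of_normal_left' hxp (Subgroup.zpowers_le.2 hxN)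
    have := S.3 hsup le_sup_left
    rw [← this]
    exact le_sup_right (a := (S : Subgroup G)) (Subgroup.mem_zpowers x)
  have hN25 : Nat.card N = 25 := by
    rw [← hS25]
    exact Nat.card_congr
      { toFun := fun a => ⟨((a : ↥Y) : G), hNS a⟩
        invFun := fun s => ⟨⟨s, hSY s.2⟩, hsN s s.2⟩
        left_inv := fun a => rfl
        right_inv := fun a => rfl }
  omega

theorem not_isConj_three (h : JData z t Q K P B) {x c : G} (hx : x ∈ B) (hxo : orderOf x = 3) (hc : c ∈ K) :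
    ¬ IsConj c x := by
  intro e
  obtain ⟨g, hg⟩ := isConj_iff.1 e
  have hzz := h.m.hj.setting.extra.z_sq
  have hcl := (h.odd_centraliser (Or.inl rfl) hx hxo).1 (g * z * g⁻¹) (by rw [conj_mul, hzz, mul_one, mul_inv_cancel])
    (fun e' => h.m.hj.setting.extra.z_ne (conj_eq_one_iff.1 e'))
    (by rw [← hg, conj_mul, conj_mul, h.m.hj.setting.cent c hc])
  exact h.m.not_isConj ((hcl.trans (isConj_iff.2 ⟨g, rfl⟩).symm).symm)

theorem nine_dvd (h : JData z t Q K P B) {x : G} (hxo : orderOf x = 3) :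
    9 ∣ Nat.card (Subgroup.centralizer ({x} : Set G)) := by
  haveI : Fact (Nat.Prime 3) := ⟨by norm_num⟩
  obtain ⟨S, hS⟩ := (IsPGroup.of_card (G := Subgroup.zpowers x) (p := 3) (n := 1)
    (by rw [Nat.card_zpowers, hxo, pow_one])).exists_le_sylow
  have h27 : 3 ^ 3 ∣ Nat.card (S : Subgroup G) := S.pow_dvd_card_of_pow_dvd_card (by rw [h.card]; norm_num)
  have hxS : x ∈ (S : Subgroup G) := hS (Subgroup.mem_zpowers x)
  let C' : Subgroup G := (S : Subgroup G) ⊓ Subgroup.centralizer ({x} : Set G)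
  refine dvd_trans ?_ (Subgroup.card_dvd_of_le (inf_le_right : C' ≤ _))
  obtain ⟨k, hk⟩ := (S.2.to_le (inf_le_left : C' ≤ _)).exists_card_eq
  rw [hk]
  suffices 2 ≤ k from (show 9 = 3 ^ 2 by norm_num) ▸ pow_dvd_pow 3 this
  by_contra hlt
  push Not at hlt
  have hCle : Nat.card C' ≤ 3 := hk ▸ (Nat.pow_le_pow_right (by norm_num) (by omega : k ≤ 1)).trans_eq (pow_one 3)
  have hzx : Subgroup.zpowers x = C' := Subgroup.eq_of_le_of_card_ge
    (Subgroup.zpowers_le.2 (Subgroup.mem_inf.2 ⟨hxS, mem_cz.2 rfl⟩)) (by rw [Nat.card_zpowers, hxo]; exact hCle)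
  haveI : Nontrivial (S : Subgroup G) :=
    ⟨⟨⟨x, hxS⟩, 1, fun e => ne_one_of_orderOf hxo (by norm_num) (congrArg Subtype.val e)⟩⟩
  haveI := S.2.center_nontrivial
  obtain ⟨w, hw⟩ := exists_ne (1 : Subgroup.center (S : Subgroup G))
  have hwc : ∀ s ∈ (S : Subgroup G), s * ((w : (S : Subgroup G)) : G) = ((w : (S : Subgroup G)) : G) * s :=
    fun s hs => congrArg Subtype.val (Subgroup.mem_center_iff.1 w.2 ⟨s, hs⟩)
  have hwC : ((w : (S : Subgroup G)) : G) ∈ Subgroup.zpowers x := by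
    rw [hzx]; exact Subgroup.mem_inf.2 ⟨(w : (S : Subgroup G)).2, mem_cz.2 (hwc x hxS).symm⟩
  have hwx := (zpowers_eq_of_mem hxo hwC (fun e => hw (Subtype.ext (Subtype.ext e)))).2
  have hSC : (S : Subgroup G) ≤ C' := fun s hs => by
    refine Subgroup.mem_inf.2 ⟨hs, mem_cz.2 ?_⟩
    obtain ⟨j, hj⟩ := (hwx.symm ▸ Subgroup.mem_zpowers x : x ∈ Subgroup.zpowers ((w : (S : Subgroup G)) : G))
    have hj' : ((w : (S : Subgroup G)) : G) ^ j = x := hj
    rw [← hj']
    exact ((show Commute s _ from hwc s hs).zpow_right j).eq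
  have h1 := Subgroup.card_le_of_le hSC
  have h2 := Nat.le_of_dvd Nat.card_pos h27
  omega

/-- The centraliser of an element of order three of `B`. -/
theorem card_cent_x (h : JData z t Q K P B) {x : G} (hx : x ∈ B) (hxo : orderOf x = 3) :
    Nat.card (Subgroup.centralizer ({x} : Set G)) = 36 ∧
      ∀ c ∈ Subgroup.centralizer ({x} : Set G), ∀ v ∈ P, c * v * c⁻¹ ∈ P := by
  haveI : Fact (Nat.Prime 5) := ⟨by norm_num⟩
  obtain ⟨-, hcases⟩ := h.odd_centraliser (Or.inl rfl) hx hxo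
  have h9 := h.nine_dvd hxo
  rcases hcases with ⟨hc | hc, hn⟩ | ⟨hc, -⟩
  · rw [hc] at h9; norm_num at h9
  · exact ⟨by rw [hc], hn⟩
  exfalso
  obtain ⟨c, hcK, hco⟩ := h.exists_three_K
  obtain ⟨⟨w, hwC⟩, hw⟩ := exists_prime_orderOf_dvd_card' (G := Subgroup.centralizer ({x} : Set G)) 5
    (by rw [hc]; norm_num)
  rw [← Subgroup.orderOf_coe] at hw
  simp only at hw
  have hwx : w * x = x * w := mem_cz.1 hwC
  obtain ⟨S, hS⟩ := (IsPGroup.of_card (G := Subgroup.zpowers w) (p := 5) (n := 1)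
    (by rw [Nat.card_zpowers, hw, pow_one])).exists_le_sylow
  obtain ⟨-, -, -, hall⟩ := h.five S
  obtain ⟨r, hrB, hr⟩ := h.exists_five_B
  obtain ⟨g₀, hg₀, hg₀o⟩ := h.m.hj.setting.pre.has_five
  obtain ⟨g, hg⟩ := hall r hrB hr g₀ hg₀ hg₀o w hw
  have hne : g * w * g⁻¹ ≠ 1 := fun e => ne_one_of_orderOf hw (by norm_num) (conj_eq_one_iff.1 e)
  have hc' : Commute (g * x * g⁻¹) (g * w * g⁻¹) := by
    show _ * _ = _ * _
    rw [conj_mul, conj_mul, hwx]
  have hxo' : orderOf (g * x * g⁻¹) = 3 := by rw [CfsgLib.Involution.Dihedral.orderOf_conj, hxo]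
  rcases hg with hg | hg
  · obtain ⟨j, hj⟩ := (zpowers_eq_of_mem hr hg hne).2.symm ▸ Subgroup.mem_zpowers r
    have hr' : Commute (g * x * g⁻¹) r := hj ▸ hc'.zpow_right j
    exact h.not_isConj_three hx hxo hcK
      ((h.exists_three_cent_r hrB hr hcK hco _ hxo' hr'.eq).symm.trans (isConj_iff.2 ⟨g, rfl⟩).symm)
  · obtain ⟨j, hj⟩ := (zpowers_eq_of_mem hg₀o hg hne).2.symm ▸ Subgroup.mem_zpowers g₀
    have hr' : Commute (g * x * g⁻¹) g₀ := hj ▸ hc'.zpow_right j
    have hd := Subgroup.orderOf_dvd_natCard (Subgroup.centralizer ({g₀} : Set G)) (mem_cz.2 hr'.eq)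
    rw [hxo', h.cent_five_K hg₀ hg₀o] at hd
    norm_num at hd

set_option maxHeartbeats 1000000 in
/-- The centraliser of an element of order three of `K`. -/
theorem card_cent_c (h : JData z t Q K P B) {c : G} (hc : c ∈ K) (hco : orderOf c = 3) :
    Nat.card (Subgroup.centralizer ({c} : Set G)) = 1080 := by
  classical
  haveI : Fact (Nat.Prime 5) := ⟨by norm_num⟩
  haveI : Fact (Nat.Prime 3) := ⟨by norm_num⟩
  obtain ⟨r, hrB, hr⟩ := h.exists_five_B
  obtain ⟨-, h300, π, hπs, hπ, huniq⟩ := h.exists_pi hrB hr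
  obtain ⟨⟨y, hyH⟩, hy⟩ := exists_prime_orderOf_dvd_card' (G := Subgroup.centralizer ({r} : Set G)) 3
    (by rw [h300]; norm_num)
  have hyo : orderOf y = 3 := by rw [← Subgroup.orderOf_coe] at hy; exact hy
  have hyr : y * r = r * y := mem_cz.1 hyH
  obtain ⟨g, hg⟩ := isConj_iff.1 (h.exists_three_cent_r hrB hr hc hco y hyo hyr)
  have hcard : Nat.card (Subgroup.centralizer ({c} : Set G)) = Nat.card (Subgroup.centralizer ({y} : Set G)) := by
    rw [← hg, card_cent_conj]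
  obtain ⟨h8, h16⟩ := h.m.two_part hc hco
  have h9 := h.nine_dvd hyo
  rw [hcard] at h8 h16 ⊢
  set Y := Subgroup.centralizer ({y} : Set G) with hY
  have hrY : r ∈ Y := mem_cz.2 hyr.symm
  have h5 : 5 ∣ Nat.card Y := hr ▸ Subgroup.orderOf_dvd_natCard _ hrY
  obtain ⟨R, hR⟩ := (IsPGroup.of_card (G := Subgroup.zpowers (⟨r, hrY⟩ : ↥Y)) (p := 5) (n := 1)
    (by rw [Nat.card_zpowers, ← Subgroup.orderOf_coe, hr, pow_one])).exists_le_sylow
  have hRp : IsPGroup 5 ((R : Subgroup ↥Y).map Y.subtype) := R.2.map _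
  obtain ⟨S, hS⟩ := hRp.exists_le_sylow
  have hR5 : Nat.card (R : Subgroup ↥Y) = 5 := by
    obtain ⟨k, hk⟩ := R.2.exists_card_eq
    have hle : Nat.card ((R : Subgroup ↥Y).map Y.subtype) ∣ Nat.card (S : Subgroup G) := Subgroup.card_dvd_of_le hS
    rw [Subgroup.card_map_of_injective Y.subtype_injective, h.card_sylow_five S, hk,
      show (25 : ℕ) = 5 ^ 2 by norm_num, Nat.pow_dvd_pow_iff_le_right (by norm_num : 1 < 5)] at hle
    have h1 : 5 ∣ Nat.card (R : Subgroup ↥Y) := by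
      have := Subgroup.card_dvd_of_le hR
      rwa [Nat.card_zpowers, ← Subgroup.orderOf_coe, hr] at this
    rw [hk] at h1 ⊢
    interval_cases k
    · norm_num at h1
    · norm_num
    · exfalso
      have hSeq : (R : Subgroup ↥Y).map Y.subtype = (S : Subgroup G) := Subgroup.eq_of_le_of_card_ge hS (by
        rw [Subgroup.card_map_of_injective Y.subtype_injective, h.card_sylow_five S, hk]; norm_num)
      have hyS : y ∈ (S : Subgroup G) := by
        rw [← (h.five S).1]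
        refine Subgroup.mem_centralizer_iff.2 fun s hs => ?_
        rw [← hSeq] at hs
        obtain ⟨a, -, rfl⟩ := hs
        exact mem_cz.1 a.2
      have := Subgroup.orderOf_dvd_natCard _ hyS
      rw [hyo, h.card_sylow_five S] at this
      norm_num at this
  have hRr : (R : Subgroup ↥Y) = Subgroup.zpowers (⟨r, hrY⟩ : ↥Y) :=
    (Subgroup.eq_of_le_of_card_ge hR (by rw [Nat.card_zpowers, ← Subgroup.orderOf_coe, hr, hR5])).symm
  have h25 : ¬ 25 ∣ Nat.card Y := fun hd => by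
    have := R.pow_dvd_card_of_pow_dvd_card (n := 2) (by simpa using hd)
    rw [hR5] at this
    norm_num at this
  -- the normaliser of `R`
  let NR := Subgroup.normalizer ((R : Subgroup ↥Y) : Set ↥Y)
  have hrR : (⟨r, hrY⟩ : ↥Y) ∈ (R : Subgroup ↥Y) := by rw [hRr]; exact Subgroup.mem_zpowers _
  haveI := Fintype.ofFinite ↥NR
  let f : ↥NR → G := fun n => ((n : ↥Y) : G) * r * ((n : ↥Y) : G)⁻¹
  obtain ⟨S', hS'⟩ := (IsPGroup.of_card (G := Subgroup.zpowers r) (p := 5) (n := 1)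
    (by rw [Nat.card_zpowers, hr, pow_one])).exists_le_sylow
  obtain ⟨-, hnorm, -, -, -⟩ := h.five_main hrB hr S' (hS' (Subgroup.mem_zpowers r))
  have hfR : ∀ n, f n = r ∨ f n = r⁻¹ := fun n => hnorm _ (by
    have hm := (Subgroup.mem_normalizer_iff.1 n.2 _).1 hrR
    rw [hRr] at hm
    obtain ⟨j, hj⟩ := hm
    exact ⟨j, congrArg Subtype.val hj⟩)
  let C15 : Subgroup G := Y ⊓ Subgroup.centralizer ({r} : Set G)
  have hC15 : Nat.card C15 = 15 := by
    let Yh : ↥(Subgroup.centralizer ({r} : Set G)) := ⟨y, hyH⟩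
    have hY3 : Yh ^ 3 = 1 := Subtype.ext (show y ^ 3 = 1 from hyo ▸ pow_orderOf_eq_one y)
    have hσ : orderOf (π Yh) = 3 := orderOf_eq_prime (by rw [← map_pow, hY3, map_one]) fun e =>
      ne_one_of_orderOf hyo (by norm_num) (congrArg Subtype.val (huniq 3 (by norm_num) Yh 1 hY3 (one_pow 3)
        (by rw [e, map_one])))
    rw [show (15 : ℕ) = 3 * 5 from rfl, ← hyo, ← hr, ← Nat.card_zpowers, ← Nat.card_zpowers r, ← Nat.card_prod]
    symm
    refine Nat.card_congr (Equiv.ofBijective (fun p : ↥(Subgroup.zpowers y) × ↥(Subgroup.zpowers r) =>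
      ⟨p.1 * p.2, Subgroup.mem_inf.2 ⟨mul_mem (Subgroup.zpowers_le.2 (mem_cz.2 rfl) p.1.2)
        (Subgroup.zpowers_le.2 hrY p.2.2), mul_mem (Subgroup.zpowers_le.2 hyH p.1.2)
        (Subgroup.zpowers_le.2 (mem_cz.2 rfl) p.2.2)⟩⟩) ⟨?_, ?_⟩)
    · rintro ⟨a, b⟩ ⟨a', b'⟩ e
      have e' : (a : G) * b = a' * b' := congrArg Subtype.val e
      have h3 : orderOf ((a' : G)⁻¹ * a) ∣ 3 := by
        rw [← hyo, ← Nat.card_zpowers y]; exact Subgroup.orderOf_dvd_natCard _ (mul_mem (inv_mem a'.2) a.2)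
      have h5' : orderOf ((a' : G)⁻¹ * a) ∣ 5 := by
        rw [show (a' : G)⁻¹ * a = (b' : G) * (b : G)⁻¹ by
          rw [eq_mul_inv_iff_mul_eq, mul_assoc, e', inv_mul_cancel_left], ← hr, ← Nat.card_zpowers r]
        exact Subgroup.orderOf_dvd_natCard _ (mul_mem b'.2 (inv_mem b.2))
      have ha : (a' : G) = a := inv_mul_eq_one.1 (orderOf_eq_one_iff.1
        (Nat.eq_one_of_dvd_coprimes (by norm_num : Nat.Coprime 3 5) h3 h5'))
      rw [ha] at e'
      exact Prod.ext (Subtype.ext ha.symm) (Subtype.ext (mul_left_cancel e'))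
    · rintro ⟨w, hw⟩
      obtain ⟨hwY, hwH⟩ := Subgroup.mem_inf.1 hw
      have hcm : π Yh * π ⟨w, hwH⟩ = π ⟨w, hwH⟩ * π Yh := by
        rw [← map_mul, ← map_mul]; exact congrArg π (Subtype.ext (mem_cz.1 hwY).symm)
      obtain ⟨i, hi⟩ := (alt5_odd (MulEquiv.refl _) (Or.inl hσ)).1 _ hcm
      have hi' : π Yh ^ i = π ⟨w, hwH⟩ := hi
      obtain ⟨j, hj⟩ := (hπ (Yh ^ (-i) * ⟨w, hwH⟩)).1 (by rw [map_mul, map_zpow, ← hi', zpow_neg, inv_mul_cancel])
      refine ⟨(⟨y ^ i, ⟨i, rfl⟩⟩, ⟨r ^ j, ⟨j, rfl⟩⟩), Subtype.ext ?_⟩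
      show y ^ i * r ^ j = w
      rw [show r ^ j = y ^ (-i) * w from hj, ← mul_assoc, ← zpow_add, add_neg_cancel, zpow_zero, one_mul]
  have hfib : ∀ b ∈ Finset.univ.image f, (Finset.univ.filter fun n : ↥NR => f n = b).card ≤ 15 := by
    intro b hb
    obtain ⟨n₁, -, rfl⟩ := Finset.mem_image.1 hb
    rw [← hC15, ← Nat.card_eq_finsetCard]
    refine Nat.card_le_card_of_injective (fun n => ⟨((n₁ : ↥Y) : G)⁻¹ * ((n.1 : ↥Y) : G),
      Subgroup.mem_inf.2 ⟨mul_mem (inv_mem (n₁ : ↥Y).2) (n.1 : ↥Y).2, mem_cz.2 ?_⟩⟩)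
      fun a b e => Subtype.ext (Subtype.ext (Subtype.ext (mul_left_cancel (congrArg Subtype.val e))))
    have e : ((n.1 : ↥Y) : G) * r * ((n.1 : ↥Y) : G)⁻¹ = ((n₁ : ↥Y) : G) * r * ((n₁ : ↥Y) : G)⁻¹ :=
      (Finset.mem_filter.1 n.2).2
    calc ((n₁ : ↥Y) : G)⁻¹ * (n.1 : ↥Y) * r = ((n₁ : ↥Y) : G)⁻¹ * (((n.1 : ↥Y) : G) * r * ((n.1 : ↥Y) : G)⁻¹) * (n.1 : ↥Y) := by group
      _ = _ := by rw [e]; group
  have hNR30 : Nat.card NR ≤ 30 := by
    have h1 := Finset.card_le_mul_card_image Finset.univ 15 hfib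
    rw [Finset.card_univ, ← Nat.card_eq_fintype_card] at h1
    have h2 : (Finset.univ.image f).card ≤ 2 := by
      refine (Finset.card_le_card (t := {r, r⁻¹}) fun b hb => ?_).trans Finset.card_le_two
      obtain ⟨n, -, rfl⟩ := Finset.mem_image.1 hb
      simp only [Finset.mem_insert, Finset.mem_singleton]
      exact hfR n
    omega
  have hNR15 : 15 ∣ Nat.card NR := by
    rw [← hC15, ← Nat.card_congr (Subgroup.subgroupOfEquivOfLe (inf_le_left : C15 ≤ Y)).toEquiv]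
    refine Subgroup.card_dvd_of_le fun n hn => CfsgLib.ThompsonWielandt.mem_normalizer_of_forall fun w hw => ?_
    rw [hRr] at hw ⊢
    obtain ⟨i, rfl⟩ := hw
    refine ⟨i, Subtype.ext ?_⟩
    show r ^ i = (n : G) * r ^ i * (n : G)⁻¹
    rw [((show Commute (n : G) r from mem_cz.1 (Subgroup.mem_inf.1 (show (n : G) ∈ C15 from hn)).2).zpow_right i).eq,
      mul_inv_cancel_right]
  have hn5 : Nat.card (Sylow 5 ↥Y) % 5 = 1 := by
    have := card_sylow_modEq_one 5 ↥Y
    rwa [Nat.ModEq, Nat.one_mod] at this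
  have hprod : Nat.card NR * Nat.card (Sylow 5 ↥Y) = Nat.card Y := by
    have e : Nat.card (Sylow 5 ↥Y) = NR.index := Sylow.card_eq_index_normalizer R
    rw [e, Subgroup.card_mul_index]
  -- the arithmetic
  have hdvd : Nat.card Y ∣ 604800 := h.card ▸ Subgroup.card_subgroup_dvd_card _
  obtain ⟨m, hm⟩ : 360 ∣ Nat.card Y := by
    have h72 : 72 ∣ Nat.card Y := Nat.Coprime.mul_dvd_of_dvd_of_dvd (by norm_num : Nat.Coprime 8 9) h8 h9
    exact Nat.Coprime.mul_dvd_of_dvd_of_dvd (by norm_num : Nat.Coprime 72 5) h72 h5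
  have hm21 : m ∣ 21 := by
    have h1 : m ∣ 21 * 80 := by
      rw [hm, show 604800 = 360 * (21 * 80) by norm_num] at hdvd
      exact (Nat.mul_dvd_mul_iff_left (by norm_num : 0 < 360)).1 hdvd
    refine Nat.Coprime.dvd_of_dvd_mul_right ?_ h1
    refine Nat.coprime_of_dvd fun q hq hqm hq80 => ?_
    have hq' : q = 2 ∨ q = 5 := by
      rw [show 80 = 2 ^ 4 * 5 by norm_num] at hq80
      rcases hq.dvd_mul.1 hq80 with h | h
      · exact Or.inl ((Nat.prime_dvd_prime_iff_eq hq Nat.prime_two).1 (hq.dvd_of_dvd_pow h))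
      · exact Or.inr ((Nat.prime_dvd_prime_iff_eq hq Fact.out).1 h)
    obtain ⟨m', rfl⟩ := hqm
    rcases hq' with rfl | rfl
    · exact h16 ⟨45 * m', by rw [hm]; ring⟩
    · exact h25 ⟨72 * m', by rw [hm]; ring⟩
  have hNR : Nat.card NR = 15 ∨ Nat.card NR = 30 := by
    obtain ⟨d, hd⟩ := hNR15
    have := Nat.card_pos (α := ↥NR)
    omega
  have hm' : m = 1 ∨ m = 3 ∨ m = 7 ∨ m = 21 := by
    have hle := Nat.le_of_dvd (by norm_num) hm21
    interval_cases m <;> norm_num at *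
  rcases hm' with rfl | rfl | rfl | rfl <;> rcases hNR with hN | hN <;> rw [hN] at hprod <;> omega

end JData

end CfsgLib.Characterizations.HallJanko
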