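import Cfsg.Agent.Lib.Characterizations.HallJanko.Facts

/-!
# Elements of order three of `A₅` and the four-groups
-/

set_option autoImplicit false
set_option linter.style.haveILetI false

namespace CfsgLib.Characterizations.HallJanko

open Equiv Equiv.Perm

set_option maxRecDepth 100000 in
set_option synthInstance.maxSize 4000 in
set_option synthInstance.maxHeartbeats 400000 in
theorem perm_three_fix : ∀ σ : Perm (Fin 5), sign σ = 1 → σ ^ 3 = 1 → σ ≠ 1 →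
    ∃ i j : Fin 5, i ≠ j ∧ σ i = i ∧ σ j = j := by
  decide +kernel

set_option maxRecDepth 100000 in
set_option synthInstance.maxSize 4000 in
set_option synthInstance.maxHeartbeats 400000 in
theorem perm_exists_inverted : ∀ τ : Perm (Fin 5), sign τ = 1 → τ * τ = 1 → τ ≠ 1 →
    ∃ σ : Perm (Fin 5), sign σ = 1 ∧ σ ^ 3 = 1 ∧ σ ≠ 1 ∧ τ * σ * τ⁻¹ = σ⁻¹ := by
  decide +kernel

set_option maxRecDepth 100000 in
set_option synthInstance.maxSize 4000 in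
set_option synthInstance.maxHeartbeats 400000 in
theorem perm_inverted_conj : ∀ τ : Perm (Fin 5), sign τ = 1 → τ * τ = 1 → τ ≠ 1 → ∀ σ : Perm (Fin 5),
    sign σ = 1 → σ ^ 3 = 1 → σ ≠ 1 → τ * σ * τ⁻¹ = σ⁻¹ → ∀ σ' : Perm (Fin 5),
    sign σ' = 1 → σ' ^ 3 = 1 → σ' ≠ 1 → τ * σ' * τ⁻¹ = σ'⁻¹ → ∃ ρ : Perm (Fin 5),
      sign ρ = 1 ∧ ρ * τ = τ * ρ ∧ (ρ * σ' * ρ⁻¹ = σ ∨ ρ * σ' * ρ⁻¹ = σ⁻¹) := by
  decide +kernel

set_option maxRecDepth 100000 in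
set_option synthInstance.maxSize 4000 in
set_option synthInstance.maxHeartbeats 400000 in
/-- An element of order three and a suitable conjugate under the four-group generate an involution. -/
theorem perm_word : ∀ τ : Perm (Fin 5), sign τ = 1 → τ * τ = 1 → τ ≠ 1 → ∀ σ : Perm (Fin 5),
    sign σ = 1 → σ ^ 3 = 1 → σ ≠ 1 → τ * σ * τ⁻¹ = σ⁻¹ → ∃ ρ : Perm (Fin 5),
      sign ρ = 1 ∧ ρ * τ = τ * ρ ∧ σ * (ρ * σ * ρ⁻¹) * σ * (ρ * σ * ρ⁻¹) ^ 2 * (σ * (ρ * σ * ρ⁻¹) * σ * (ρ * σ * ρ⁻¹) ^ 2) = 1 ∧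
        σ * (ρ * σ * ρ⁻¹) * σ * (ρ * σ * ρ⁻¹) ^ 2 ≠ 1 := by
  decide +kernel

end CfsgLib.Characterizations.HallJanko
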