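import Cfsg.Agent.Lib.Characterizations.HallJanko.Five
import Cfsg.Agent.Lib.Characterizations.HallJanko.ThreeFacts
import Cfsg.Agent.Lib.Fusion.Abelian
import Mathlib.GroupTheory.FixedPointFree

/-!
# Centralisers of the elements of order three, and of the second kind of order five
-/

set_option autoImplicit false
set_option linter.style.haveILetI false
set_option linter.unusedSectionVars false

namespace CfsgLib.Characterizations.HallJanko

open CfsgLib.Characterizations.HallJankoCount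
open CfsgLib.Involution.Dihedral

variable {G : Type*} [Group G] [Finite G] {z t : G} {Q K P B : Subgroup G}

set_option maxHeartbeats 800000 in
/-- In `K` an element of order three fixes a subgroup of order eight of `Q` with centre `⟨z⟩`. -/
theorem Marked.three_fixed (h : Marked z t Q K) {c : G} (hc : c ∈ K) (ho : orderOf c = 3) :
    Nat.card ↥(Q ⊓ Subgroup.centralizer ({c} : Set G)) = 8 ∧
      ∀ q ∈ Q ⊓ Subgroup.centralizer ({c} : Set G),
        (∀ q' ∈ Q ⊓ Subgroup.centralizer ({c} : Set G), q * q' = q' * q) → q = 1 ∨ q = z := by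
  classical
  have hS := h.hj.setting
  haveI : Fact (Nat.Prime 3) := ⟨by norm_num⟩
  obtain ⟨τ, φ, hinj, hrange, ht, hall, hdist, heq⟩ := exists_frame hS
  have hc3 : c ^ 3 = 1 := ho ▸ pow_orderOf_eq_one c
  have hk3 : (⟨c, hc⟩ : ↥K) ^ 3 = 1 := Subtype.ext hc3
  have hk1 : (⟨c, hc⟩ : ↥K) ≠ 1 := fun e => by
    have : c = 1 := congrArg Subtype.val e
    rw [this, orderOf_one] at ho; norm_num at ho
  obtain ⟨i, j, hij, hi, hj⟩ := perm_three_fix (φ ⟨c, hc⟩)
    (Equiv.Perm.mem_alternatingGroup.1 (hrange ▸ ⟨_, rfl⟩)) (by rw [← map_pow, hk3, map_one])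
    (fun e => hk1 (hinj (e.trans (map_one φ).symm)))
  have hfix : ∀ a, φ ⟨c, hc⟩ a = a → τ a ∈ Q ⊓ Subgroup.centralizer ({c} : Set G) := by
    intro a ha
    refine Subgroup.mem_inf.2 ⟨(ht a).1, mem_cz.2 ?_⟩
    have hn := heq ⟨c, hc⟩ a
    rw [ha] at hn
    rcases hn with e | e
    · exact (mul_inv_eq_iff_eq_mul.1 e).symm
    · exfalso
      have e' : c * τ a * c⁻¹ = τ a * z := e
      have e3 : c * (c * (c * τ a * c⁻¹) * c⁻¹) * c⁻¹ = τ a * z := by
        have hzc : c * z * c⁻¹ = z := conj_z hS.pre hc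
        have s2 : c * (τ a * z) * c⁻¹ = τ a := by
          rw [← conj_mul, e', hzc, mul_assoc, hS.extra.z_sq, mul_one]
        rw [e', s2, e']
      rw [show c * (c * (c * τ a * c⁻¹) * c⁻¹) * c⁻¹ = c ^ 3 * τ a * (c ^ 3)⁻¹ by
        simp only [pow_succ, pow_zero, one_mul]; group, hc3, one_mul, inv_one, mul_one] at e3
      exact hS.extra.z_ne (mul_eq_left.1 e3.symm)
  have hnc := not_commute hS hinj hrange ht hall hdist heq hij
  set F := Q ⊓ Subgroup.centralizer ({c} : Set G) with hF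
  have hinv : ∀ q ∈ Q, c * q * c⁻¹ ∈ Q := hS.norm c hc
  have hmod : (32 : ℕ) ≡ Nat.card F [MOD 3] := hS.card_Q ▸ card_fixed_modEq (p := 3) (k := 1)
    (by rw [ho, pow_one]) hinv
  have hFd : Nat.card F ∣ 32 := hS.card_Q ▸ Subgroup.card_dvd_of_le inf_le_left
  have hzF : z ∈ F := Subgroup.mem_inf.2 ⟨hS.extra.z_mem, mem_cz.2 (hS.cent c hc).symm⟩
  have hne : F ≠ Q := fun e => hk1 (Subtype.ext (hS.faith c hc fun q hq => by
    have := (Subgroup.mem_inf.1 (show q ∈ F by rw [e]; exact hq)).2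
    rw [← mem_cz.1 this, mul_inv_cancel_right]))
  obtain ⟨k, hk, hk'⟩ := (Nat.dvd_prime_pow Nat.prime_two).1 (hFd.trans (dvd_of_eq (by norm_num : (32 : ℕ) = 2 ^ 5)))
  have hF3 : 3 ≤ Nat.card F := by
    have hsub : ({1, z, τ i} : Set G) ⊆ (F : Set G) := by
      rintro x (rfl | rfl | rfl)
      · exact one_mem _
      · exact hzF
      · exact hfix i hi
    have h1 := Set.ncard_le_ncard hsub
    rw [← Nat.card_coe_set_eq (F : Set G), SetLike.coe_sort_coe, Set.ncard_insert_of_notMem (by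
      simp only [Set.mem_insert_iff, Set.mem_singleton_iff, not_or]
      exact ⟨Ne.symm hS.extra.z_ne, Ne.symm (ht i).2.2.1⟩), Set.ncard_pair (Ne.symm (ht i).2.2.2)] at h1
    omega
  have h32 : Nat.card F ≠ 32 := fun e => hne (Subgroup.eq_of_le_of_card_ge inf_le_left (by rw [hS.card_Q, e]))
  have h8 : Nat.card F = 8 := by
    rw [hk'] at hmod hF3 h32 ⊢
    interval_cases k <;> simp_all [Nat.ModEq]
  refine ⟨h8, fun q hq hqc => ?_⟩
  by_contra hne'
  push Not at hne'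
  let Z' : Subgroup G := F ⊓ Subgroup.centralizer (F : Set G)
  let C' : Subgroup G := F ⊓ Subgroup.centralizer ({τ i} : Set G)
  have hqZ : q ∈ Z' := Subgroup.mem_inf.2 ⟨hq, Subgroup.mem_centralizer_iff.2 fun w hw => (hqc w hw).symm⟩
  have hzZ : z ∈ Z' := Subgroup.mem_inf.2 ⟨hzF, Subgroup.mem_centralizer_iff.2 fun w hw =>
    (hS.extra.z_comm (Subgroup.mem_inf.1 hw).1).symm⟩
  have hZ3 : 3 ≤ Nat.card Z' := by
    have hsub : ({1, z, q} : Set G) ⊆ (Z' : Set G) := by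
      rintro x (rfl | rfl | rfl)
      · exact one_mem _
      · exact hzZ
      · exact hqZ
    have h1 := Set.ncard_le_ncard hsub
    rw [← Nat.card_coe_set_eq (Z' : Set G), SetLike.coe_sort_coe, Set.ncard_insert_of_notMem (by
      simp only [Set.mem_insert_iff, Set.mem_singleton_iff, not_or]
      exact ⟨Ne.symm hS.extra.z_ne, Ne.symm hne'.1⟩), Set.ncard_pair (Ne.symm hne'.2)] at h1
    omega
  have hle : Z' ≤ C' := fun w hw => Subgroup.mem_inf.2 ⟨(Subgroup.mem_inf.1 hw).1,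
    mem_cz.2 (Subgroup.mem_centralizer_iff.1 (Subgroup.mem_inf.1 hw).2 _ (hfix i hi)).symm⟩
  have hlt : Nat.card Z' < Nat.card C' := by
    refine lt_of_le_of_ne (Subgroup.card_le_of_le hle) fun e => hnc ?_
    have hiC : τ i ∈ C' := Subgroup.mem_inf.2 ⟨hfix i hi, mem_cz.2 rfl⟩
    rw [← Subgroup.eq_of_le_of_card_ge hle e.ge] at hiC
    exact (Subgroup.mem_centralizer_iff.1 (Subgroup.mem_inf.1 hiC).2 _ (hfix j hj)).symm
  have hC8 : Nat.card C' ∣ 8 := h8 ▸ Subgroup.card_dvd_of_le inf_le_left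
  have hZ8 : Nat.card Z' ∣ 8 := h8 ▸ Subgroup.card_dvd_of_le inf_le_left
  have hC' : C' = F := by
    refine Subgroup.eq_of_le_of_card_ge inf_le_left ?_
    rw [h8]
    obtain ⟨a, ha, ha'⟩ := (Nat.dvd_prime_pow Nat.prime_two).1 (hC8.trans (dvd_of_eq (by norm_num : (8 : ℕ) = 2 ^ 3)))
    obtain ⟨b, hb, hb'⟩ := (Nat.dvd_prime_pow Nat.prime_two).1 (hZ8.trans (dvd_of_eq (by norm_num : (8 : ℕ) = 2 ^ 3)))
    rw [ha', hb'] at hlt
    rw [hb'] at hZ3
    rw [ha']
    interval_cases b <;> interval_cases a <;> norm_num at *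
  exact hnc (mem_cz.1 (Subgroup.mem_inf.1 (show τ j ∈ C' by rw [hC']; exact hfix j hj)).2).symm

theorem Marked.norm_fixed (h : Marked z t Q K) {c : G} (hc : c ∈ K) (ho : orderOf c = 3) {n : G}
    (hn : ∀ q ∈ Q ⊓ Subgroup.centralizer ({c} : Set G), n * q * n⁻¹ ∈ Q ⊓ Subgroup.centralizer ({c} : Set G)) :
    n ∈ Subgroup.centralizer ({z} : Set G) := by
  have hS := h.hj.setting
  obtain ⟨-, hcen⟩ := h.three_fixed hc ho
  have hzF : z ∈ Q ⊓ Subgroup.centralizer ({c} : Set G) :=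
    Subgroup.mem_inf.2 ⟨hS.extra.z_mem, mem_cz.2 (hS.cent c hc).symm⟩
  have hN : n ∈ Subgroup.normalizer ((Q ⊓ Subgroup.centralizer ({c} : Set G) : Subgroup G) : Set G) :=
    CfsgLib.ThompsonWielandt.mem_normalizer_of_forall hn
  rcases hcen _ (hn z hzF) (fun w hw => by
    have hw' : n⁻¹ * w * n ∈ Q ⊓ Subgroup.centralizer ({c} : Set G) := by
      have := (Subgroup.mem_normalizer_iff.1 (inv_mem hN) w).1 hw
      rwa [inv_inv] at this
    have e := hS.extra.z_comm (Subgroup.mem_inf.1 hw').1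
    calc n * z * n⁻¹ * w = n * (z * (n⁻¹ * w * n)) * n⁻¹ := by group
      _ = w * (n * z * n⁻¹) := by rw [e]; group) with e | e
  · exact absurd (conj_eq_one_iff.1 e) hS.extra.z_ne
  · exact mem_cz.2 (mul_inv_eq_iff_eq_mul.1 e)

theorem Marked.card_cent_zc (h : Marked z t Q K) {c : G} (hc : c ∈ K) (ho : orderOf c = 3) :
    Nat.card ↥(Subgroup.centralizer ({z} : Set G) ⊓ Subgroup.centralizer ({c} : Set G)) = 24 := by
  obtain ⟨eK⟩ := h.hj.setting.alt
  have hcent := (alt5_odd_mem eK hc (Or.inl ho)).1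
  rw [show (24 : ℕ) = 8 * 3 from rfl, ← (h.three_fixed hc ho).1, ← ho, ← Nat.card_zpowers, ← Nat.card_prod]
  symm
  refine Nat.card_congr (Equiv.ofBijective (fun q : ↥(Q ⊓ Subgroup.centralizer ({c} : Set G)) × ↥(Subgroup.zpowers c) =>
    ⟨q.1 * q.2, Subgroup.mem_inf.2 ⟨mul_mem (h.hj.Q_le (Subgroup.mem_inf.1 q.1.2).1)
      (h.hj.K_le (Subgroup.zpowers_le.2 hc q.2.2)), mem_cz.2 ?_⟩⟩) ⟨?_, ?_⟩)
  · obtain ⟨k, hk⟩ := q.2.2
    have h1 : Commute (q.1 : G) c := mem_cz.1 (Subgroup.mem_inf.1 q.1.2).2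
    exact (h1.mul_left (hk ▸ (Commute.refl c).zpow_left k)).eq
  · rintro ⟨a, b⟩ ⟨a', b'⟩ e
    obtain ⟨e1, e2⟩ := h.hj.dec_unique (Subgroup.mem_inf.1 a.2).1 (Subgroup.zpowers_le.2 hc b.2)
      (Subgroup.mem_inf.1 a'.2).1 (Subgroup.zpowers_le.2 hc b'.2) (congrArg Subtype.val e)
    exact Prod.ext (Subtype.ext e1) (Subtype.ext e2)
  · rintro ⟨x, hx⟩
    obtain ⟨hxz, hxc⟩ := Subgroup.mem_inf.1 hx
    obtain ⟨q, hq, k, hk, rfl⟩ := h.hj.dec hxz
    have e1 : c * (q * k) * c⁻¹ = q * k := by rw [← mem_cz.1 hxc, mul_inv_cancel_right]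
    rw [← conj_mul] at e1
    obtain ⟨e2, e3⟩ := h.hj.dec_unique (h.hj.setting.norm c hc q hq) (mul_mem (mul_mem hc hk) (inv_mem hc))
      hq hk e1
    exact ⟨(⟨q, Subgroup.mem_inf.2 ⟨hq, mem_cz.2 (mul_inv_eq_iff_eq_mul.1 e2).symm⟩⟩,
      ⟨k, hcent k hk (mul_inv_eq_iff_eq_mul.1 e3)⟩), rfl⟩

/-- A two-subgroup of `C(c)` normalising its fixed subgroup in `Q` lies in it. -/
theorem Marked.two_part (h : Marked z t Q K) {c : G} (hc : c ∈ K) (ho : orderOf c = 3) :
    8 ∣ Nat.card (Subgroup.centralizer ({c} : Set G)) ∧ ¬ 16 ∣ Nat.card (Subgroup.centralizer ({c} : Set G)) := by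
  classical
  haveI : Fact (Nat.Prime 2) := ⟨Nat.prime_two⟩
  set L := Subgroup.centralizer ({c} : Set G) with hL
  set F := Q ⊓ L with hF
  have h8 : Nat.card F = 8 := (h.three_fixed hc ho).1
  refine ⟨h8 ▸ Subgroup.card_dvd_of_le inf_le_right, fun h16 => ?_⟩
  have hFp : IsPGroup 2 (F.subgroupOf L) := IsPGroup.of_card (n := 3) (by
    rw [Nat.card_congr (Subgroup.subgroupOfEquivOfLe inf_le_right).toEquiv, h8]; norm_num)
  obtain ⟨S, hS⟩ := hFp.exists_le_sylow
  have h16S : 16 ∣ Nat.card (S : Subgroup ↥L) := by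
    have := S.pow_dvd_card_of_pow_dvd_card (n := 4) (by simpa using h16)
    simpa using this
  haveI : Group.IsNilpotent (S : Subgroup ↥L) := S.2.isNilpotent
  let F' := (F.subgroupOf L).subgroupOf (S : Subgroup ↥L)
  have hlt : F' < ⊤ := by
    refine lt_top_iff_ne_top.2 fun e => ?_
    have h1 : (S : Subgroup ↥L) ≤ F.subgroupOf L := Subgroup.subgroupOf_eq_top.1 e
    have h2 := Subgroup.card_le_of_le h1
    have h3 := Nat.le_of_dvd Nat.card_pos h16S
    rw [Nat.card_congr (Subgroup.subgroupOfEquivOfLe inf_le_right).toEquiv, h8] at h2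
    omega
  obtain ⟨n, hn, hnF⟩ := SetLike.exists_of_lt (Group.normalizerCondition_of_isNilpotent F' hlt)
  apply hnF
  have hnn : ∀ q ∈ F, ((n : ↥L) : G) * q * ((n : ↥L) : G)⁻¹ ∈ F := fun q hq =>
    (Subgroup.mem_normalizer_iff.1 hn ⟨⟨q, (Subgroup.mem_inf.1 hq).2⟩, hS hq⟩).1 hq
  have hnC := h.norm_fixed hc ho hnn
  let X : Subgroup G := F ⊔ Subgroup.zpowers ((n : ↥L) : G)
  have hX24 : Nat.card X ∣ 24 := h.card_cent_zc hc ho ▸ Subgroup.card_dvd_of_le (sup_le
    (fun q hq => Subgroup.mem_inf.2 ⟨h.hj.Q_le (Subgroup.mem_inf.1 hq).1, (Subgroup.mem_inf.1 hq).2⟩)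
    (Subgroup.zpowers_le.2 (Subgroup.mem_inf.2 ⟨hnC, (n : ↥L).2⟩)))
  have hXS : X ≤ (S : Subgroup ↥L).map L.subtype := sup_le
    (fun q hq => ⟨⟨q, (Subgroup.mem_inf.1 hq).2⟩, hS hq, rfl⟩) (Subgroup.zpowers_le.2 ⟨_, n.2, rfl⟩)
  obtain ⟨k, hk⟩ := S.2.exists_card_eq
  have hX2 : Nat.card X ∣ 2 ^ k := by
    rw [← hk, ← Subgroup.card_map_of_injective (f := L.subtype) L.subtype_injective]
    exact Subgroup.card_dvd_of_le hXS
  have hX8 : Nat.card X ∣ 8 := by
    obtain ⟨j, -, hj⟩ := (Nat.dvd_prime_pow Nat.prime_two).1 hX2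
    rw [hj] at hX24 ⊢
    exact (Nat.Coprime.pow_left j (by norm_num : Nat.Coprime 2 3)).dvd_of_dvd_mul_right
      (by simpa using hX24 : 2 ^ j ∣ 8 * 3)
  have hXF : F = X := Subgroup.eq_of_le_of_card_ge le_sup_left (by rw [h8]; exact Nat.le_of_dvd (by norm_num) hX8)
  show ((n : ↥L) : G) ∈ F
  rw [hXF]
  exact le_sup_right (a := F) (Subgroup.mem_zpowers _)

namespace JData

/-- An element of order three of `C(z)` is conjugate to a given one of `K`. -/
theorem three_conj_c (h : JData z t Q K P B) {c : G} (hc : c ∈ K) (ho : orderOf c = 3) {x : G}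
    (hx : x ∈ Subgroup.centralizer ({z} : Set G)) (hxo : orderOf x = 3) : IsConj x c := by
  classical
  haveI : Fact (Nat.Prime 3) := ⟨by norm_num⟩
  obtain ⟨eK⟩ := h.m.hj.setting.alt
  set C := Subgroup.centralizer ({z} : Set G) with hC
  have hcC : c ∈ C := h.m.hj.K_le hc
  have hex : ∀ y : ↥C, orderOf y = 3 → ∃ T : Sylow 3 ↥C, (T : Subgroup ↥C) = Subgroup.zpowers y := by
    intro y hy
    obtain ⟨T, hT⟩ := (IsPGroup.of_card (G := Subgroup.zpowers y) (p := 3) (n := 1)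
      (by rw [Nat.card_zpowers, hy, pow_one])).exists_le_sylow
    obtain ⟨k, hk⟩ := T.2.exists_card_eq
    have h1 : 3 ^ k ∣ 1920 := hk ▸ h.m.hj.card_C ▸ Subgroup.card_subgroup_dvd_card _
    have hk1 : k ≤ 1 := by
      by_contra hge
      push Not at hge
      exact absurd ((pow_dvd_pow 3 hge).trans h1) (by norm_num)
    refine ⟨T, (Subgroup.eq_of_le_of_card_ge hT ?_).symm⟩
    rw [Nat.card_zpowers, hy, hk]
    exact (Nat.pow_le_pow_right (by norm_num) hk1).trans_eq (pow_one 3)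
  obtain ⟨T1, hT1⟩ := hex ⟨x, hx⟩ (by rw [← Subgroup.orderOf_coe]; exact hxo)
  obtain ⟨T2, hT2⟩ := hex ⟨c, hcC⟩ (by rw [← Subgroup.orderOf_coe]; exact ho)
  obtain ⟨g, hg⟩ := MulAction.exists_smul_eq ↥C T1 T2
  have hm : g * ⟨x, hx⟩ * g⁻¹ ∈ (T2 : Subgroup ↥C) := hg ▸ ⟨⟨x, hx⟩, by rw [hT1]; exact Subgroup.mem_zpowers _, rfl⟩
  rw [hT2] at hm
  obtain ⟨j, hj⟩ := hm
  have hj' : c ^ j = (g : G) * x * (g : G)⁻¹ := congrArg Subtype.val hj
  have h1 : IsConj x (c ^ j) := isConj_iff.2 ⟨g, hj'.symm⟩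
  rw [← zpow_mod_orderOf, ho] at h1
  have h0 := Int.emod_nonneg j (show ((3 : ℕ) : ℤ) ≠ 0 by norm_num)
  have h3 := Int.emod_lt_of_pos j (show (0 : ℤ) < ((3 : ℕ) : ℤ) by norm_num)
  obtain ⟨-, i, -, -, hic⟩ := alt5_odd_mem eK hc (Or.inl ho)
  have hinv : IsConj c⁻¹ c := (isConj_iff.2 ⟨i, hic⟩).symm
  have hc2 : c ^ (2 : ℤ) = c⁻¹ := by
    rw [eq_inv_iff_mul_eq_one, ← zpow_add_one, show (2 : ℤ) + 1 = ((3 : ℕ) : ℤ) from rfl, zpow_natCast, ← ho,
      pow_orderOf_eq_one]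
  have hcases : j % ((3 : ℕ) : ℤ) = 0 ∨ j % ((3 : ℕ) : ℤ) = 1 ∨ j % ((3 : ℕ) : ℤ) = 2 := by omega
  rcases hcases with e | e | e <;> rw [e] at h1
  · rw [zpow_zero] at h1
    have := isConj_one_left.1 h1
    rw [this, orderOf_one] at hxo
    norm_num at hxo
  · rwa [zpow_one] at h1
  · rw [hc2] at h1
    exact h1.trans hinv

/-- An element of order three centralising an involution of the second class is conjugate into `B`. -/
theorem three_conj_x (h : JData z t Q K P B) {x : G} (hx : x ∈ B) (hxo : orderOf x = 3) {y v : G}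
    (hy : orderOf y = 3) (hv : IsConj t v) (hc : v * y = y * v) : IsConj y x := by
  obtain ⟨eB⟩ := h.altB
  obtain ⟨g, hg⟩ := isConj_iff.1 hv.symm
  have hgy : g * y * g⁻¹ ∈ B := h.mem_B_of_odd (Or.inl rfl) (mem_cz.2 (by rw [← hg, conj_mul, conj_mul, hc]))
    (by rw [CfsgLib.Involution.Dihedral.orderOf_conj, hy])
  obtain ⟨b, hb⟩ := alt5_three_conj eB (x := ⟨_, hgy⟩) (y := ⟨x, hx⟩)
    (by rw [← Subgroup.orderOf_coe]; exact (CfsgLib.Involution.Dihedral.orderOf_conj g y).trans hy)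
    (by rw [← Subgroup.orderOf_coe]; exact hxo)
  have hb' : (b : G) * (g * y * g⁻¹) * (b : G)⁻¹ = x := congrArg Subtype.val hb
  exact isConj_iff.2 ⟨b * g, by rw [← hb']; group⟩

theorem exists_pi (h : JData z t Q K P B) {r : G} (hrB : r ∈ B) (hr : orderOf r = 5) :
    (∀ v, v * v = 1 → v ≠ 1 → v * r = r * v → IsConj t v) ∧
    Nat.card (Subgroup.centralizer ({r} : Set G)) = 300 ∧
    ∃ π : ↥(Subgroup.centralizer ({r} : Set G)) →* alternatingGroup (Fin 5), Function.Surjective π ∧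
      (∀ c, π c = 1 ↔ (c : G) ∈ Subgroup.zpowers r) ∧
      ∀ (m : ℕ), Nat.Coprime m 5 → ∀ a b, a ^ m = 1 → b ^ m = 1 → π a = π b → a = b := by
  haveI : Fact (Nat.Prime 5) := ⟨by norm_num⟩
  obtain ⟨S, hS⟩ := (IsPGroup.of_card (G := Subgroup.zpowers r) (p := 5) (n := 1)
    (by rw [Nat.card_zpowers, hr, pow_one])).exists_le_sylow
  obtain ⟨h300, -⟩ := h.five_main hrB hr S (hS (Subgroup.mem_zpowers r))
  obtain ⟨hcl, hcases⟩ := h.odd_centraliser (Or.inr rfl) hrB hr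
  rcases hcases with ⟨hc | hc, -⟩ | ⟨-, π, hπs, hπ⟩
  · omega
  · omega
  refine ⟨hcl, h300, π, hπs, hπ, fun m hm a b ha hb hab => ?_⟩
  obtain ⟨j, hj⟩ := (hπ (a⁻¹ * b)).1 (by rw [map_mul, map_inv, hab, inv_mul_cancel])
  have hbe : (b : G) = a * r ^ j := by
    rw [show r ^ j = ((a⁻¹ * b : ↥(Subgroup.centralizer ({r} : Set G))) : G) from hj]; simp
  have har : Commute (a : G) (r ^ j) := (show Commute (a : G) r from mem_cz.1 a.2).zpow_right j
  have h1 : (r ^ j) ^ m = 1 := by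
    have hb' : (b : G) ^ m = 1 := by rw [← Subgroup.coe_pow, hb]; rfl
    have ha' : (a : G) ^ m = 1 := by rw [← Subgroup.coe_pow, ha]; rfl
    rwa [hbe, har.mul_pow, ha', one_mul] at hb'
  have h2 : orderOf (r ^ j) ∣ 5 := by
    rw [← hr, ← Nat.card_zpowers r]; exact Subgroup.orderOf_dvd_natCard _ ⟨j, rfl⟩
  have hrj : r ^ j = 1 := orderOf_eq_one_iff.1 (Nat.eq_one_of_dvd_coprimes hm (orderOf_dvd_of_pow_eq_one h1) h2)
  exact (Subtype.ext (by rw [hbe, hrj, mul_one])).symm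

set_option maxHeartbeats 1000000 in
/-- The elements of order three commuting with `r` are conjugate to `c`. -/
theorem exists_three_cent_r (h : JData z t Q K P B) {r : G} (hrB : r ∈ B) (hr : orderOf r = 5)
    {c : G} (hc : c ∈ K) (hco : orderOf c = 3) :
    ∀ y : G, orderOf y = 3 → y * r = r * y → IsConj y c := by
  classical
  obtain ⟨eB⟩ := h.altB
  obtain ⟨hcl, h300, π, hπs, hπ, huniq⟩ := h.exists_pi hrB hr
  let A5 := alternatingGroup (Fin 5)
  have htr : t ∈ Subgroup.centralizer ({r} : Set G) := mem_cz.2 (h.split.comm t h.split.tP r hrB)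
  have hPH : ∀ v ∈ P, v ∈ (Subgroup.centralizer ({r} : Set G)) := fun v hv => mem_cz.2 (h.split.comm v hv r hrB)
  have hsq : ∀ v : ↥(Subgroup.centralizer ({r} : Set G)), v * v = 1 → v ≠ 1 → π v ≠ 1 := fun v hv hv1 e => hv1
    (huniq 2 (by norm_num) v 1 (by rw [pow_two, hv]) (one_pow 2) (by rw [e, map_one]))
  let T : ↥(Subgroup.centralizer ({r} : Set G)) := ⟨t, htr⟩
  have hTT : T * T = 1 := Subtype.ext h.m.t_sq
  have hT1 : T ≠ 1 := fun e => ne_one h.m.ht (congrArg Subtype.val e)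
  let τ : A5 := π T
  have hττ : (τ : Equiv.Perm (Fin 5)) * τ = 1 := congrArg Subtype.val (show τ * τ = 1 by
    simp only [τ]; rw [← map_mul, hTT, map_one])
  have hτ1 : (τ : Equiv.Perm (Fin 5)) ≠ 1 := fun e => hsq T hTT hT1 (Subtype.ext e)
  have hsgn : ∀ a : A5, Equiv.Perm.sign (a : Equiv.Perm (Fin 5)) = 1 := fun a =>
    Equiv.Perm.mem_alternatingGroup.1 a.2
  -- `P` maps onto the centraliser of `τ`
  have hPimg : ∀ ρ : A5, τ * ρ = ρ * τ → ∃ v ∈ P, ∃ hv : v ∈ (Subgroup.centralizer ({r} : Set G)), π ⟨v, hv⟩ = ρ := by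
    have hcard : Nat.card (Subgroup.centralizer ({τ} : Set A5)) = 4 :=
      (alt5_involution (MulEquiv.refl A5) (orderOf_eq_two (show τ * τ = 1 from Subtype.ext hττ)
        (fun e => hτ1 (congrArg Subtype.val e)))).1
    let f : ↥P → ↥(Subgroup.centralizer ({τ} : Set A5)) := fun v => ⟨π ⟨v, hPH v v.2⟩,
      Subgroup.mem_centralizer_singleton_iff.2 (by
        simp only [τ]
        rw [← map_mul, ← map_mul]
        refine congrArg π (Subtype.ext ?_)
        have := h.split.P_sq _ (mul_mem v.2 h.split.tP)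
        show (v : G) * t = t * v
        rw [← inv_eq_of_mul_eq_one_right this, mul_inv_rev, inv_eq_of_mul_eq_one_right h.m.t_sq,
          inv_eq_of_mul_eq_one_right (h.split.P_sq _ v.2)])⟩
    have hf : Function.Bijective f := by
      refine (Nat.bijective_iff_injective_and_card f).2 ⟨fun v w e => ?_, by rw [h.split.card_P, hcard]⟩
      have := huniq 2 (by norm_num) ⟨v, hPH v v.2⟩ ⟨w, hPH w w.2⟩
        (Subtype.ext (by simp [pow_two, h.split.P_sq _ v.2])) (Subtype.ext (by simp [pow_two, h.split.P_sq _ w.2]))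
        (congrArg Subtype.val e)
      exact Subtype.ext (congrArg (fun a : ↥(Subgroup.centralizer ({r} : Set G)) => (a : G)) this :)
    intro ρ hρ
    obtain ⟨v, hv⟩ := hf.2 ⟨ρ, Subgroup.mem_centralizer_singleton_iff.2 hρ.symm⟩
    exact ⟨v, v.2, hPH v v.2, congrArg Subtype.val hv⟩
  -- an element inverted by `t`
  obtain ⟨σ₀, hσs, hσ3, hσ1, hσi⟩ := perm_exists_inverted _ (hsgn τ) hττ hτ1
  let σ : A5 := ⟨σ₀, Equiv.Perm.mem_alternatingGroup.2 hσs⟩
  obtain ⟨y₀, hy₀⟩ := hπs σ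
  let y : ↥(Subgroup.centralizer ({r} : Set G)) := y₀ ^ 10
  have hy3 : y ^ 3 = 1 := by
    have h1 : π (y₀ ^ 3) = 1 := by rw [map_pow, hy₀]; exact Subtype.ext hσ3
    have h2 : ((y₀ ^ 3 : ↥(Subgroup.centralizer ({r} : Set G))) : G) ^ 5 = 1 := by
      refine orderOf_dvd_iff_pow_eq_one.1 ?_
      rw [← hr, ← Nat.card_zpowers r]
      exact Subgroup.orderOf_dvd_natCard _ ((hπ _).1 h1)
    have h15 : y₀ ^ 15 = 1 := Subtype.ext (by rw [show 15 = 3 * 5 from rfl, pow_mul, Subgroup.coe_pow, h2]; rfl)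
    simp only [y]
    rw [← pow_mul, show 10 * 3 = 15 * 2 from rfl, pow_mul, h15, one_pow]
  have hπy : π y = σ := by
    simp only [y]
    rw [map_pow, hy₀]
    refine Subtype.ext ?_
    show σ₀ ^ 10 = σ₀
    rw [show 10 = 3 * 3 + 1 from rfl, pow_succ, pow_mul, hσ3, one_pow, one_mul]
  have hy1 : y ≠ 1 := fun e => hσ1 (congrArg Subtype.val (show σ = 1 by rw [← hπy, e, map_one]))
  have hyo : orderOf ((y : ↥(Subgroup.centralizer ({r} : Set G))) : G) = 3 := by
    haveI : Fact (Nat.Prime 3) := ⟨by norm_num⟩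
    rw [Subgroup.orderOf_coe]
    exact orderOf_eq_prime hy3 hy1
  have hpow : ∀ (g a : ↥(Subgroup.centralizer ({r} : Set G))) (n : ℕ), a ^ n = 1 → (g * a * g⁻¹) ^ n = 1 := fun g a n ha => by
    rw [_root_.conj_pow, ha, mul_one, mul_inv_cancel]
  have hyinv : T * y * T⁻¹ = y⁻¹ := by
    refine huniq 3 (by norm_num) _ _ (hpow T y 3 hy3) (by rw [inv_pow, hy3, inv_one]) ?_
    rw [map_mul, map_mul, map_inv, map_inv, hπy]
    exact Subtype.ext hσi
  -- every element of order three of `(Subgroup.centralizer ({r} : Set G))` is conjugate to `y`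
  have hconj : ∀ w : ↥(Subgroup.centralizer ({r} : Set G)), orderOf (w : G) = 3 → IsConj (w : G) (y : G) := by
    intro w hw
    have hw3 : w ^ 3 = 1 := Subtype.ext (by rw [Subgroup.coe_pow, Subgroup.coe_one, ← hw, pow_orderOf_eq_one])
    haveI : Fact (Nat.Prime 3) := ⟨by norm_num⟩
    have hπw1 : π w ≠ 1 := fun e => ne_one_of_orderOf hw (by norm_num)
      (congrArg Subtype.val (huniq 3 (by norm_num) w 1 hw3 (one_pow 3) (by rw [e, map_one])))
    obtain ⟨g, hg⟩ := alt5_three_conj (MulEquiv.refl A5) (x := π w) (y := π y)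
      (orderOf_eq_prime (by rw [← map_pow, hw3, map_one]) hπw1)
      (orderOf_eq_prime (by rw [← map_pow, hy3, map_one]) (by rw [hπy]; exact fun e => hσ1 (congrArg Subtype.val e)))
    obtain ⟨d, rfl⟩ := hπs g
    rw [← map_inv, ← map_mul, ← map_mul] at hg
    exact isConj_iff.2 ⟨d, congrArg Subtype.val (huniq 3 (by norm_num) _ _ (hpow d w 3 hw3) hy3 hg)⟩
  -- an involution of the first class centralises `y`
  obtain ⟨-, i, hiB, hio, hir⟩ := alt5_odd_mem eB hrB (Or.inr hr)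
  have hit : Commute t i := h.split.comm t h.split.tP i hiB
  have hiH : ∀ w : ↥(Subgroup.centralizer ({r} : Set G)), i * (w : G) * i⁻¹ ∈ (Subgroup.centralizer ({r} : Set G)) := fun w => mem_cz.2 (by
    have hc : Commute (i * (w : G) * i⁻¹) (i * r * i⁻¹) := by
      show _ * _ = _ * _
      rw [conj_mul, conj_mul, mem_cz.1 w.2]
    rw [hir] at hc
    have h' := hc.inv_right
    rw [inv_inv] at h'
    exact h'.eq)
  let y' : ↥(Subgroup.centralizer ({r} : Set G)) := ⟨i * (y : G) * i⁻¹, hiH y⟩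
  have hy'3 : y' ^ 3 = 1 := Subtype.ext (by
    show (i * (y : G) * i⁻¹) ^ 3 = 1
    rw [_root_.conj_pow, ← Subgroup.coe_pow, hy3]; simp)
  have hy'o : y' ≠ 1 := fun e => by
    have : i * (y : G) * i⁻¹ = 1 := congrArg Subtype.val e
    exact hy1 (Subtype.ext (conj_eq_one_iff.1 this))
  have hy'inv : T * y' * T⁻¹ = y'⁻¹ := Subtype.ext (by
    show t * (i * (y : G) * i⁻¹) * t⁻¹ = (i * (y : G) * i⁻¹)⁻¹
    have e : t * (y : G) * t⁻¹ = (y : G)⁻¹ := congrArg Subtype.val hyinv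
    rw [show t * (i * (y : G) * i⁻¹) * t⁻¹ = (t * i) * (y : G) * (t * i)⁻¹ by group, hit.eq,
      show i * t * (y : G) * (i * t)⁻¹ = i * (t * (y : G) * t⁻¹) * i⁻¹ by group, e]
    group)
  have hπy'1 : π y' ≠ 1 := fun e => hy'o (huniq 3 (by norm_num) _ _ hy'3 (one_pow 3) (by rw [e, map_one]))
  obtain ⟨ρ₀, hρs, hρτ, hρσ⟩ := perm_inverted_conj _ (hsgn τ) hττ hτ1 _ hσs hσ3 hσ1 hσi _ (hsgn (π y'))
    (congrArg Subtype.val (show π y' ^ 3 = 1 by rw [← map_pow, hy'3, map_one]))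
    (fun e => hπy'1 (Subtype.ext e))
    (congrArg Subtype.val (show τ * π y' * τ⁻¹ = (π y')⁻¹ by
      simp only [τ]; rw [← map_inv, ← map_mul, ← map_mul, hy'inv, map_inv]))
  obtain ⟨v, hvP, hvH, hπv⟩ := hPimg ⟨ρ₀, Equiv.Perm.mem_alternatingGroup.2 hρs⟩ (Subtype.ext hρτ.symm)
  let V : ↥(Subgroup.centralizer ({r} : Set G)) := ⟨v, hvH⟩
  have hVy' : V * y' * V⁻¹ = y ∨ V * y' * V⁻¹ = y⁻¹ := by
    rcases hρσ with e | e
    · refine Or.inl (huniq 3 (by norm_num) _ _ (hpow V y' 3 hy'3) hy3 ?_)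
      rw [map_mul, map_mul, map_inv, hπy, show π V = _ from hπv]
      exact Subtype.ext e
    · refine Or.inr (huniq 3 (by norm_num) _ _ (hpow V y' 3 hy'3) (by rw [inv_pow, hy3, inv_one]) ?_)
      rw [map_mul, map_mul, map_inv, map_inv, hπy, show π V = _ from hπv]
      exact Subtype.ext e
  obtain ⟨p, hp, hpy⟩ : ∃ p ∈ P, (i * p) * (y : G) * (i * p)⁻¹ = (y : G) := by
    have hvi : v * i = i * v := h.split.comm v hvP i hiB
    have key : ∀ w : G, v * (i * w * i⁻¹) * v⁻¹ = i * v * w * (i * v)⁻¹ := fun w => by rw [← hvi]; group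
    rcases hVy' with e | e
    · have e' : v * (i * (y : G) * i⁻¹) * v⁻¹ = (y : G) := congrArg Subtype.val e
      exact ⟨v, hvP, by rw [← key]; exact e'⟩
    · have e' : v * (i * (y : G) * i⁻¹) * v⁻¹ = (y : G)⁻¹ := congrArg Subtype.val e
      refine ⟨v * t, mul_mem hvP h.split.tP, ?_⟩
      have e2 : t * (y : G) * t⁻¹ = (y : G)⁻¹ := congrArg Subtype.val hyinv
      rw [key] at e'
      rw [show i * (v * t) * (y : G) * (i * (v * t))⁻¹ = i * v * (t * (y : G) * t⁻¹) * (i * v)⁻¹ by group, e2,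
        ← conj_inv, e', inv_inv]
  have hyc : IsConj (y : G) c := by
    by_cases hp1 : p = 1
    · rw [hp1, mul_one] at hpy
      obtain ⟨g, hg⟩ := isConj_iff.1 (h.split.Bz i hiB hio).symm
      refine (isConj_iff.2 ⟨g, rfl⟩).trans (h.three_conj_c hc hco (x := g * (y : G) * g⁻¹) (mem_cz.2 ?_) ?_)
      · rw [← hg, conj_mul, conj_mul, ← mul_inv_eq_iff_eq_mul.1 hpy]
      · rw [CfsgLib.Involution.Dihedral.orderOf_conj, hyo]
    · exfalso
      set u₀ := i * p with hu₀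
      have hip : Commute i p := (h.split.comm p hp i hiB).symm
      have hu2 : u₀ * u₀ = 1 := by
        rw [hu₀, hip.symm.mul_mul_mul_comm, mul_self hio, h.split.P_sq p hp, one_mul]
      have hu1 : u₀ ≠ 1 := fun e => hp1 (h.dec_unique hp (one_mem B) (one_mem P) hiB (by
        rw [mul_one, one_mul, ← inv_eq_of_mul_eq_one_right e, inv_eq hio])).1
      have hut : IsConj t u₀ := h.split.Ct _ (mul_mem (h.split.B_le hiB) (h.split.P_le hp))
        (orderOf_eq_two hu2 hu1) fun hm => hp1 (by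
          have : p ∈ P ⊓ B := Subgroup.mem_inf.2 ⟨hp, by simpa [hu₀] using mul_mem (inv_mem hiB) hm⟩
          rwa [h.split.disj, Subgroup.mem_bot] at this)
      obtain ⟨g, hg⟩ := isConj_iff.1 hut.symm
      obtain ⟨ρ₁, hρ₁s, hρ₁τ, hW, hW1⟩ := perm_word _ (hsgn τ) hττ hτ1 _ hσs hσ3 hσ1 hσi
      obtain ⟨s, hsP, hsH, hπs'⟩ := hPimg ⟨ρ₁, Equiv.Perm.mem_alternatingGroup.2 hρ₁s⟩ (Subtype.ext hρ₁τ.symm)
      let b : ↥(Subgroup.centralizer ({r} : Set G)) := ⟨s, hsH⟩ * y * ⟨s, hsH⟩⁻¹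
      have hb : π b = ⟨ρ₁, Equiv.Perm.mem_alternatingGroup.2 hρ₁s⟩ * σ *
          (⟨ρ₁, Equiv.Perm.mem_alternatingGroup.2 hρ₁s⟩ : A5)⁻¹ := by
        simp only [b]; rw [map_mul, map_mul, map_inv, hπs', hπy]
      let W : ↥(Subgroup.centralizer ({r} : Set G)) := y * b * y * b ^ 2
      have hsu : s * u₀ * s⁻¹ = u₀ := by
        have hsi : Commute s i := h.split.comm s hsP i hiB
        have hsp : Commute s p := by
          have := h.split.P_sq _ (mul_mem hsP hp)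
          show s * p = p * s
          rw [← inv_eq_of_mul_eq_one_right this, mul_inv_rev, inv_eq_of_mul_eq_one_right (h.split.P_sq _ hp),
            inv_eq_of_mul_eq_one_right (h.split.P_sq _ hsP)]
        rw [hu₀, (hsi.mul_right hsp).eq, mul_inv_cancel_right]
      have huy : u₀ * (y : G) = (y : G) * u₀ := mul_inv_eq_iff_eq_mul.1 hpy
      have hub : u₀ * (b : G) = (b : G) * u₀ := by
        show u₀ * (s * (y : G) * s⁻¹) = s * (y : G) * s⁻¹ * u₀
        conv_lhs => rw [← hsu]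
        conv_rhs => rw [← hsu]
        rw [conj_mul, conj_mul, huy]
      have hgB : ∀ w : G, orderOf w = 3 → u₀ * w = w * u₀ → g * w * g⁻¹ ∈ B := fun w hw hcw =>
        h.mem_B_of_odd (Or.inl rfl) (mem_cz.2 (by rw [← hg, conj_mul, conj_mul, hcw]))
          (by rw [CfsgLib.Involution.Dihedral.orderOf_conj, hw])
      have hbB : g * (b : G) * g⁻¹ ∈ B := hgB _ (by
        show orderOf (s * (y : G) * s⁻¹) = 3
        rw [CfsgLib.Involution.Dihedral.orderOf_conj, hyo]) hub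
      have hyB := hgB _ hyo huy
      have hWB : g * (W : G) * g⁻¹ ∈ B := by
        have e : g * (W : G) * g⁻¹ = (g * (y : G) * g⁻¹) * (g * (b : G) * g⁻¹) * (g * (y : G) * g⁻¹) *
            (g * (b : G) * g⁻¹) ^ 2 := by
          simp only [W, Subgroup.coe_mul, Subgroup.coe_pow, _root_.conj_pow]; group
        rw [e]
        exact mul_mem (mul_mem (mul_mem hyB hbB) hyB) (pow_mem hbB 2)
      have hπW : (π W : Equiv.Perm (Fin 5)) = σ₀ * (ρ₁ * σ₀ * ρ₁⁻¹) * σ₀ * (ρ₁ * σ₀ * ρ₁⁻¹) ^ 2 := by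
        show (π (y * b * y * b ^ 2) : Equiv.Perm (Fin 5)) = _
        rw [map_mul, map_mul, map_mul, hπy, map_pow π b 2, hb]; rfl
      have hπWW : π (W * W) = 1 := Subtype.ext (by rw [map_mul, Subgroup.coe_mul, hπW]; exact hW)
      have h10 : ((W : G) * W) ^ 5 = 1 := by
        refine orderOf_dvd_iff_pow_eq_one.1 ?_
        rw [← hr, ← Nat.card_zpowers r]
        exact Subgroup.orderOf_dvd_natCard _ ((hπ _).1 hπWW)
      let u : ↥(Subgroup.centralizer ({r} : Set G)) := W ^ 5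
      have huu : u * u = 1 := Subtype.ext (by
        show (W : G) ^ 5 * (W : G) ^ 5 = 1
        rw [← (Commute.refl (W : G)).mul_pow, h10])
      have hπu : π u = π W := by
        simp only [u]
        rw [map_pow, show π W ^ 5 = π W * π W * (π W * π W) * π W by simp only [pow_succ, pow_zero, one_mul, mul_assoc],
          ← map_mul π W W, hπWW, one_mul, one_mul]
      have hu1' : u ≠ 1 := fun e => hW1 (by rw [← hπW, ← hπu, e, map_one]; rfl)
      have huz : IsConj z (g * (u : G) * g⁻¹) := by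
        refine h.split.Bz _ ?_ (orderOf_eq_two ?_ ?_)
        · show g * (W : G) ^ 5 * g⁻¹ ∈ B
          rw [← _root_.conj_pow]
          exact pow_mem hWB 5
        · rw [conj_mul, ← Subgroup.coe_mul, huu, Subgroup.coe_one, mul_one, mul_inv_cancel]
        · exact fun e => hu1' (Subtype.ext (conj_eq_one_iff.1 e))
      have hut' : IsConj t (u : G) := hcl _ (congrArg Subtype.val huu) (fun e => hu1' (Subtype.ext e))
        (mem_cz.1 u.2)
      exact h.m.not_isConj (huz.trans (hut'.trans (isConj_iff.2 ⟨g, rfl⟩)).symm)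
  intro w hw hwr
  exact (hconj ⟨w, mem_cz.2 hwr⟩ hw).trans hyc

end JData

end CfsgLib.Characterizations.HallJanko
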